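import Cfsg.Agent.H27.Act
import Cfsg.Agent.H17.Ext
import Cfsg.Agent.H21.Leech14

/-! Double coset enumeration with checked deductions. -/

set_option autoImplicit false

namespace Cfsg.Agent.H27.DC

open Cfsg Subgroup MulAction
open scoped Pointwise
open H16 (ifB ifB_eq allB allB_spec allL allL_iff Rep Inj InK tb tb_eq bit testBit_bit lbChain lbChain_le)
open H17 (Br nth ev ev_nil ev_cons weq eq_of_weq band band_true forceL forceL_eq CardLe)
open Tl (frc frc_eq rangeB)

/-- packed permutations used as letters -/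
structure Cx where
  w : ℕ
  n : ℕ
  one : ℕ
  L : Br ℕ
  base : List ℕ

section words
variable {H : Type} [Group H]

/-- value of a packed word; the lowest digit is the last letter -/
noncomputable def ev1 (g : ℕ → H) (f : ℕ) : ℕ → H :=
  Nat.rec (motive := fun _ => ℕ → H) (fun _ => 1)
    (fun _ ih x => ifB (Nat.beq x 0) 1 (ih (Nat.shiftRight x 8) * g (Nat.land x 255))) f

/-- value of a list of packed words; the head is the last factor -/
noncomputable def evR (g : ℕ → H) : List ℕ → H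
  | [] => 1
  | x :: r => evR g r * ev1 g 16 x

/-- all letters of a packed word satisfy `P` -/
noncomputable def digB (P : ℕ → Bool) (f : ℕ) : ℕ → Bool :=
  Nat.rec (motive := fun _ => ℕ → Bool) (fun _ => true)
    (fun _ ih x => ifB (Nat.beq x 0) true (band (frc (Nat.land x 255) P) (frc (Nat.shiftRight x 8) ih))) f

theorem ev1_mem {g : ℕ → H} {K : Subgroup H} {P : ℕ → Bool} (h : ∀ a, P a = true → g a ∈ K) :
    ∀ f x, digB P f x = true → ev1 g f x ∈ K
  | 0, _, _ => K.one_mem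
  | f + 1, x, e => by
    change ifB (Nat.beq x 0) true (band (frc _ P) (frc _ (digB P f))) = true at e
    change ifB (Nat.beq x 0) 1 (ev1 g f _ * g _) ∈ K
    rw [ifB_eq] at e ⊢
    split_ifs at e ⊢
    · exact K.one_mem
    · rw [band_true, frc_eq, frc_eq] at e
      exact K.mul_mem (ev1_mem h f _ e.2) (h _ e.1)

theorem ev1_zero (g : ℕ → H) : ev1 g 16 0 = 1 := (ifB_eq (Nat.beq 0 0) _ _).trans (if_pos rfl)

theorem ev1_lt (g : ℕ → H) {a : ℕ} (h0 : 0 < a) (h : a < 256) : ev1 g 16 a = g a := by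
  change ifB (Nat.beq a 0) (1 : H) (ev1 g 15 (a >>> 8) * g (a &&& 255)) = _
  have e1 : a >>> 8 = 0 := by rw [Nat.shiftRight_eq_div_pow]; omega
  have e2 : a &&& 255 = a := (Nat.and_two_pow_sub_one_eq_mod a 8).trans (Nat.mod_eq_of_lt h)
  rw [e1, e2, ifB_eq]
  split_ifs with h'
  · exact absurd (Nat.eq_of_beq_eq_true h') h0.ne'
  · rw [show ev1 g 15 0 = 1 from (ifB_eq (Nat.beq 0 0) _ _).trans (if_pos rfl), one_mul]

end words

namespace Cx
variable (C : Cx)

/-- the code of a letter -/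
noncomputable def cd (a : ℕ) : ℕ := C.L.get C.one a

noncomputable def ap1 (f : ℕ) : ℕ → ℕ → ℕ :=
  Nat.rec (motive := fun _ => ℕ → ℕ → ℕ) (fun _ y => y) (fun _ ih x y => ifB (Nat.beq x 0) y
    (frc (Nat.land x 255) fun a => frc (H16.get C.w (C.cd a) y) fun y' =>
      frc (Nat.shiftRight x 8) fun x' => ih x' y')) f

noncomputable def apR (r : List ℕ) : ℕ → ℕ :=
  List.rec (motive := fun _ => ℕ → ℕ) (fun y => y) (fun x _ ih y => frc (C.ap1 16 x y) ih) r

/-- two products agree on the base -/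
noncomputable def eqB (r s : List ℕ) : Bool := allL C.base fun b => Nat.beq (C.apR r b) (C.apR s b)

/-- the letter `k` is the identity, given, or a product of earlier letters -/
noncomputable def letB (k0 : ℕ) (df : List ℕ) (k : ℕ) : Bool :=
  ifB (Nat.beq (C.cd k) C.one) true (ifB (Nat.blt k k0) true (frc (nth 0 df k) fun x =>
    band (digB (fun a => Nat.blt a k) 16 x) (allB C.n fun i => Nat.beq (H16.get C.w (C.cd k) i) (C.ap1 16 x i))))

end Cx

variable {H Ω X : Type} [Group H] [MulAction H Ω] {C : Cx} {g : ℕ → H} {pt : ℕ → Ω}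

theorem ap1_rep {P : ℕ → Bool} (h : ∀ a < 256, P a = true → Rep pt C.n (g a) (H16.get C.w (C.cd a))) :
    ∀ f x, digB P f x = true → Rep pt C.n (ev1 g f x) (C.ap1 f x)
  | 0, _, _ => Rep.one
  | f + 1, x, e => by
    change ifB (Nat.beq x 0) true (band (frc _ P) (frc _ (digB P f))) = true at e
    change Rep pt C.n (ifB (Nat.beq x 0) 1 (ev1 g f _ * g _)) (fun y => ifB (Nat.beq x 0) y
      (frc (Nat.land x 255) fun a => frc (H16.get C.w (C.cd a) y) fun y' =>
        frc (Nat.shiftRight x 8) fun x' => C.ap1 f x' y'))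
    simp only [ifB_eq, frc_eq] at e ⊢
    split_ifs at e ⊢
    · exact Rep.one
    · rw [band_true] at e
      exact (ap1_rep h f _ e.2).comp (h _ (Nat.lt_succ_of_le Nat.and_le_right) e.1)

theorem digB_true : ∀ f x, digB (fun _ => true) f x = true
  | 0, _ => rfl
  | f + 1, x => by
    change ifB (Nat.beq x 0) true (band (frc _ _) (frc _ (digB _ f))) = true
    rw [frc_eq, frc_eq, digB_true f, ifB_eq]
    exact ite_self _

/-- the letters act as their codes, and the base is a base -/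
structure OK (C : Cx) (g : ℕ → H) (pt : ℕ → Ω) : Prop where
  rep : ∀ a < 256, Rep pt C.n (g a) (H16.get C.w (C.cd a))
  bl : ∀ b ∈ C.base, b < C.n
  faith : ∀ h : H, (∀ b ∈ C.base, h • pt b = pt b) → h = 1
  inj : Inj pt C.n
  one : Rep pt C.n (1 : H) (H16.get C.w C.one)

theorem exists_rep (h1 : Rep pt C.n (1 : H) (H16.get C.w C.one)) {k0 : ℕ} {df : List ℕ}
    (h0 : ∀ k < k0, InK pt C.n (⊤ : Subgroup H) (H16.get C.w (C.cd k))) (h : ∀ k < 256, C.letB k0 df k = true) :
    ∃ g : ℕ → H, ∀ a < 256, Rep pt C.n (g a) (H16.get C.w (C.cd a)) := by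
  have : ∀ k, k < 256 → ∃ a : H, Rep pt C.n a (H16.get C.w (C.cd k)) := fun k => by
    induction k using Nat.strong_induction_on with
    | _ k ih =>
      intro hk
      have e := h k hk
      rw [Cx.letB, ifB_eq, ifB_eq, frc_eq] at e
      split_ifs at e with a b
      · exact ⟨1, Nat.eq_of_beq_eq_true a ▸ h1⟩
      · obtain ⟨u, -, hu⟩ := h0 k (by simpa using b); exact ⟨u, hu⟩
      · rw [band_true] at e
        choose! g hg using ih
        exact ⟨_, (ap1_rep (g := g) (fun a ha p => hg a (by simpa using p) ha) 16 _ e.1).congr fun i hi =>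
          Nat.eq_of_beq_eq_true (allB_spec e.2 i hi)⟩
  choose! g hg using this
  exact ⟨g, hg⟩

namespace OK
variable (h : OK C g pt)
include h

theorem ap1 (x : ℕ) : Rep pt C.n (ev1 g 16 x) (C.ap1 16 x) :=
  ap1_rep (fun a ha _ => h.rep a ha) 16 x (digB_true ..)

theorem apR : ∀ r : List ℕ, Rep pt C.n (evR g r) (C.apR r)
  | [] => Rep.one
  | x :: r => ((apR r).comp (h.ap1 x)).congr fun _ _ => frc_eq ..

theorem ext {a b : H} (e : ∀ y ∈ C.base, a • pt y = b • pt y) : a = b :=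
  (inv_mul_eq_one.1 (h.faith _ fun y hy => by rw [mul_smul, e y hy, inv_smul_smul])).symm

theorem eqB {r s : List ℕ} (e : C.eqB r s = true) : evR g r = evR g s :=
  h.ext fun y hy => by
    rw [(h.apR r y (h.bl y hy)).2, (h.apR s y (h.bl y hy)).2, Nat.eq_of_beq_eq_true (allL_iff.1 e y hy)]

theorem uniq {a b : H} {f : ℕ → ℕ} (p : Rep pt C.n a f) (q : Rep pt C.n b f) : a = b :=
  h.ext fun y hy => (p y (h.bl y hy)).2.trans (q y (h.bl y hy)).2.symm

theorem send {r : List ℕ} {y a : ℕ} (hy : y < C.n) (e : Nat.beq (C.apR r y) a = true) : evR g r • pt y = pt a :=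
  Nat.eq_of_beq_eq_true e ▸ (h.apR r y hy).2

end OK

/-- fields of a packed fact -/
noncomputable def fb (f : ℕ) : ℕ := Nat.land f 4095
noncomputable def fj (f : ℕ) : ℕ := Nat.land (Nat.shiftRight f 12) 65535
noncomputable def fk (f : ℕ) : ℕ := Nat.land (Nat.shiftRight f 28) 65535
noncomputable def fw (f : ℕ) : ℕ := Nat.shiftRight f 44

/-- the table of facts -/
noncomputable def fc (W : ℕ) (F : Br ℕ) (i : ℕ) : ℕ :=
  frc (Nat.shiftRight i 6) fun a => H16.get W (F.get 0 a) (Nat.land i 63)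

section engine
variable [MulAction H X] (τ : Ω → X → X) (pt)

/-- applies the symbols, the head first -/
def tauS : List ℕ → X → X
  | [], q => q
  | a :: A, q => tauS A (τ (pt a) q)

/-- the nodes -/
noncomputable def node (x0 : X) (D : ℕ → ℕ) : ℕ → X
  | 0 => x0
  | k + 1 => if _ : D k / 4096 ≤ k then τ (pt (D k % 4096)) (node x0 D (D k / 4096)) else x0

variable (g)

def Holds (p : ℕ → X) (f : ℕ) : Prop :=
  (fb f = 0 → p (fj f) = ev1 g 16 (fw f) • p (fk f)) ∧
    ∀ y, fb f = y + 1 → τ (pt y) (p (fj f)) = ev1 g 16 (fw f) • p (fk f)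

/-- follows a list of moves; `3` ends the walk -/
noncomputable def walk (C : Cx) (F : ℕ → ℕ) (i : ℕ) (k : List ℕ → List ℕ → List ℕ → ℕ → Bool) (ops : List ℕ) :
    List ℕ → List ℕ → ℕ → Bool :=
  List.rec (motive := fun _ => List ℕ → List ℕ → ℕ → Bool) (k [])
    (fun o t ih A r j => frc (Nat.shiftRight o 2) fun v => frc (Nat.land o 3) fun s =>
      ifB (Nat.ble 2 s) (ifB (Nat.beq s 2) (band (Nat.beq j 0) (ih A [v] 0))
          (ifB (Nat.beq v 0) (k t A r j) (band (C.eqB r [v]) (ih A [v] j))))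
        (frc (F v) fun f => band (band (Nat.blt v i) (Nat.beq (fj f) j)) (frc (fw f) fun c => frc (fk f) fun j' =>
          ifB (Nat.beq (fb f) 0) (ih A (c :: r) j') (List.rec (motive := fun _ => Bool) false
            (fun a A' _ => band (band (Nat.ble (fb f) C.n) (Nat.beq (C.apR r (Nat.pred (fb f))) a))
              (ih A' (c :: r) j')) A)))) ops

theorem walk_cons (C : Cx) (F : ℕ → ℕ) (i : ℕ) (k : List ℕ → List ℕ → List ℕ → ℕ → Bool) (o : ℕ)
    (t A r : List ℕ) (j : ℕ) : walk C F i k (o :: t) A r j =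
    frc (Nat.shiftRight o 2) fun v => frc (Nat.land o 3) fun s =>
      ifB (Nat.ble 2 s) (ifB (Nat.beq s 2) (band (Nat.beq j 0) (walk C F i k t A [v] 0))
          (ifB (Nat.beq v 0) (k t A r j) (band (C.eqB r [v]) (walk C F i k t A [v] j))))
        (frc (F v) fun f => band (band (Nat.blt v i) (Nat.beq (fj f) j)) (frc (fw f) fun c => frc (fk f) fun j' =>
          ifB (Nat.beq (fb f) 0) (walk C F i k t A (c :: r) j') (List.rec (motive := fun _ => Bool) false
            (fun a A' _ => band (band (Nat.ble (fb f) C.n) (Nat.beq (C.apR r (Nat.pred (fb f))) a))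
              (walk C F i k t A' (c :: r) j')) A))) := rfl

variable {τ pt g}

theorem walk_sound (h : OK C g pt) (hτ : ∀ (a : H) ω q, a • τ ω q = τ (a • ω) (a • q)) {p : ℕ → X}
    (h0 : ∀ a : H, a • p 0 = p 0) {F : ℕ → ℕ} {i : ℕ} (hF : ∀ v < i, Holds g pt τ p (F v))
    {k : List ℕ → List ℕ → List ℕ → ℕ → Bool} : ∀ (ops A r : List ℕ) (j : ℕ), walk C F i k ops A r j = true →
      ∃ t A' r' j', k t A' r' j' = true ∧ tauS pt τ A (evR g r • p j) = tauS pt τ A' (evR g r' • p j')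
  | [], A, r, j, e => ⟨_, _, _, _, e, rfl⟩
  | o :: t, A, r, j, e => by
    simp only [walk_cons, frc_eq, ifB_eq, band_true] at e
    split_ifs at e with a b c d
    · rw [band_true] at e
      obtain ⟨_, _, _, _, x, y⟩ := walk_sound h hτ h0 hF t _ _ _ e.2
      exact ⟨_, _, _, _, x, by rw [← y, Nat.eq_of_beq_eq_true e.1, h0, h0]⟩
    · exact ⟨_, _, _, _, e, rfl⟩
    · rw [band_true] at e
      obtain ⟨_, _, _, _, x, y⟩ := walk_sound h hτ h0 hF t _ _ _ e.2
      exact ⟨_, _, _, _, x, by rw [← y, h.eqB e.1]⟩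
    · simp only [band_true, Nat.blt_eq, Nat.beq_eq] at e d
      obtain ⟨⟨e1, e2⟩, e⟩ := e
      obtain ⟨_, _, _, _, x, y⟩ := walk_sound h hτ h0 hF t _ _ _ e
      exact ⟨_, _, _, _, x, by rw [← y, ← e2, (hF _ e1).1 d, evR, mul_smul]⟩
    · simp only [band_true, Nat.blt_eq, Nat.beq_eq] at e d
      obtain ⟨⟨e1, e2⟩, e⟩ := e
      rcases A with _ | ⟨a, A⟩
      · cases e
      · change band (band _ _) _ = true at e
        rw [band_true, band_true] at e
        obtain ⟨_, _, _, _, x, y⟩ := walk_sound h hτ h0 hF t _ _ _ e.2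
        obtain ⟨z, hz⟩ := Nat.exists_eq_succ_of_ne_zero d
        have l := Nat.le_of_ble_eq_true e.1.1
        have s := e.1.2
        rw [hz] at l s
        exact ⟨_, _, _, _, x, by rw [← y, ← e2, tauS, ← h.send l s, ← hτ, (hF _ e1).2 z hz, evR, mul_smul]⟩

/-- the fact `f` closes the two walks -/
noncomputable def finB (C : Cx) (f : ℕ) (v : List ℕ) (jv : ℕ) (_ A u : List ℕ) (ju : ℕ) : Bool :=
  band (band (band (Nat.beq (fj f) ju) (Nat.beq (fk f) jv)) (C.eqB (fw f :: u) v))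
    (ifB (Nat.beq (fb f) 0) (weq A []) (band (Nat.ble (fb f) C.n) (weq A [C.apR u (Nat.pred (fb f))])))

/-- both walks -/
noncomputable def both (C : Cx) (F : ℕ → ℕ) (i f u0 j0 : ℕ) (ops A a B : List ℕ) : Bool :=
  walk C F i (fun t B' v jv => band (weq B' []) (walk C F i (finB C f v jv) t A (u0 :: a) j0)) ops B [u0] j0

/-- one deduction: `s = [rule, β, u0, j0, moves…]` -/
noncomputable def stepB (C : Cx) (F D : ℕ → ℕ) (Bs : ℕ) (Rl : Br (List ℕ × List ℕ)) (i : ℕ) (s : List ℕ) : Bool :=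
  frc (F i) fun f => frc (nth 0 s 0) fun r =>
    ifB (Nat.beq r 2) (band (band (Nat.beq (fw f) 0) (Nat.blt (fj f) (fk f)))
        (band (Nat.blt 0 (fb f))
          (Nat.beq (D (Nat.pred (fk f))) (Nat.add (Nat.mul (fj f) 4096) (Nat.pred (fb f))))))
      (ifB (Nat.beq r 3) (band (Nat.beq (Nat.shiftRight f 12) 0) (band (Nat.blt 0 (fb f)) (tb Bs (Nat.pred (fb f)))))
        (frc (nth 0 s 2) fun u0 => frc (nth 0 s 3) fun j0 =>
          ifB (Nat.ble r 1) (frc (nth 0 s 1) fun β => forceL (ifB (Nat.beq r 0) [β] []) fun A =>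
              both C F i f u0 j0 s.tail.tail.tail.tail A [] A)
            (frc (Nat.sub r 4) fun r' =>
              both C F i f u0 j0 s.tail.tail.tail.tail (Rl.get ([], []) r').1 (Rl.get ([], []) r').2 [])))

theorem both_sound (h : OK C g pt) (hτ : ∀ (a : H) ω q, a • τ ω q = τ (a • ω) (a • q)) {p : ℕ → X}
    (h0 : ∀ a : H, a • p 0 = p 0) {F : ℕ → ℕ} {i : ℕ} (hF : ∀ v < i, Holds g pt τ p (F v)) {f u0 j0 : ℕ}
    {ops A a B : List ℕ} (hR : ∀ q, tauS pt τ A (evR g a • q) = tauS pt τ B q)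
    (e : both C F i f u0 j0 ops A a B = true) : Holds g pt τ p f := by
  obtain ⟨t, B', v, jv, x, y⟩ := walk_sound h hτ h0 hF _ _ _ _ e
  rw [band_true] at x
  obtain ⟨_, A', u, ju, x', y'⟩ := walk_sound h hτ h0 hF _ _ _ _ x.2
  rw [eq_of_weq x.1, evR, evR, one_mul, ← hR, tauS, ← mul_smul, ← evR, y'] at y
  simp only [finB, band_true, ifB_eq, Nat.beq_eq] at x'
  obtain ⟨⟨⟨rfl, rfl⟩, a⟩, b⟩ := x'
  rw [← h.eqB a, evR, mul_smul] at y
  split_ifs at b with c
  · rw [eq_of_weq b, tauS] at y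
    exact ⟨fun _ => smul_left_cancel _ y, fun z hz => by omega⟩
  · refine ⟨fun d => absurd d c, fun z hz => ?_⟩
    rw [band_true, hz] at b
    rw [eq_of_weq b.2, tauS, tauS, Nat.pred_succ, ← (h.apR u _ (Nat.le_of_ble_eq_true b.1)).2, ← hτ] at y
    exact smul_left_cancel _ y

theorem step_sound (h : OK C g pt) (hτ : ∀ (a : H) ω q, a • τ ω q = τ (a • ω) (a • q)) {x0 : X}
    (h0 : ∀ a : H, a • x0 = x0) {F D : ℕ → ℕ} {Bs : ℕ} (hB : ∀ y, Bs.testBit y = true → τ (pt y) x0 = x0)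
    {Rl : Br (List ℕ × List ℕ)} (hR : Rl.All fun R => ∀ q, tauS pt τ R.1 (evR g R.2 • q) = q) {i : ℕ}
    (hF : ∀ v < i, Holds g pt τ (node pt τ x0 D) (F v)) {s : List ℕ} (e : stepB C F D Bs Rl i s = true) :
    Holds g pt τ (node pt τ x0 D) (F i) := by
  have h0' : ∀ a : H, a • node pt τ x0 D 0 = node pt τ x0 D 0 := fun a => by rw [node]; exact h0 a
  simp only [stepB, frc_eq, forceL_eq, ifB_eq] at e
  split_ifs at e with a b c d
  · simp only [band_true, Nat.beq_eq, Nat.blt_eq] at e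
    obtain ⟨⟨e1, e2⟩, e3, e4⟩ := e
    refine ⟨fun z => by omega, fun y hy => ?_⟩
    obtain ⟨k, hk⟩ := Nat.exists_eq_succ_of_ne_zero (Nat.ne_zero_of_lt e2)
    have l : fb (F i) ≤ 4095 := Nat.and_le_right
    rw [hk, hy] at e4
    change D k = fj (F i) * 4096 + y at e4
    have e5 : D k / 4096 = fj (F i) := by omega
    have e6 : D k % 4096 = y := by omega
    rw [e1, hk, ev1_zero, one_smul, node, dif_pos (by omega), e5, e6]
  · simp only [band_true, Nat.beq_eq, Nat.blt_eq, tb_eq] at e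
    obtain ⟨e1, e2, e3⟩ := e
    have e4 : ∀ k, 12 ≤ k → Nat.shiftRight (F i) k = 0 := fun k hk => by
      obtain ⟨m, rfl⟩ := Nat.exists_eq_add_of_le hk
      change F i >>> (12 + m) = 0
      rw [Nat.shiftRight_add, show F i >>> 12 = 0 from e1, Nat.zero_shiftRight]
    refine ⟨fun z => by omega, fun y hy => ?_⟩
    rw [hy] at e3
    rw [fj, fk, fw, e4 12 (by omega), e4 28 (by omega), e4 44 (by omega), ev1_zero, one_smul]
    change τ _ (node pt τ x0 D 0) = node pt τ x0 D 0
    rw [node]; exact hB y e3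
  · exact both_sound h hτ h0' hF (fun q => by rw [evR, one_smul]) e
  · exact both_sound h hτ h0' hF (fun q => by rw [evR, one_smul]) e
  · exact both_sound h hτ h0' hF (hR.get (P := fun R : List ℕ × List ℕ => ∀ q, tauS pt τ R.1 (evR g R.2 • q) = q)
      (d := ([], [])) (fun q => one_smul H q) _) e

/-- a block of deductions -/
noncomputable def stepsB (P : ℕ → List ℕ → Bool) (S : List (List ℕ)) : ℕ → ℕ → Bool :=
  List.rec (motive := fun _ => ℕ → ℕ → Bool) (fun i m => Nat.ble m i)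
    (fun s _ ih i m => band (forceL s (P i)) (frc (Nat.succ i) fun i' => ih i' m)) S

theorem steps_add {P : ℕ → List ℕ → Bool} {Q : ℕ → Prop} (hP : ∀ i s, (∀ v < i, Q v) → P i s = true → Q i) :
    ∀ (S : List (List ℕ)) {i m : ℕ}, (∀ v < i, Q v) → stepsB P S i m = true → ∀ v < m, Q v
  | [], _, _, h, e => fun v hv => h v (hv.trans_le (Nat.le_of_ble_eq_true e))
  | s :: S, i, m, h, e => by
    change band _ _ = true at e
    rw [band_true, forceL_eq, frc_eq] at e
    exact steps_add hP S (fun v hv => (Nat.lt_succ_iff_lt_or_eq.1 hv).elim (h v) fun a => a ▸ hP i s h e.1) e.2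

/-- adds the end points of the edges, which start at `j` and end in `fin` -/
noncomputable def edgeS (F : ℕ → ℕ) (m fin j : ℕ) (E : List ℕ) : ℕ → ℕ :=
  List.rec (motive := fun _ => ℕ → ℕ) (fun S => S) (fun e _ ih S => frc e fun e => frc (F e) fun f =>
    ifB (band (band (Nat.blt e m) (Nat.beq (fj f) j)) (band (Nat.blt 0 (fb f)) (tb fin (fk f))))
      (frc (Nat.lor S (bit (Nat.pred (fb f)))) ih) 0) E

/-- the fact says that a letter fixes the node `j` -/
noncomputable def fixB (F : ℕ → ℕ) (m j e : ℕ) : Bool := frc e fun e => frc (F e) fun f =>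
  band (band (Nat.blt e m) (Nat.beq (fb f) 0)) (band (band (Nat.beq (fj f) j) (Nat.beq (fk f) j))
    (band (Nat.blt 0 (fw f)) (Nat.blt (fw f) 256)))

/-- adds images of points under the codes `cs` -/
noncomputable def growS (C : Cx) (cs P : List ℕ) : ℕ → ℕ :=
  List.rec (motive := fun _ => ℕ → ℕ) (fun S => S) (fun e _ ih S => frc (Nat.shiftRight e 4) fun y =>
    ifB (band (tb S y) (Nat.blt y C.n))
      (frc (Nat.lor S (bit (H16.get C.w (nth C.one cs (Nat.land e 15)) y))) ih) 0) P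

/-- a final node: number, letters that fix it, edges, covering, base and order bound -/
structure Fn where
  j : ℕ
  G : List ℕ
  E : List ℕ
  P : List ℕ
  B : List ℕ
  m : ℕ

noncomputable def Fn.chk (C : Cx) (F : ℕ → ℕ) (m fin n0 : ℕ) (d : Fn) : Bool :=
  band (allL d.G (fixB F m d.j)) (forceL (Tl.Cert.mapL (fun e => C.cd (fw (F e))) d.G) fun cs =>
    band (Nat.beq (Nat.land (growS C cs d.P (edgeS F m fin d.j d.E 0)) (Nat.pred (bit n0))) (Nat.pred (bit n0)))
      (ifB (Nat.beq d.j 0) true (band (allL d.B fun b => Nat.blt b C.n)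
        (band (Nat.blt 0 d.m) (Nat.ble d.m (lbChain C.w C.n d.B cs))))))

/-- bound for the number of points -/
def total (N : ℕ) : List Fn → ℕ
  | [] => 0
  | d :: l => (if d.j = 0 then 1 else N / d.m) + total N l

/-- the set of the final nodes -/
def finS : List Fn → ℕ
  | [] => 0
  | d :: l => 2 ^ d.j ||| finS l

theorem finS_bit {j : ℕ} : ∀ {l : List Fn}, (finS l).testBit j = true → ∃ d ∈ l, d.j = j
  | [], h => by simp [finS] at h
  | d :: l, h => by
    rw [finS, Nat.testBit_or, Bool.or_eq_true, Nat.testBit_two_pow] at h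
    rcases h with h | h
    · exact ⟨d, List.mem_cons_self, by simpa using h⟩
    · obtain ⟨e, a, b⟩ := finS_bit h; exact ⟨e, List.mem_cons_of_mem _ a, b⟩

variable (H) in
/-- the orbits of the final nodes -/
def YS (p : ℕ → X) (l : List Fn) : Set X := {q | ∃ (u : H) (k : ℕ), (finS l).testBit k = true ∧ q = u • p k}

theorem mapL_eq (f : ℕ → ℕ) : ∀ l, Tl.Cert.mapL f l = l.map f
  | [] => rfl
  | a :: l => congrArg (f a :: ·) (mapL_eq f l)

section fin
variable (h : OK C g pt) (hτ : ∀ (a : H) ω q, a • τ ω q = τ (a • ω) (a • q)) {p : ℕ → X} {F : ℕ → ℕ} {m : ℕ}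
  (hF : ∀ v < m, Holds g pt τ p (F v))
include hF

theorem edgeS_sound {fin j : ℕ} : ∀ (E : List ℕ) (S : ℕ),
    (∀ y, S.testBit y = true → ∃ (a : H) (k : ℕ), fin.testBit k = true ∧ τ (pt y) (p j) = a • p k) →
    ∀ y, (edgeS F m fin j E S).testBit y = true → ∃ (a : H) (k : ℕ), fin.testBit k = true ∧ τ (pt y) (p j) = a • p k
  | [], _, hS => hS
  | e :: E, S, hS => by
    rw [show edgeS F m fin j (e :: E) S = frc e fun e => frc (F e) fun f =>
      ifB (band (band (Nat.blt e m) (Nat.beq (fj f) j)) (band (Nat.blt 0 (fb f)) (tb fin (fk f))))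
        (frc (Nat.lor S (bit (Nat.pred (fb f)))) (edgeS F m fin j E)) 0 from rfl]
    simp only [frc_eq, ifB_eq, band_true, Nat.blt_eq, Nat.beq_eq, tb_eq]
    split_ifs with a
    · refine edgeS_sound E _ fun y hy => ?_
      rw [H17.lor_eq, Nat.testBit_or, Bool.or_eq_true, testBit_bit] at hy
      exact hy.elim (hS y) fun e' => ⟨_, _, a.2.2, a.1.2 ▸ (hF e a.1.1).2 y (by
        have := a.2.1; rw [e', Nat.pred_eq_sub_one]; omega)⟩
    · simp

include h

theorem fix_sound {j : ℕ} {G : List ℕ} (e : allL G (fixB F m j) = true) :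
    ∀ c ∈ G.map fun e => C.cd (fw (F e)), InK pt C.n (stabilizer H (p j)) (H16.get C.w c) := fun c hc => by
  obtain ⟨v, hv, rfl⟩ := List.mem_map.1 hc
  have := allL_iff.1 e v hv
  simp only [fixB, frc_eq, band_true, Nat.blt_eq, Nat.beq_eq] at this
  obtain ⟨⟨a, b⟩, ⟨c, d⟩, l0, l⟩ := this
  have := (hF v a).1 b
  rw [c, d, ev1_lt g l0 l] at this
  exact ⟨_, this.symm, h.rep _ l⟩

omit hF in
theorem growS_sound {K : Subgroup H} {cs : List ℕ} (hc : ∀ c ∈ cs, InK pt C.n K (H16.get C.w c)) {Q : Ω → Prop}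
    (hQ : ∀ a ∈ K, ∀ ω, Q ω → Q (a • ω)) : ∀ (P : List ℕ) (S : ℕ), (∀ y, S.testBit y = true → Q (pt y)) →
    ∀ y, (growS C cs P S).testBit y = true → Q (pt y)
  | [], _, hS => hS
  | e :: P, S, hS => by
    rw [show growS C cs (e :: P) S = frc (Nat.shiftRight e 4) fun y => ifB (band (tb S y) (Nat.blt y C.n))
      (frc (Nat.lor S (bit (H16.get C.w (nth C.one cs (Nat.land e 15)) y))) (growS C cs P)) 0 from rfl]
    simp only [frc_eq, ifB_eq, band_true, Nat.blt_eq, tb_eq]
    split_ifs with a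
    · refine growS_sound hc hQ P _ fun y hy => ?_
      rw [H17.lor_eq, Nat.testBit_or, Bool.or_eq_true, testBit_bit] at hy
      refine hy.elim (hS y) fun e' => ?_
      obtain ⟨u, hu, r⟩ := H17.nth_prop (P := fun c => InK pt C.n K (H16.get C.w c)) ⟨1, K.one_mem, h.one⟩ hc (Nat.land e 15)
      rw [e', ← (r _ a.2).2]
      exact hQ u hu _ (hS _ a.1)
    · simp

omit h hF in
theorem low_bits {S n y : ℕ} (e : Nat.beq (Nat.land S (Nat.pred (bit n))) (Nat.pred (bit n)) = true) (hy : y < n) :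
    S.testBit y = true := by
  have := congrArg (·.testBit y) (Nat.eq_of_beq_eq_true e)
  simpa [H16.bit_eq, H17.land_eq, Nat.pred_eq_sub_one, Nat.testBit_two_pow_sub_one, hy] using this

include hτ

/-- **the points reached**: a finite set of points that is closed under everything -/
theorem final [Finite H] {N n0 : ℕ} (hN : Nat.card H = N) (h0 : ∀ a : H, a • p 0 = p 0)
    (hΩ : ∀ (a : H) y, y < n0 → ∃ y' < n0, a • pt y = pt y') {l : List Fn} (hl0 : (finS l).testBit 0 = true)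
    (hl : ∀ d ∈ l, d.chk C F m (finS l) n0 = true) :
    (YS H p l).Finite ∧ (YS H p l).ncard ≤ total N l ∧ p 0 ∈ YS H p l ∧ (∀ (a : H), ∀ q ∈ YS H p l, a • q ∈ YS H p l) ∧
      ∀ y < n0, ∀ q ∈ YS H p l, τ (pt y) q ∈ YS H p l := by
  have key : ∀ l' : List Fn, (∀ d ∈ l', d ∈ l) → ∃ Y : Set X, Y.Finite ∧ Y.ncard ≤ total N l' ∧
      ∀ d ∈ l', orbit H (p d.j) ⊆ Y := fun l' => by
    induction l' with
    | nil => exact fun _ => ⟨∅, Set.finite_empty, by simp, by simp⟩
    | cons d l' ih =>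
      intro hs
      obtain ⟨Y, a, b, c⟩ := ih fun e he => hs e (List.mem_cons_of_mem _ he)
      refine ⟨orbit H (p d.j) ∪ Y, (Set.finite_range _).union a, (Set.ncard_union_le _ _).trans (Nat.add_le_add ?_ b),
        List.forall_mem_cons.2 ⟨Set.subset_union_left, fun e he => (c e he).trans Set.subset_union_right⟩⟩
      have e := hl d (hs d List.mem_cons_self)
      simp only [Fn.chk, band_true, forceL_eq, ifB_eq, mapL_eq, Nat.beq_eq] at e
      split_ifs at e ⊢ with z
      · rw [z, show orbit H (p 0) = {p 0} from Set.eq_singleton_iff_unique_mem.2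
          ⟨mem_orbit_self _, fun _ ⟨a, ha⟩ => ha ▸ h0 a⟩, Set.ncard_singleton]
      · rw [band_true, band_true] at e
        have lb := (Nat.le_of_ble_eq_true e.2.2.2.2).trans (lbChain_le h.inj d.B
          (fun b hb => by simpa using allL_iff.1 e.2.2.1 b hb) _ (fix_sound h hF e.1))
        rw [Nat.le_div_iff_mul_le (by simpa using e.2.2.2.1), ← hN, ← index_stabilizer,
          ← (stabilizer H (p d.j)).index_mul_card]
        exact Nat.mul_le_mul_left _ lb
  obtain ⟨Y, a, b, c⟩ := key l fun _ h => h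
  refine ⟨a.subset ?_, le_trans (Set.ncard_le_ncard ?_ a) b, ⟨1, 0, hl0, (one_smul ..).symm⟩, ?_, ?_⟩
  iterate 2
    rintro _ ⟨u, k, hk, rfl⟩
    obtain ⟨d, hd, rfl⟩ := finS_bit hk
    exact c d hd (mem_orbit _ u)
  · rintro a _ ⟨u, k, hk, rfl⟩
    exact ⟨a * u, k, hk, (mul_smul ..).symm⟩
  · rintro y hy _ ⟨u, k, hk, rfl⟩
    obtain ⟨d, hd, rfl⟩ := finS_bit hk
    obtain ⟨y', hy', e'⟩ := hΩ u⁻¹ y hy
    have e := hl d hd
    simp only [Fn.chk, band_true, forceL_eq, mapL_eq] at e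
    obtain ⟨v, k, hk, e⟩ := growS_sound h (fix_sound h hF e.1)
      (Q := fun ω => ∃ (a : H) (k : ℕ), (finS l).testBit k = true ∧ τ ω (p d.j) = a • p k)
      (fun s hs ω ⟨a, k, x, z⟩ => ⟨s * a, k, x, by rw [mul_smul, ← z, hτ, hs]⟩) d.P _
      (edgeS_sound hF d.E 0 (by simp)) y' (low_bits e.2.1 hy')
    exact ⟨u * v, k, hk, by rw [mul_smul, ← e, hτ, ← e', smul_inv_smul]⟩

end fin

end engine

section grp
variable {G : Type} [Group G]

/-- cosets, with the action through `ι` -/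
def QX (_ : H →* G) (B : Subgroup G) : Type := G ⧸ B

instance (ι : H →* G) (B : Subgroup G) : MulAction G (QX ι B) := inferInstanceAs (MulAction G (G ⧸ B))
instance (ι : H →* G) (B : Subgroup G) : MulAction H (QX ι B) := MulAction.compHom (G ⧸ B) ι

/-- the trivial coset -/
def QX.o (ι : H →* G) (B : Subgroup G) : QX ι B := ((1 : G) : G ⧸ B)

theorem exists_T (ι : H →* G) {t : G} {ω : Ω} (ht : ∀ a : H, a • ω = ω → ι a * t = t * ι a) :
    ∃ T : Ω → G, T ω = t ∧ ∀ a ω', ι a * T ω' = T (a • ω') * ι a := by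
  classical
  let T : Ω → G := fun ω' => if e : ∃ a : H, a • ω = ω' then ι e.choose * t * (ι e.choose)⁻¹ else 1
  have k : ∀ a : H, T (a • ω) = ι a * t * (ι a)⁻¹ := fun a => by
    have e : ∃ b : H, b • ω = a • ω := ⟨a, rfl⟩
    have := ht (a⁻¹ * e.choose) (by rw [mul_smul, e.choose_spec, inv_smul_smul])
    simp only [T, dif_pos e]
    rw [map_mul, map_inv, mul_assoc, inv_mul_eq_iff_eq_mul] at this
    rw [this]; group
  refine ⟨T, by simpa using k 1, fun a ω' => ?_⟩
  by_cases e : ∃ b : H, b • ω = ω'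
  · obtain ⟨b, rfl⟩ := e
    rw [← mul_smul, k, k, map_mul]; group
  · have e' : ¬∃ b : H, b • ω = a • ω' := fun ⟨b, hb⟩ => e ⟨a⁻¹ * b, by rw [mul_smul, hb, inv_smul_smul]⟩
    simp only [T, dif_neg e, dif_neg e', one_mul, mul_one]

/-- moves the letters of `H` to the right -/
noncomputable def comp (C : Cx) (m : ℕ → ℕ) (k : List ℕ → List ℕ → Bool) (u : List ℕ) : List ℕ → List ℕ → Bool :=
  List.rec (motive := fun _ => List ℕ → List ℕ → Bool) k (fun l _ ih A r => frc (m l) fun c =>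
    frc (Nat.shiftRight c 1) fun x => ifB (Nat.beq (Nat.land c 1) 0) (ih A (x :: r))
      (band (Nat.blt x C.n) (frc (C.apR r x) fun a => ih (a :: A) r))) u

/-- the rules come from the words -/
noncomputable def rulesB (C : Cx) (m : ℕ → ℕ) (W : List (List ℕ)) : List (List ℕ × List ℕ) → Bool :=
  List.rec (motive := fun _ => List (List ℕ × List ℕ) → Bool) (fun R => R.isEmpty) (fun u _ ih R =>
    List.rec (motive := fun _ => Bool) true (fun d R' _ =>
      band (comp C m (fun A r => band (weq A d.1) (C.eqB r d.2)) u [] []) (ih R')) R) W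

variable {ι : H →* G} {T : Ω → G}

/-- product of the symbols -/
def tP (T : Ω → G) (pt : ℕ → Ω) : List ℕ → G
  | [] => 1
  | a :: A => tP T pt A * T (pt a)

theorem tauS_eq {Y : Type} [MulAction G Y] : ∀ (A : List ℕ) (q : Y), tauS pt (fun ω q => T ω • q) A q = tP T pt A • q
  | [], q => (one_smul G q).symm
  | a :: A, q => by rw [tauS, tauS_eq A, tP, mul_smul]

/-- the meaning of the letters of `G` -/
def Lets (g : ℕ → H) (pt : ℕ → Ω) (ι : H →* G) (T : Ω → G) (m : ℕ → ℕ) (f : ℕ → G) : Prop :=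
  ∀ l, f l = if Nat.land (m l) 1 = 0 then ι (ev1 g 16 (Nat.shiftRight (m l) 1)) else T (pt (Nat.shiftRight (m l) 1))

section
variable (h : OK C g pt) (hT : ∀ a ω, ι a * T ω = T (a • ω) * ι a) {m : ℕ → ℕ} {f : ℕ → G} (hm : Lets g pt ι T m f)
include h hT hm

theorem comp_sound {k : List ℕ → List ℕ → Bool} : ∀ (u A r : List ℕ), comp C m k u A r = true →
    ∃ A' r', k A' r' = true ∧ tP T pt A * ι (evR g r) * ev f u = tP T pt A' * ι (evR g r')
  | [], _, _, e => ⟨_, _, e, mul_one _⟩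
  | l :: u, A, r, e => by
    rw [show comp C m k (l :: u) A r = frc (m l) fun c => frc (Nat.shiftRight c 1) fun x =>
      ifB (Nat.beq (Nat.land c 1) 0) (comp C m k u A (x :: r))
        (band (Nat.blt x C.n) (frc (C.apR r x) fun a => comp C m k u (a :: A) r)) from rfl] at e
    simp only [frc_eq, ifB_eq, Nat.beq_eq] at e
    have := hm l
    split_ifs at e with a
    · obtain ⟨_, _, x, y⟩ := comp_sound u _ _ e
      rw [if_pos a] at this
      exact ⟨_, _, x, by rw [← y, ev_cons, this, evR, map_mul]; simp only [mul_assoc]⟩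
    · rw [band_true] at e
      obtain ⟨_, _, x, y⟩ := comp_sound u _ _ e.2
      rw [if_neg a] at this
      refine ⟨_, _, x, ?_⟩
      rw [← y, ev_cons, this, tP, ← (h.apR r _ (by simpa using e.1)).2, mul_assoc (tP T pt A) (T _), ← hT]
      simp only [mul_assoc]

theorem rules_sound {Y : Type} [MulAction G Y] : ∀ {W : List (List ℕ)} {R : List (List ℕ × List ℕ)},
    H17.Sat f W → rulesB C m W R = true →
    ∀ d ∈ R, ∀ q : Y, tauS pt (fun ω q => T ω • q) d.1 (ι (evR g d.2) • q) = q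
  | [], [], _, _ => by simp
  | _ :: _, [], _, _ => by simp
  | [], _ :: _, _, e => by cases e
  | u :: W, d :: R, s, e => by
    change band _ _ = true at e
    rw [band_true] at e
    refine List.forall_mem_cons.2 ⟨fun q => ?_, rules_sound (fun r hr => s r (List.mem_cons_of_mem _ hr)) e.2⟩
    obtain ⟨A, r, x, y⟩ := comp_sound h hT hm _ _ _ e.1
    rw [band_true] at x
    rw [s u List.mem_cons_self, eq_of_weq x.1, h.eqB x.2, tP, evR, map_one] at y
    rw [tauS_eq, ← mul_smul, ← y]; simp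

end

/-- the data of an enumeration -/
structure En where
  W : ℕ
  F : List ℕ
  D : List ℕ
  Bs : ℕ
  R : List (List ℕ × List ℕ)

noncomputable def En.f (E : En) : ℕ → ℕ := fc E.W (Br.ofList E.F)
noncomputable def En.d (E : En) : ℕ → ℕ := fc 28 (Br.ofList E.D)
noncomputable def En.chk (E : En) (C : Cx) : List (List ℕ) → ℕ → ℕ → Bool :=
  stepsB (stepB C E.f E.d E.Bs (Br.ofList E.R))

/-- the hypotheses on the groups -/
structure Ready (C : Cx) (E : En) (g : ℕ → H) (pt : ℕ → Ω) (ι : H →* G) (T : Ω → G) (B : Subgroup G) : Prop where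
  ok : OK C g pt
  conj : ∀ a ω, ι a * T ω = T (a • ω) * ι a
  sub : ∀ a, ι a ∈ B
  sym : ∀ y, E.Bs.testBit y = true → T (pt y) ∈ B
  rul : ∀ d ∈ E.R, ∀ q : G ⧸ B, tauS pt (fun ω q => T ω • q) d.1 (ι (evR g d.2) • q) = q

/-- the nodes as cosets -/
noncomputable abbrev nd (E : En) (pt : ℕ → Ω) (ι : H →* G) (T : Ω → G) (B : Subgroup G) : ℕ → QX ι B :=
  node pt (fun ω q => T ω • q) (QX.o ι B) E.d

/-- the first `m` facts hold -/
def Upto (E : En) (g : ℕ → H) (pt : ℕ → Ω) (ι : H →* G) (T : Ω → G) (B : Subgroup G) (m : ℕ) : Prop :=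
  ∀ v < m, Holds g pt (fun ω (q : QX ι B) => T ω • q) (nd E pt ι T B) (E.f v)

theorem fix_o {B : Subgroup G} {a : G} : a • QX.o ι B = QX.o ι B ↔ a ∈ B := by
  change ((a * 1 : G) : G ⧸ B) = (1 : G) ↔ _
  rw [QuotientGroup.eq]; simp

namespace Ready
variable {E : En} {B : Subgroup G} (h : Ready C E g pt ι T B)
include h

theorem eqv (a : H) (ω : Ω) (q : QX ι B) : a • T ω • q = T (a • ω) • a • q := by
  change ι a • T ω • q = T (a • ω) • ι a • q
  rw [← mul_smul, h.conj, mul_smul]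

theorem zero : Upto E g pt ι T B 0 := fun _ hv => by cases hv

theorem add {i m : ℕ} (hi : Upto E g pt ι T B i) {S : List (List ℕ)} (e : E.chk C S i m = true) :
    Upto E g pt ι T B m :=
  steps_add (fun _ _ a b => step_sound h.ok h.eqv (fun a => fix_o.2 (h.sub a)) (fun y hy => fix_o.2 (h.sym y hy))
    (Br.all_ofList h.rul) a b) S hi e

theorem nd_zero : nd E pt ι T B 0 = QX.o ι B := by rw [nd, node]

/-- **the cosets met by `K`** -/
theorem cover [Finite H] {m N n0 : ℕ} (hF : Upto E g pt ι T B m) (hN : Nat.card H = N)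
    (hΩ : ∀ (a : H) y, y < n0 → ∃ y' < n0, a • pt y = pt y') {l : List Fn} (hl0 : (finS l).testBit 0 = true)
    (hl : ∀ d ∈ l, d.chk C E.f m (finS l) n0 = true) {k : ℕ} {f : ℕ → G} {σ : List (List ℕ)}
    (hσ : ∀ u ∈ σ, (∃ a, ι a = ev f u) ∨ ∃ y < n0, T (pt y) = ev f u) (hk : total N l ≤ k) :
    (YS H (nd E pt ι T B) l).Finite ∧ (YS H (nd E pt ι T B) l).ncard ≤ k ∧
      ∀ a ∈ H17.wgrp f σ, a • QX.o ι B ∈ YS H (nd E pt ι T B) l := by
  obtain ⟨a, b, c, d, e⟩ := final h.ok h.eqv hF hN (fun a => by rw [h.nd_zero]; exact fix_o.2 (h.sub a)) hΩ hl0 hl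
  refine ⟨a, b.trans hk, fun u hu => ?_⟩
  have : H17.wgrp f σ ≤ stabilizer G (YS H (nd E pt ι T B) l) := H17.wgrp_le fun u hu => by
    rw [mem_stabilizer_set_iff_smul_set_subset a]
    rintro _ ⟨q, hq, rfl⟩
    rcases hσ u hu with ⟨v, hv⟩ | ⟨y, hy, hv⟩
    exacts [hv ▸ d v q hq, hv ▸ e y hy q hq]
  rw [← h.nd_zero, ← mem_stabilizer_iff.1 (this hu)]
  exact Set.smul_mem_smul_set c

end Ready

theorem cardLe_of_set {B K : Subgroup G} {Y : Set (QX ι B)} {k m : ℕ} (hB : CardLe B m)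
    (h : Y.Finite ∧ Y.ncard ≤ k ∧ ∀ a ∈ K, a • QX.o ι B ∈ Y) : CardLe K (k * m) := by
  obtain ⟨n, f, hf, rfl⟩ := h.1.fin_param
  have e : n ≤ k := by
    have := h.2.1
    rwa [Set.ncard_range_of_injective hf, Nat.card_eq_fintype_card, Fintype.card_fin] at this
  refine H17.cardLe_of_cover (fun j => if e : j < n then Quotient.out (f ⟨j, e⟩) else 1) hB fun a ha => ?_
  obtain ⟨j, hj⟩ := h.2.2 a ha
  refine ⟨j, j.2.trans_le e, ?_⟩
  rw [dif_pos j.2, ← QuotientGroup.eq]
  exact (QuotientGroup.out_eq' (s := B) (f j)).trans (hj.trans (congrArg _ (mul_one a)))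

end grp

section rep
open H17 (Presents Gens Sat invWords wgrp chkDer)
variable {G : Type} [Group G]

/-- image of a point under a word -/
noncomputable def apW (w : ℕ) (S u : List ℕ) (i : ℕ) : ℕ :=
  List.rec (motive := fun _ => ℕ) i (fun a _ ih => frc ih (H16.get w (nth 0 S a))) u

/-- the codes satisfy the relators -/
noncomputable def repB (w n k nc : ℕ) (S : List ℕ) (R : List (List ℕ)) : Bool :=
  band (band (Nat.beq ((nc - k) % 2) 0) (Nat.ble k nc)) (band
    (allB nc fun a => allB n fun i => Nat.blt (H16.get w (nth 0 S a) i) n)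
    ((invWords k nc ++ R).all fun u => band (allL u fun a => Nat.blt a nc) (allB n fun i => Nat.beq (apW w S u i) i)))

/-- `Fin n` with the action through `φ` -/
def PF {n : ℕ} (_ : G →* Equiv.Perm (Fin n)) : Type := Fin n

instance {n : ℕ} (φ : G →* Equiv.Perm (Fin n)) : MulAction G (PF φ) := MulAction.compHom (Fin n) φ

/-- the points -/
def PF.at {n : ℕ} [NeZero n] (φ : G →* Equiv.Perm (Fin n)) (i : ℕ) : PF φ := Fin.ofNat n i

theorem PF.inj {n : ℕ} [NeZero n] (φ : G →* Equiv.Perm (Fin n)) : Inj (PF.at φ) n := fun i hi j hj e => by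
  have := congrArg Fin.val e
  rwa [PF.at, PF.at, Fin.val_ofNat, Fin.val_ofNat, Nat.mod_eq_of_lt hi, Nat.mod_eq_of_lt hj] at this

theorem PF.surj {n : ℕ} [NeZero n] (φ : G →* Equiv.Perm (Fin n)) (ω : PF φ) : ∃ y < n, PF.at φ y = ω :=
  ⟨Fin.val ω, Fin.isLt ω, Fin.ext (Nat.mod_eq_of_lt (Fin.isLt ω))⟩

theorem exists_perm {k nc w n : ℕ} [NeZero n] {R : List (List ℕ)} {g : ℕ → G} (h : Presents k nc R g) {S : List ℕ}
    (e : repB w n k nc S R = true) :
    ∃ φ : G →* Equiv.Perm (Fin n), ∀ a < nc, H16.Rep (PF.at φ) n (g a) (H16.get w (nth 0 S a)) := by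
  simp only [repB, band_true, Nat.beq_eq, Nat.ble_eq, List.all_eq_true, List.mem_append, allL_iff, Nat.blt_eq] at e
  obtain ⟨⟨e1, e2⟩, e3, e4⟩ := e
  have lt : ∀ a < nc, ∀ i < n, H16.get w (nth 0 S a) i < n := fun a ha i hi => by
    simpa using allB_spec (allB_spec e3 a ha) i hi
  have iv : ∀ a < nc, H17.inv k a < nc ∧ ∀ i < n, H16.get w (nth 0 S a) (H16.get w (nth 0 S (H17.inv k a)) i) = i :=
    fun a ha => by
      have := e4 _ (.inl (H17.mem_invWords ha))
      exact ⟨this.1 _ (by simp), fun i hi => by simpa [apW, frc_eq] using allB_spec this.2 i hi⟩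
  let π : ℕ → Equiv.Perm (Fin n) := fun a => if ha : a < nc then
    ⟨fun i => ⟨_, lt a ha i i.2⟩, fun i => ⟨_, lt _ (iv a ha).1 i i.2⟩,
      fun i => Fin.ext (by have := (iv _ (iv a ha).1).2 i i.2; rwa [H17.inv_inv'] at this),
      fun i => Fin.ext ((iv a ha).2 i i.2)⟩ else 1
  have t : ∀ x, nc ≤ x → π x = 1 := fun x hx => dif_neg (not_lt.2 hx)
  have a1 : ∀ a < nc, ∀ i : Fin n, (π a i : ℕ) = H16.get w (nth 0 S a) i := fun a ha i => by
    simp only [π, dif_pos ha]; rfl
  have a2 : ∀ u : List ℕ, (∀ a ∈ u, a < nc) → ∀ i : Fin n, (ev π u i : ℕ) = apW w S u i := fun u => by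
    induction u with
    | nil => exact fun _ _ => rfl
    | cons a u ih =>
      intro hu i
      rw [ev_cons, Equiv.Perm.mul_apply, a1 a (hu a List.mem_cons_self), ih fun b hb => hu b (List.mem_cons_of_mem _ hb)]
      exact (frc_eq ..).symm
  have s : ∀ u, u ∈ invWords k nc ∨ u ∈ R → ev π u = 1 := fun u hu => Equiv.ext fun i =>
    Fin.ext ((a2 u (e4 u hu).1 i).trans (Nat.eq_of_beq_eq_true (allB_spec (e4 u hu).2 i i.2)))
  obtain ⟨φ, hφ⟩ := h.lift _ π (H17.inv_of_sat e1 e2 t fun u hu => s u (.inl hu)) t fun u hu => s u (.inr hu)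
  refine ⟨φ, fun a ha i hi => ⟨lt a ha i hi, Fin.ext ?_⟩⟩
  change (φ (g a) (Fin.ofNat n i) : ℕ) = _ % n
  rw [hφ, a1 a ha, Fin.val_ofNat, Nat.mod_eq_of_lt hi, Nat.mod_eq_of_lt (lt a ha i hi)]

/-- a table of cosets whose edges are labelled by words in the letters `σ` -/
noncomputable def rsB (k n nc : ℕ) (σ Wd : List (List ℕ)) (T : ℕ → ℕ → ℕ) (s : ℕ → ℕ → List ℕ) : Bool :=
  band (band (Nat.blt 0 n) (weq (nth [] Wd 0) [])) (allB n fun i => allB nc fun l => band (Nat.blt (T l i) n)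
    (weq (H17.mulL k (l :: nth [] Wd i) []) (H17.mulL k (nth [] Wd (T l i)) (H17.mulL k (H17.substW σ (s l i)) []))))

theorem cardLe_rs {k n nc m : ℕ} {g : ℕ → G} (h : Gens k nc g) {σ Wd : List (List ℕ)} {T : ℕ → ℕ → ℕ}
    {s : ℕ → ℕ → List ℕ} (e : rsB k n nc σ Wd T s = true) {K : Subgroup G} (hK : ∀ x, H17.sub σ g x ∈ K)
    (hm : CardLe K m) : CardLe (⊤ : Subgroup G) (n * m) := by
  simp only [rsB, band_true, Nat.blt_eq] at e
  refine H17.cardLe_of_cover (fun j => ev g (nth [] Wd j)) hm fun a _ => ?_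
  obtain ⟨u, rfl⟩ := h.surj a
  induction u with
  | nil => exact ⟨0, e.1.1, by rw [eq_of_weq e.1.2]; simp⟩
  | cons l u ih =>
    obtain ⟨i, hi, hu⟩ := ih trivial
    by_cases hl : l < nc
    · have := band_true.1 (allB_spec (allB_spec e.2 i hi) l hl)
      have e2 := congrArg (ev g) (eq_of_weq this.2)
      simp only [H17.ev_mulL h.inv, ev_nil, mul_one, ev_cons, ← H17.ev_sub] at e2
      refine ⟨_, by simpa using this.1, ?_⟩
      have : (ev g (nth [] Wd (T l i)))⁻¹ * ev g (l :: u) =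
          ev (H17.sub σ g) (s l i) * ((ev g (nth [] Wd i))⁻¹ * ev g u) := by
        rw [inv_mul_eq_iff_eq_mul, ← mul_assoc, ← e2, ev_cons]; group
      exact this ▸ K.mul_mem (H17.ev_mem fun x _ => hK x) hu
    · exact ⟨i, hi, by rwa [ev_cons, h.triv l (not_lt.1 hl), one_mul]⟩

/-- each word is the inverse of a letter followed by known letters -/
noncomputable def elimB (k m : ℕ) (W : List (List ℕ)) : ℕ → Bool :=
  List.rec (motive := fun _ => ℕ → Bool) (fun S => allB m (tb S)) (fun u _ ih S =>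
    band (allL u.tail (tb S)) (frc (Nat.lor S (Nat.lor (bit (nth 0 u 0)) (bit (H17.inv k (nth 0 u 0))))) ih)) W

theorem mem_of_elim {k m : ℕ} {g : ℕ → G} (hI : H17.Inv k g) {K : Subgroup G} : ∀ {W : List (List ℕ)} {S : ℕ},
    Sat g W → (∀ u ∈ W, u ≠ []) → (∀ x, S.testBit x = true → g x ∈ K) → elimB k m W S = true → ∀ x < m, g x ∈ K
  | [], _, _, _, h, e => fun x hx => h x ((tb_eq ..).symm.trans (allB_spec e x hx))
  | [] :: _, _, _, n, _, _ => absurd rfl (n _ List.mem_cons_self)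
  | (a :: u) :: W, S, s, n, h, e => by
    change band (allL u _) (frc _ (elimB k m W)) = true at e
    rw [band_true, frc_eq] at e
    have ha : g a ∈ K := by
      rw [eq_inv_of_mul_eq_one_left (s _ List.mem_cons_self)]
      exact K.inv_mem (H17.ev_mem fun x hx => h x ((tb_eq ..).symm.trans (allL_iff.1 e.1 x hx)))
    refine mem_of_elim hI (fun r hr => s r (List.mem_cons_of_mem _ hr)) (fun r hr => n r (List.mem_cons_of_mem _ hr))
      (fun x hx => ?_) e.2
    simp only [H17.lor_eq, Nat.testBit_or, Bool.or_eq_true, testBit_bit] at hx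
    rcases hx with hx | rfl | rfl
    exacts [h x hx, ha, (hI a).symm ▸ K.inv_mem ha]

end rep

end Cfsg.Agent.H27.DC
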