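import Cfsg.Agent.H27.DC

/-! Plain coset enumeration as a special case, and packed data. -/

set_option autoImplicit false

namespace Cfsg.Agent.H27.DC

open Cfsg Subgroup MulAction
open H16 (ifB ifB_eq allB allB_spec allL allL_iff Rep Inj InK tb tb_eq)
open H17 (Br nth ev ev_nil ev_cons band band_true CardLe wgrp)
open Tl (frc frc_eq)

/-- `m` lists, each preceded by its length -/
noncomputable def blk (w m : ℕ) : ℕ → List (List ℕ) :=
  Nat.rec (motive := fun _ => ℕ → List (List ℕ)) (fun _ => []) (fun _ ih X =>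
    frc (Nat.land X (Nat.pred (Nat.shiftLeft 1 w))) fun l => frc (Nat.shiftRight X w) fun Y =>
      frc (Nat.mul w l) fun s => frc (Nat.land Y (Nat.pred (Nat.shiftLeft 1 s))) fun Z =>
        H17.unp w l Z :: ih (Nat.shiftRight Y s)) m

noncomputable def blkL (w : ℕ) (L : List (ℕ × ℕ)) : List (List ℕ) :=
  List.rec (motive := fun _ => List (List ℕ)) [] (fun x _ ih =>
    List.rec (motive := fun _ => List (List ℕ)) ih (fun a _ ih' => a :: ih') (blk w x.1 x.2)) L

/-- symbols with the trivial action -/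
def TΩ : Type := ℕ

instance : MulAction Unit TΩ where
  smul _ x := x
  one_smul _ := rfl
  mul_smul _ _ _ := rfl

/-- no letters -/
noncomputable def Cx.triv (w n : ℕ) : Cx := ⟨w, n, H16.pid w n, .nil, []⟩

theorem ok_triv {w n : ℕ} (h : n ≤ 2 ^ w) : OK (H := Unit) (Ω := TΩ) (.triv w n) (fun _ => 1) id :=
  ⟨fun _ _ => Rep.pid h, fun _ h => (by cases h), fun _ _ => rfl, fun _ _ _ _ h => h, Rep.pid h⟩

variable {G : Type} [Group G] {f : ℕ → G}

theorem mem_pair {k : ℕ} (hI : H17.Inv k f) {σ : List (List ℕ)} {S : ℕ}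
    (h : (allB (Nat.log2 S + 1) fun x => H17.memW [x] σ || H17.memW [H17.inv k x] σ) = true) (x : ℕ)
    (hx : S.testBit x = true) : f x ∈ wgrp f σ := by
  have l : x < Nat.log2 S + 1 := by
    by_contra c
    rw [Nat.testBit_lt_two_pow ((Nat.lt_log2_self).trans_le (Nat.pow_le_pow_right (by norm_num) (not_lt.1 c)))] at hx
    cases hx
  rcases Bool.or_eq_true_iff.1 (allB_spec h x l) with e | e
  · simpa using H17.mem_wgrp f (H17.memW_sound e)
  · have := H17.mem_wgrp f (H17.memW_sound e)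
    rw [ev_cons, ev_nil, mul_one, hI] at this
    exact (inv_mem_iff (H := wgrp f σ)).1 this

theorem ready_triv {w n nc : ℕ} (h : n ≤ 2 ^ w) (ht : ∀ x, nc ≤ x → f x = 1) {ml un : List ℕ} {E : En}
    {W σ : List (List ℕ)} (hW : H17.Sat f W)
    (e : band (band (Nat.beq ml.length nc) (allB nc fun l => band (Nat.beq (Nat.land (nth 0 ml l) 1) 1)
      (Nat.beq (nth 0 un (Nat.shiftRight (nth 0 ml l) 1)) l))) (band (rulesB (.triv w n) (nth 0 ml) W E.R)
      (allB (Nat.log2 E.Bs + 1) fun y => !tb E.Bs y || H17.memW [nth 0 un y] σ)) = true) :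
    Ready (H := Unit) (Ω := TΩ) (.triv w n) E (fun _ => 1) id 1 (fun y => f (nth 0 un y)) (wgrp f σ) := by
  simp only [band_true, Nat.beq_eq] at e
  obtain ⟨⟨e1, e2⟩, e3, e4⟩ := e
  have c : ∀ (a : Unit) (ω : TΩ), (1 : Unit →* G) a * f (nth 0 un ω) = f (nth 0 un (a • ω)) * (1 : Unit →* G) a :=
    fun _ _ => (one_mul _).trans (mul_one _).symm
  refine ⟨ok_triv h, c, fun _ => one_mem _, fun y hy => ?_, rules_sound (f := f) (ok_triv h) c (fun l => ?_) hW e3⟩
  · have l : y < Nat.log2 E.Bs + 1 := by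
      by_contra c
      rw [Nat.testBit_lt_two_pow ((Nat.lt_log2_self).trans_le (Nat.pow_le_pow_right (by norm_num) (not_lt.1 c)))] at hy
      cases hy
    have := allB_spec e4 y l
    rw [tb_eq, hy] at this
    simpa using H17.mem_wgrp f (H17.memW_sound this)
  · by_cases hl : l < nc
    · have := allB_spec e2 l hl
      simp only [band_true, Nat.beq_eq] at this
      rw [if_neg (by rw [this.1]; decide)]
      exact congrArg f this.2.symm
    · rw [ht l (not_lt.1 hl), H17.nth_of_ge _ (e1 ▸ not_lt.1 hl), if_pos (by decide)]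
      rfl

/-- final nodes without letters -/
noncomputable def fnL (L : List (List ℕ)) : List Fn :=
  List.rec (motive := fun _ => List Fn) [] (fun s _ ih => ⟨nth 0 s 0, [], s.tail, [], [], 1⟩ :: ih) L

noncomputable def allF (l : List Fn) (P : Fn → Bool) : Bool :=
  List.rec (motive := fun _ => Bool) true (fun d _ ih => band (P d) ih) l

theorem allF_spec {P : Fn → Bool} : ∀ {l : List Fn}, allF l P = true → ∀ d ∈ l, P d = true
  | [], _ => by simp
  | _ :: _, h => List.forall_mem_cons.2 ⟨(band_true.1 h).1, allF_spec (band_true.1 h).2⟩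

/-- the checks for the final nodes -/
noncomputable def finalB (C : Cx) (E : En) (m N n0 k : ℕ) (l : List Fn) : Bool :=
  frc (finS l) fun S => band (band (tb S 0) (Nat.ble (total N l) k)) (allF l (Fn.chk C E.f m S n0))

theorem Ready.cover' {H Ω : Type} [Group H] [MulAction H Ω] {C : Cx} {g : ℕ → H} {pt : ℕ → Ω} {ι : H →* G} {T : Ω → G}
    {E : En} {B : Subgroup G} (h : Ready C E g pt ι T B) [Finite H] {m N n0 : ℕ} (hF : Upto E g pt ι T B m)
    (hN : Nat.card H = N) (hΩ : ∀ (a : H) y, y < n0 → ∃ y' < n0, a • pt y = pt y') {l : List Fn} {k : ℕ}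
    (e : finalB C E m N n0 k l = true) {f : ℕ → G} {σ : List (List ℕ)}
    (hσ : ∀ u ∈ σ, (∃ a, ι a = ev f u) ∨ ∃ y < n0, T (pt y) = ev f u) :
    (YS H (nd E pt ι T B) l).Finite ∧ (YS H (nd E pt ι T B) l).ncard ≤ k ∧
      ∀ a ∈ wgrp f σ, a • QX.o ι B ∈ YS H (nd E pt ι T B) l := by
  simp only [finalB, frc_eq, band_true, tb_eq, Nat.ble_eq] at e
  exact h.cover hF hN hΩ e.1.1 (allF_spec e.2) hσ e.1.2

end Cfsg.Agent.H27.DC
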