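import Cfsg.Agent.H27.DC2

/-! Letters: setting up, stabilisers, generation and orders. -/

set_option autoImplicit false

namespace Cfsg.Agent.H27.DC

open Cfsg Subgroup MulAction
open scoped Pointwise
open H16 (ifB ifB_eq allB allB_spec allL allL_iff Rep Inj InK tb tb_eq lbChain lbChain_le)
open H17 (Br nth ev ev_nil ev_cons band band_true CardLe wgrp Presents forceL forceL_eq)
open Tl (frc frc_eq)

/-- the codes of a list of letters -/
noncomputable def Cx.cds (C : Cx) (l : List ℕ) : List ℕ := Tl.Cert.mapL C.cd l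

/-- product of the basic orbit lengths -/
noncomputable def Cx.lb (C : Cx) (B l : List ℕ) : ℕ :=
  ifB (band (allL B fun b => Nat.blt b C.n) (allL l fun a => Nat.blt a 256)) (lbChain C.w C.n B (C.cds l)) 0

/-- the checks for the letters -/
noncomputable def Cx.okB (C : Cx) (nc N : ℕ) (S l : List ℕ) : Bool :=
  band (band (Nat.ble C.n (2 ^ C.w)) (Nat.beq C.one (H16.pid C.w C.n)))
    (band (band (Nat.beq (C.cd 0) C.one) (allB nc fun a => Nat.beq (C.cd (Nat.succ a)) (nth 0 S a)))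
      (band (band (Nat.blt 0 N) (Nat.blt nc 256)) (Nat.ble N (C.lb C.base l))))

variable {H Ω : Type} [Group H] [MulAction H Ω] {C : Cx} {g : ℕ → H} {pt : ℕ → Ω}

theorem inK_cds (h : ∀ a < 256, Rep pt C.n (g a) (H16.get C.w (C.cd a))) {K : Subgroup H} {l : List ℕ}
    (hl : allL l (fun a => Nat.blt a 256) = true) (hK : ∀ a ∈ l, g a ∈ K) :
    ∀ p ∈ C.cds l, InK pt C.n K (H16.get C.w p) := fun p hp => by
  rw [Cx.cds, mapL_eq] at hp
  obtain ⟨a, ha, rfl⟩ := List.mem_map.1 hp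
  exact ⟨_, hK a ha, h a (by simpa using allL_iff.1 hl a ha)⟩

theorem exists_ok {k nc N : ℕ} {R : List (List ℕ)} {g0 : ℕ → H} (pres : Presents k nc R g0) [NeZero C.n]
    (hN : CardLe (⊤ : Subgroup H) N) {S df l : List ℕ} (e1 : repB C.w C.n k nc S R = true)
    (e2 : allB 256 (C.letB (Nat.succ nc) df) = true) (e3 : C.okB nc N S l = true) :
    ∃ (φ : H →* Equiv.Perm (Fin C.n)) (g : ℕ → H), OK C g (PF.at φ) ∧ (∀ a < nc, g (a + 1) = g0 a) ∧ Nat.card H = N := by
  obtain ⟨φ, hφ⟩ := exists_perm pres e1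
  simp only [Cx.okB, band_true, Nat.ble_eq, Nat.beq_eq, Nat.blt_eq, Cx.lb, ifB_eq] at e3
  obtain ⟨⟨a1, a2⟩, ⟨a3, a4⟩, ⟨a5, a6⟩, a7⟩ := e3
  have one : Rep (PF.at φ) C.n (1 : H) (H16.get C.w C.one) := a2 ▸ Rep.pid a1
  have a4' : ∀ a < nc, C.cd (a + 1) = nth 0 S a := fun a ha => Nat.eq_of_beq_eq_true (allB_spec a4 a ha)
  obtain ⟨g, hg⟩ := exists_rep (C := C) one (k0 := nc + 1) (df := df) (fun a ha => by
    rcases a with _ | a
    · exact ⟨1, trivial, a3 ▸ one⟩
    · exact ⟨_, trivial, a4' a (by omega) ▸ hφ a (by omega)⟩) fun a ha => allB_spec e2 a ha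
  have := hN.1
  split_ifs at a7 with b
  swap; · omega
  have bl : ∀ b ∈ C.base, b < C.n := fun y hy => by simpa using allL_iff.1 b.1 y hy
  have s := inK_cds hg (K := ⊤) b.2 fun _ _ => trivial
  have ok : OK C g (PF.at φ) := ⟨hg, bl, fun u hu =>
    LL.base_of_lbChain (PF.inj φ) _ bl ⊤ s (hN.2.trans a7) trivial hu, PF.inj φ, one⟩
  refine ⟨φ, g, ok, fun a ha => ok.uniq (hg _ (by omega)) (a4' a ha ▸ hφ a ha), ?_⟩
  rw [← card_top (G := H)]
  exact le_antisymm hN.2 (a7.trans (lbChain_le (PF.inj φ) _ bl _ s))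

namespace OK
variable (h : OK C g pt)
include h

theorem lb_le {K : Subgroup H} [Finite K] {B l : List ℕ} (hK : ∀ a ∈ l, g a ∈ K) : C.lb B l ≤ Nat.card K := by
  rw [Cx.lb, ifB_eq]
  split_ifs with b
  · rw [band_true] at b
    exact lbChain_le h.inj _ (fun y hy => by simpa using allL_iff.1 b.1 y hy) _ (inK_cds h.rep b.2 hK)
  · exact Nat.zero_le _

/-- the letters `l'` generate the stabiliser of the points `B0` -/
theorem stab_le [Finite H] {N : ℕ} (hN : Nat.card H = N) {K : Subgroup H} {B0 B l l' : List ℕ}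
    (hK : ∀ a ∈ l', g a ∈ K) (e : band (Nat.ble N (Nat.mul (C.lb B0 l) (C.lb B l')))
      (allL l' fun a => band (Nat.blt a 256) (allL B0 fun b => Nat.beq (H16.get C.w (C.cd a) b) b)) = true)
    {u : H} (hu : ∀ b ∈ B0, u • pt b = pt b) : u ∈ K := by
  rw [band_true, Nat.ble_eq] at e
  obtain ⟨e1, e2⟩ := e
  let F : Subgroup H := ⨅ b ∈ B0, stabilizer H (pt b)
  have mF : ∀ a, a ∈ F ↔ ∀ b ∈ B0, a • pt b = pt b := fun a => by simp [F, mem_iInf]
  have p : 0 < N := hN ▸ Nat.card_pos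
  change N ≤ C.lb B0 l * C.lb B l' at e1
  have bl : band (allL B0 fun b => Nat.blt b C.n) (allL l fun a => Nat.blt a 256) = true := by
    by_contra c
    rw [Cx.lb, ifB_eq, if_neg c] at e1; omega
  have a1 : C.lb B0 l * Nat.card F ≤ N := by
    rw [Cx.lb, ifB_eq, if_pos bl, ← hN, ← card_top (G := H)]
    rw [band_true] at bl
    exact LL.lbChain_mul_le' h.inj _ (fun y hy => by simpa using allL_iff.1 bl.1 y hy) ⊤
      (inK_cds h.rep bl.2 fun _ _ => trivial) F le_top fun a ha => (mF a).1 ha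
  have a2 : C.lb B l' ≤ Nat.card (K ⊓ F : Subgroup H) := h.lb_le fun a ha => ⟨hK a ha, (mF _).2 fun b hb => by
    have := band_true.1 (allL_iff.1 e2 a ha)
    rw [band_true] at bl
    rw [(h.rep a (by simpa using this.1) b (by simpa using allL_iff.1 bl.1 b hb)).2,
      Nat.eq_of_beq_eq_true (allL_iff.1 this.2 b hb)]⟩
  have a3 : Nat.card F ≤ Nat.card (K ⊓ F : Subgroup H) := by
    refine Nat.le_of_mul_le_mul_left (a1.trans (e1.trans (Nat.mul_le_mul_left _ a2))) (Nat.pos_of_ne_zero fun c => ?_)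
    rw [c] at e1; omega
  exact ((eq_of_le_of_card_ge inf_le_right a3).ge ((mF u).2 hu)).1

end OK

/-- the letter lies in `[lo, hi)` -/
noncomputable def inR (lo hi a : ℕ) : Bool := band (Nat.ble lo a) (Nat.blt a hi)

variable (g) in
/-- the group generated by the letters in `[lo, hi)` -/
def Sg (lo hi : ℕ) : Subgroup H := closure {u | ∃ a, lo ≤ a ∧ a < hi ∧ g a = u}

theorem mem_Sg {lo hi a : ℕ} (h1 : lo ≤ a) (h2 : a < hi) : g a ∈ Sg g lo hi := subset_closure ⟨a, h1, h2, rfl⟩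

theorem Sg_le {lo hi : ℕ} {K : Subgroup H} (h : ∀ a, lo ≤ a → a < hi → g a ∈ K) : Sg g lo hi ≤ K :=
  (closure_le K).2 fun _ ⟨a, h1, h2, e⟩ => e ▸ h a h1 h2

theorem ev1_Sg {lo hi x : ℕ} (e : digB (inR lo hi) 16 x = true) : ev1 g 16 x ∈ Sg g lo hi :=
  ev1_mem (fun a ha => by
    simp only [inR, band_true, Nat.ble_eq, Nat.blt_eq] at ha
    exact mem_Sg ha.1 ha.2) 16 x e

theorem evR_Sg {lo hi : ℕ} : ∀ {r : List ℕ}, allL r (digB (inR lo hi) 16) = true → evR g r ∈ Sg g lo hi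
  | [], _ => one_mem _
  | x :: r, e => mul_mem (evR_Sg (allL_iff.2 fun y hy => allL_iff.1 e y (List.mem_cons_of_mem _ hy)))
      (ev1_Sg (allL_iff.1 e x List.mem_cons_self))

theorem evR_one (g : ℕ → H) {a : ℕ} (h0 : 0 < a) (h : a < 256) : evR g [a] = g a := by
  rw [evR, evR, one_mul, ev1_lt g h0 h]

/-- the letters from `a` on are products of the earlier letters from `lo` on -/
noncomputable def Cx.genB (C : Cx) (lo : ℕ) (W : List (List ℕ)) : ℕ → ℕ → Bool :=
  List.rec (motive := fun _ => ℕ → ℕ → Bool) (fun a hi => Nat.ble hi a) (fun r _ ih a hi =>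
    band (band (inR 1 256 a) (band (allL r (digB (inR lo a) 16)) (C.eqB [a] r))) (frc (Nat.succ a) fun a' => ih a' hi)) W

theorem OK.gen (h : OK C g pt) {lo hi : ℕ} : ∀ {W : List (List ℕ)} {a : ℕ}, C.genB lo W a hi = true →
    Sg g lo hi ≤ Sg g lo a
  | [], _, e => Sg_le fun _ h1 h2 => mem_Sg h1 (h2.trans_le (Nat.le_of_ble_eq_true e))
  | r :: W, a, e => by
    change band (band _ (band _ _)) (frc _ fun a' => C.genB lo W a' hi) = true at e
    simp only [band_true, frc_eq, inR, Nat.ble_eq, Nat.blt_eq] at e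
    refine (gen h e.2).trans (Sg_le fun b h1 h2 => ?_)
    rcases Nat.lt_succ_iff_lt_or_eq.1 h2 with c | rfl
    · exact mem_Sg h1 c
    · rw [← evR_one g e.1.1.1 e.1.1.2, h.eqB e.1.2.2]; exact evR_Sg e.1.2.1

/-- a table of the cosets of `Sg a1 hi` in `Sg a0 hi`; an entry is `i' + 4096 * word` -/
noncomputable def Cx.levB (C : Cx) (a0 a1 hi o : ℕ) (T E : ℕ → ℕ) : Bool :=
  band (band (Nat.blt 0 o) (Nat.beq (T 0) 0)) (band (band (Nat.blt 0 a0) (Nat.ble hi 256))
    (allB o fun i => frc (T i) fun t => allB (Nat.sub hi a0) fun d =>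
      frc (E (Nat.add (Nat.mul i (Nat.sub hi a0)) d)) fun x => frc (Nat.land x 4095) fun i' =>
        frc (Nat.shiftRight x 12) fun u => band (band (Nat.blt i' o) (digB (inR a1 hi) 16 u))
          (C.eqB [t, Nat.add a0 d] [u, T i'])))

theorem OK.lev [Finite H] (h : OK C g pt) {a0 a1 hi o m : ℕ} {T E : ℕ → ℕ} (e : C.levB a0 a1 hi o T E = true)
    (hm : CardLe (Sg g a1 hi) m) : CardLe (Sg g a0 hi) (o * m) := by
  simp only [Cx.levB, band_true, Nat.ble_eq, Nat.blt_eq, Nat.beq_eq, frc_eq] at e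
  obtain ⟨⟨e1, e2⟩, ⟨e3, e4⟩, e5⟩ := e
  let Y : Set H := {u | ∃ j < o, (ev1 g 16 (T j))⁻¹ * u ∈ Sg g a1 hi}
  have : Sg g a0 hi ≤ stabilizer H Y := Sg_le fun a h1 h2 => by
    rw [mem_stabilizer_set_iff_smul_set_subset (Set.toFinite Y)]
    rintro _ ⟨u, ⟨i, hi', hu⟩, rfl⟩
    have := allB_spec (allB_spec e5 i hi') (a - a0) (show a - a0 < hi - a0 by omega)
    simp only [band_true, Nat.blt_eq] at this
    have q := h.eqB this.2
    rw [show Nat.add a0 (a - a0) = a from Nat.add_sub_cancel' h1] at q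
    simp only [evR, one_mul, ev1_lt g (e3.trans_le h1) (h2.trans_le e4)] at q
    refine ⟨_, this.1.1, ?_⟩
    have := mul_mem (ev1_Sg (g := g) this.1.2) hu
    rwa [← mul_assoc, show ∀ a b c d : H, a * b = c * d → d * b⁻¹ = c⁻¹ * a from fun a b c d e => by
      rw [eq_inv_mul_iff_mul_eq, ← mul_assoc, ← e, mul_inv_cancel_right] , mul_assoc] at this
    exact q
  refine H17.cardLe_of_cover (fun j => ev1 g 16 (T j)) hm fun a ha => ?_
  have o1 : (1 : H) ∈ Y := ⟨0, e1, by rw [e2, ev1_zero]; simp⟩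
  have := Set.smul_mem_smul_set (a := a) o1
  rwa [mem_stabilizer_iff.1 (‹Sg g a0 hi ≤ _› ha), smul_eq_mul, mul_one] at this

/-- a level: first letter, number of cosets, widths and tables -/
structure Lev where
  a : ℕ
  o : ℕ
  w : ℕ
  T : List ℕ
  E : List ℕ

/-- a chain of levels -/
noncomputable def Cx.chainB (C : Cx) (hi : ℕ) (L : List Lev) : ℕ → ℕ → Bool :=
  List.rec (motive := fun _ => ℕ → ℕ → Bool) (fun a m => band (Nat.ble hi a) (Nat.blt 0 m)) (fun d _ ih a m =>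
    band (C.levB a d.a hi d.o (fc d.w (Br.ofList d.T)) (fc d.w (Br.ofList d.E)))
      (frc (Nat.div m d.o) (ih d.a))) L

theorem OK.chain [Finite H] (h : OK C g pt) {hi : ℕ} : ∀ {L : List Lev} {a m : ℕ}, C.chainB hi L a m = true →
    CardLe (Sg g a hi) m
  | [], a, m, e => by
    change band _ _ = true at e
    simp only [band_true, Nat.ble_eq, Nat.blt_eq] at e
    have := H17.cardLe_bot.mono (Sg_le (g := g) (lo := a) (hi := hi) fun _ _ _ => by omega)
    exact ⟨this.1, this.2.trans e.2⟩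
  | d :: L, a, m, e => by
    change band _ (frc _ (C.chainB hi L d.a)) = true at e
    rw [band_true, frc_eq] at e
    have := h.lev e.1 (chain h e.2)
    exact ⟨this.1, this.2.trans (Nat.mul_div_le _ _)⟩

/-- the letters of a word, shifted and reversed -/
noncomputable def upR (u : List ℕ) : List ℕ → List ℕ :=
  List.rec (motive := fun _ => List ℕ → List ℕ) (fun r => r) (fun a _ ih r => ih (Nat.succ a :: r)) u

section gens
variable {k nc : ℕ} {g0 : ℕ → H} (hg : ∀ a < nc, g (a + 1) = g0 a)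
include hg

theorem evR_upR (hn : nc < 256) : ∀ (u r : List ℕ), (∀ a ∈ u, a < nc) → evR g (upR u r) = evR g r * ev g0 u
  | [], _, _ => (mul_one _).symm
  | a :: u, r, h => by
    have l := h a List.mem_cons_self
    change evR g (upR u ((a + 1) :: r)) = _
    rw [evR_upR hn u _ fun b hb => h b (List.mem_cons_of_mem _ hb), evR, ev1_lt g (Nat.succ_pos a) (by omega), hg a l,
      ev_cons, mul_assoc]

theorem OK.word (h : OK C g pt) {u r : List ℕ}
    (e : band (band (Nat.blt nc 256) (allL u fun a => Nat.blt a nc)) (C.eqB r (upR u [])) = true) :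
    evR g r = ev g0 u := by
  simp only [band_true, allL_iff, Nat.blt_eq] at e
  rw [h.eqB e.2, evR_upR hg e.1.1 u [] e.1.2, evR, one_mul]

theorem OK.low (h : OK C g pt) (gens : H17.Gens k nc g0) {n0 : ℕ} (e : band (band (Nat.blt nc 256) (Nat.ble n0 C.n))
    (allB nc fun a => allB n0 fun y => Nat.blt (H16.get C.w (C.cd (Nat.succ a)) y) n0) = true) (a : H) (y : ℕ)
    (hy : y < n0) : ∃ y' < n0, a • pt y = pt y' := by
  simp only [band_true, Nat.blt_eq, Nat.ble_eq] at e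
  obtain ⟨u, rfl⟩ := gens.surj a
  induction u with
  | nil => exact ⟨y, hy, one_smul ..⟩
  | cons a u ih =>
    obtain ⟨z, hz, e'⟩ := ih
    rw [ev_cons, mul_smul, e']
    by_cases l : a < nc
    · exact ⟨_, by simpa using allB_spec (allB_spec e.2 a l) z hz, hg a l ▸ (h.rep (a + 1) (by omega) z (by omega)).2⟩
    · exact ⟨z, hz, by rw [gens.triv a (not_lt.1 l), one_smul]⟩

theorem Sg_top (gens : H17.Gens k nc g0) : Sg g 1 (nc + 1) = ⊤ :=
  gens.eq_top fun a ha => hg a ha ▸ mem_Sg (by omega) (by omega)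

end gens

theorem lets_of {G : Type} [Group G] {ι : H →* G} {T : Ω → G} {ml : List ℕ} {f : ℕ → G} (ht : ∀ l, ml.length ≤ l → f l = 1)
    (h : ∀ l < ml.length, (∃ a, 0 < a ∧ a < 256 ∧ nth 0 ml l = 2 * a ∧ f l = ι (g a)) ∨
      ∃ y, nth 0 ml l = 2 * y + 1 ∧ f l = T (pt y)) : Lets g pt ι T (nth 0 ml) f := fun l => by
  have s : ∀ x : ℕ, Nat.shiftRight x 1 = x / 2 := fun x => Nat.shiftRight_one x
  have m : ∀ x : ℕ, Nat.land x 1 = x % 2 := fun x => Nat.and_one_is_mod x
  by_cases c : l < ml.length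
  · rcases h l c with ⟨a, a0, a1, e, e'⟩ | ⟨y, e, e'⟩
    · rw [e, m, s, if_pos (by omega), show 2 * a / 2 = a by omega, ev1_lt g a0 a1, e']
    · rw [e, m, s, if_neg (by omega), show (2 * y + 1) / 2 = y by omega, e']
  · rw [ht l (not_lt.1 c), H17.nth_of_ge _ (not_lt.1 c), if_pos (by decide)]
    exact ((congrArg ι (ev1_zero g)).trans (map_one ι)).symm

end Cfsg.Agent.H27.DC
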