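import Cfsg.Agent.H27.DC3

/-! Construction of the action from a complete double coset table. -/

set_option autoImplicit false

namespace Cfsg.Agent.H27.DC

open Cfsg Subgroup MulAction
open scoped Pointwise
open H16 (ifB ifB_eq allB allB_spec allL allL_iff Rep Inj InK tb tb_eq bit testBit_bit)
open H17 (Br nth ev ev_nil ev_cons band band_true CardLe wgrp Presents forceL forceL_eq weq eq_of_weq)
open Tl (frc frc_eq)

/-- a complete table: `m` nodes with letters `[lo, hi)`, of which `[lo, mid)` generate -/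
structure Ex where
  m : ℕ
  lo : ℕ → ℕ
  mid : ℕ → ℕ
  hi : ℕ → ℕ
  F : ℕ → ℕ
  ed : List (List ℕ)

noncomputable def all2 {α β : Type} (P : α → β → Bool) (l : List α) : List β → Bool :=
  List.rec (motive := fun _ => List β → Bool) (fun _ => true) (fun a _ ih r =>
    List.rec (motive := fun _ => Bool) false (fun b r' _ => band (P a b) (ih r')) r) l

theorem all2_spec {α β : Type} {P : α → β → Bool} : ∀ {l : List α} {r : List β}, all2 P l r = true →
    ∀ a ∈ l, ∃ b, P a b = true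
  | [], _, _ => by simp
  | _ :: _, [], h => by cases h
  | _ :: _, b :: _, h => List.forall_mem_cons.2 ⟨⟨b, (band_true.1 h).1⟩, all2_spec (band_true.1 h).2⟩

namespace Ex
variable (X : Ex) (C : Cx)

/-- the entries sit at their places -/
noncomputable def posB : Bool := allB X.m fun t => allB C.n fun y => frc (X.F (Nat.add (Nat.mul t C.n) y)) fun f =>
  band (band (Nat.beq (fj f) t) (Nat.beq (fb f) (Nat.succ y))) (Nat.blt (fk f) X.m)

/-- the letter `a` respects the row `t` -/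
noncomputable def eqvB (t a : ℕ) (E : ℕ → ℕ) : Bool := band (inR 1 256 a) (frc (C.cd a) fun c => frc (Nat.mul t C.n) fun s =>
  allB C.n fun y => frc (X.F (Nat.add s y)) fun f => frc (X.F (Nat.add s (H16.get C.w c y))) fun f' => frc (E y) fun u =>
    frc (fk f) fun k => band (band (Nat.beq k (fk f')) (digB (inR (X.lo k) (X.hi k)) 16 u)) (C.eqB [fw f, a] [u, fw f']))

/-- the points of the edges of the row `t` -/
noncomputable def edS (t : ℕ) (l : List (List ℕ)) : ℕ :=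
  List.rec (motive := fun _ => ℕ) 0 (fun e _ ih => ifB (Nat.beq (nth 0 e 0) t) (Nat.lor ih (bit (nth 0 e 1))) ih) l

/-- the edges meet all orbits -/
noncomputable def covB (P : ℕ → List ℕ) : Bool :=
  band (allF' X.ed fun e => band (band (Nat.blt (nth 0 e 0) X.m) (Nat.blt (nth 0 e 1) C.n))
      (Nat.beq (C.apR [nth 0 e 2] (nth 0 e 1)) 0))
    (allB X.m fun t => band (Nat.ble (X.hi t) 256) (forceL (C.cds (List.range' (X.lo t) (Nat.sub (X.hi t) (X.lo t)))) fun cs =>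
      Nat.beq (Nat.land (growS C cs (P t) (edS t X.ed)) (Nat.pred (bit C.n))) (Nat.pred (bit C.n))))
where allF' (l : List (List ℕ)) (P : List ℕ → Bool) : Bool :=
  List.rec (motive := fun _ => Bool) true (fun d _ ih => band (P d) ih) l

/-- a rule holds at the point `k * u • p t` -/
noncomputable def ruleB (A a : List ℕ) (k : ℕ) (e s : List ℕ) : Bool :=
  frc (nth 0 e 0) fun t => frc (nth 0 e 2) fun u => frc (nth 0 s 0) fun w =>
    walk C X.F (Nat.mul X.m C.n) (fun _ A' r j => band (band (weq A' []) (Nat.beq j t))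
      (band (digB (inR (X.lo t) (X.hi t)) 16 w) (C.eqB r [w, u, k]))) s.tail A (u :: k :: a) t

noncomputable def rulesB (A a K : List ℕ) (S : List (List (List ℕ))) : Bool :=
  all2 (fun k s => frc k fun k => all2 (X.ruleB C A a k) X.ed s) K S

variable {H Ω : Type} [Group H] [MulAction H Ω] (g : ℕ → H) (pt : ℕ → Ω)

/-- the stabilisers -/
def S (t : ℕ) : Subgroup H := Sg g (X.lo t) (X.hi t)

/-- the points -/
def Pt : Type := Σ t : Fin X.m, H ⧸ X.S g t

instance : MulAction H (X.Pt g) := inferInstanceAs (MulAction H (Σ t : Fin X.m, H ⧸ X.S g t))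

variable [NeZero X.m]

/-- the base points -/
def p (t : ℕ) : X.Pt g := ⟨Fin.ofNat X.m t, (1 : H)⟩

open Classical in
/-- the table as a function -/
noncomputable def Φ (t : ℕ) (ω : Ω) : X.Pt g :=
  if e : ∃ y < C.n, pt y = ω then ev1 g 16 (fw (X.F (t * C.n + e.choose))) • X.p g (fk (X.F (t * C.n + e.choose)))
  else X.p g 0

/-- the action of the symbols -/
noncomputable def τ (ω : Ω) (q : X.Pt g) : X.Pt g := Quotient.out q.2 • X.Φ C g pt q.1 ((Quotient.out q.2)⁻¹ • ω)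

variable {X C g pt}

theorem smul_p (u : H) (t : Fin X.m) : u • X.p g t = ⟨t, (u : H ⧸ X.S g t)⟩ := by
  have : X.p g t = ⟨t, (1 : H)⟩ := by rw [p, Fin.ofNat_val_eq_self]
  rw [this]
  exact congrArg (Sigma.mk t) (congrArg _ (mul_one u))

theorem exists_p (q : X.Pt g) : ∃ (u : H) (t : Fin X.m), q = u • X.p g t :=
  ⟨Quotient.out q.2, q.1, by rw [smul_p, QuotientGroup.out_eq']; rfl⟩

theorem fix_p {t : ℕ} (ht : t < X.m) {u : H} : u • X.p g t = X.p g t ↔ u ∈ X.S g t := by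
  have a := smul_p (g := g) u ⟨t, ht⟩
  have b := smul_p (g := g) 1 ⟨t, ht⟩
  rw [one_smul] at b
  rw [show u • X.p g t = _ from a, show X.p g t = _ from b]
  refine (sigma_mk_injective (β := fun t : Fin X.m => H ⧸ X.S g t)).eq_iff.trans ?_
  rw [QuotientGroup.eq]; simp

theorem Φ_pt (h : OK C g pt) (t : ℕ) {y : ℕ} (hy : y < C.n) :
    X.Φ C g pt t (pt y) = ev1 g 16 (fw (X.F (t * C.n + y))) • X.p g (fk (X.F (t * C.n + y))) := by
  have e : ∃ z < C.n, pt z = pt y := ⟨y, hy, rfl⟩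
  rw [Φ, dif_pos e, h.inj _ e.choose_spec.1 _ hy e.choose_spec.2]

variable (X C g pt) in
/-- the element respects the row `t` -/
def Eqv (t : ℕ) (a : H) : Prop := ∀ ω, a • X.Φ C g pt t ω = X.Φ C g pt t (a • ω)

theorem pos_spec (e : X.posB C = true) {t y : ℕ} (ht : t < X.m) (hy : y < C.n) :
    fj (X.F (t * C.n + y)) = t ∧ fb (X.F (t * C.n + y)) = y + 1 ∧ fk (X.F (t * C.n + y)) < X.m := by
  have := allB_spec (allB_spec e t ht) y hy
  simp only [frc_eq, band_true, Nat.beq_eq, Nat.blt_eq] at this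
  exact ⟨this.1.1, this.1.2, this.2⟩

theorem eqv_of (h : OK C g pt) (hs : ∀ ω, ∃ y < C.n, pt y = ω) (e0 : X.posB C = true) {t a : ℕ} (ht : t < X.m) {E : ℕ → ℕ}
    (e : X.eqvB C t a E = true) : X.Eqv C g pt t (g a) := fun ω => by
  obtain ⟨y, hy, rfl⟩ := hs ω
  simp only [eqvB, frc_eq, band_true, inR, Nat.ble_eq, Nat.blt_eq] at e
  have := allB_spec e.2 y hy
  simp only [band_true, Nat.beq_eq] at this
  obtain ⟨⟨a1, a2⟩, a3⟩ := this
  have r := h.rep a e.1.2 y hy
  have q := h.eqB a3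
  simp only [evR, one_mul, ev1_lt g e.1.1 e.1.2] at q
  rw [r.2, Φ_pt h t hy, Φ_pt h t r.1, ← mul_smul]
  exact (congrArg (· • _) q).trans (by
    rw [mul_smul, (fix_p (pos_spec e0 ht hy).2.2).2 (ev1_Sg a2)]; exact congrArg (_ • X.p g ·) a1)

variable (X C g pt) in
/-- the hypotheses on the table -/
structure Good : Prop where
  ok : OK C g pt
  surj : ∀ ω, ∃ y < C.n, pt y = ω
  pos : X.posB C = true
  top : X.S g 0 = ⊤
  gen : ∀ t < X.m, X.S g t ≤ Sg g (X.lo t) (X.mid t)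
  eqv : ∀ t < X.m, ∀ a, X.lo t ≤ a → a < X.mid t → X.Eqv C g pt t (g a)
  cov : ∃ P, X.covB C P = true

namespace Good
variable (h : X.Good C g pt)
include h

theorem eqvS {t : ℕ} (ht : t < X.m) {s : H} (hs : s ∈ X.S g t) : X.Eqv C g pt t s := by
  let K : Subgroup H :=
    { carrier := {a | X.Eqv C g pt t a}
      mul_mem' := fun {a b} ha hb ω => by rw [mul_smul, hb, ha, mul_smul]
      one_mem' := fun ω => by rw [one_smul, one_smul]
      inv_mem' := fun {a} ha ω => by rw [inv_smul_eq_iff, ha, smul_inv_smul] }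
  exact ((h.gen t ht).trans (Sg_le (K := K) (h.eqv t ht))) hs

theorem τ_p (ω : Ω) (u : H) (t : Fin X.m) : X.τ C g pt ω (u • X.p g t) = u • X.Φ C g pt t (u⁻¹ • ω) := by
  rw [smul_p]
  obtain ⟨s, hs⟩ := QuotientGroup.mk_out_eq_mul (X.S g t) u
  change Quotient.out (u : H ⧸ X.S g t) • X.Φ C g pt t ((Quotient.out (u : H ⧸ X.S g t))⁻¹ • ω) = _
  rw [hs, mul_smul, h.eqvS t.2 s.2, mul_inv_rev, mul_smul, smul_inv_smul]

theorem hτ (a : H) (ω : Ω) (q : X.Pt g) : a • X.τ C g pt ω q = X.τ C g pt (a • ω) (a • q) := by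
  obtain ⟨u, t, rfl⟩ := exists_p q
  rw [h.τ_p, ← mul_smul a u (X.p g t), h.τ_p, mul_smul, mul_inv_rev, mul_smul, inv_smul_smul]

theorem h0 (a : H) : a • X.p g 0 = X.p g 0 := (fix_p (NeZero.pos _)).2 (h.top ▸ mem_top a)

theorem entry {t y : ℕ} (ht : t < X.m) (hy : y < C.n) : X.τ C g pt (pt y) (X.p g t) =
    ev1 g 16 (fw (X.F (t * C.n + y))) • X.p g (fk (X.F (t * C.n + y))) := by
  have := h.τ_p (pt y) 1 ⟨t, ht⟩
  rwa [one_smul, one_smul, inv_one, one_smul, Φ_pt h.ok _ hy] at this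

theorem holds (v : ℕ) (hv : v < X.m * C.n) : Holds g pt (X.τ C g pt) (X.p g) (X.F v) := by
  have n0 : 0 < C.n := Nat.pos_of_ne_zero fun c => by simp [c] at hv
  have a : v / C.n < X.m := (Nat.div_lt_iff_lt_mul n0).2 hv
  have b := Nat.mod_lt v n0
  have c := pos_spec h.pos a b
  have d := h.entry a b
  rw [Nat.div_add_mod' v C.n] at c d
  exact ⟨fun z => by omega, fun y hy => by rw [c.1, show y = v % C.n by omega, d]⟩

omit h in
theorem edS_bit {t y : ℕ} : ∀ {l : List (List ℕ)}, (edS t l).testBit y = true → ∃ e ∈ l, nth 0 e 0 = t ∧ nth 0 e 1 = y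
  | [], h => by simp [edS] at h
  | e :: l, h => by
    change (ifB (Nat.beq (nth 0 e 0) t) (Nat.lor (edS t l) (bit (nth 0 e 1))) (edS t l)).testBit y = true at h
    rw [ifB_eq] at h
    split_ifs at h with c
    · rw [H17.lor_eq, Nat.testBit_or, Bool.or_eq_true, testBit_bit] at h
      rcases h with h | h
      · obtain ⟨d, a, b⟩ := edS_bit h; exact ⟨d, List.mem_cons_of_mem _ a, b⟩
      · exact ⟨e, List.mem_cons_self, Nat.eq_of_beq_eq_true c, h.symm⟩
    · obtain ⟨d, a, b⟩ := edS_bit h; exact ⟨d, List.mem_cons_of_mem _ a, b⟩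

omit h in
theorem allF'_spec {P : List ℕ → Bool} : ∀ {l : List (List ℕ)}, covB.allF' l P = true → ∀ d ∈ l, P d = true
  | [], _ => by simp
  | _ :: _, h => List.forall_mem_cons.2 ⟨(band_true.1 h).1, allF'_spec (band_true.1 h).2⟩

theorem ed_lt {e : List ℕ} (he : e ∈ X.ed) : nth 0 e 0 < X.m ∧ ev1 g 16 (nth 0 e 2) • pt (nth 0 e 1) = pt 0 := by
  obtain ⟨P, c⟩ := h.cov
  have := allF'_spec (band_true.1 c).1 e he
  simp only [band_true, Nat.blt_eq] at this
  exact ⟨this.1.1, by simpa [evR] using h.ok.send this.1.2 this.2⟩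

theorem orbit {t : ℕ} (ht : t < X.m) (ω : Ω) : ∃ s ∈ X.S g t, ∃ e ∈ X.ed, nth 0 e 0 = t ∧ ω = s • pt (nth 0 e 1) := by
  obtain ⟨P, c⟩ := h.cov
  have := allB_spec (band_true.1 c).2 t ht
  simp only [band_true, forceL_eq, Nat.ble_eq] at this
  obtain ⟨y, hy, rfl⟩ := h.surj ω
  have r : ∀ a ∈ List.range' (X.lo t) (Nat.sub (X.hi t) (X.lo t)), X.lo t ≤ a ∧ a < X.hi t := fun a ha => by
    have := List.mem_range'_1.1 ha
    change _ ∧ a < X.lo t + (X.hi t - X.lo t) at this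
    omega
  refine growS_sound h.ok (inK_cds h.ok.rep (K := X.S g t)
    (allL_iff.2 fun a ha => by simpa using (r a ha).2.trans_le this.1) fun a ha => mem_Sg (r a ha).1 (r a ha).2)
    (Q := fun ω => ∃ s ∈ X.S g t, ∃ e ∈ X.ed, nth 0 e 0 = t ∧ ω = s • pt (nth 0 e 1))
    (fun a ha ω ⟨s, hs, e, he, b, c⟩ => ⟨a * s, mul_mem ha hs, e, he, b, by rw [c, mul_smul]⟩) _ _
    (fun z hz => ?_) y (low_bits this.2 hy)
  obtain ⟨e, he, b, c⟩ := edS_bit hz
  exact ⟨1, one_mem _, e, he, b, by rw [c, one_smul]⟩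

theorem trans (ω : Ω) : ∃ u : H, u • pt 0 = ω := by
  obtain ⟨s, -, e, he, -, rfl⟩ := h.orbit (NeZero.pos _) ω
  exact ⟨s * (ev1 g 16 (nth 0 e 2))⁻¹, by rw [mul_smul, ← (h.ed_lt he).2, inv_smul_smul]⟩

theorem tauS_smul {c : H} : ∀ {A : List ℕ}, (∀ y ∈ A, c • pt y = pt y) → ∀ q,
    c • tauS pt (X.τ C g pt) A q = tauS pt (X.τ C g pt) A (c • q)
  | [], _, _ => rfl
  | y :: A, hA, q => by
    rw [tauS, tauS, tauS_smul fun z hz => hA z (List.mem_cons_of_mem _ hz), h.hτ, hA y List.mem_cons_self]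

/-- **a rule holds everywhere** -/
theorem rule {A a K : List ℕ} {S : List (List (List ℕ))} (e : X.rulesB C A a K S = true)
    (hK : ∀ u : H, u • pt 0 = pt 0 → ∃ k ∈ K, ∃ c : H, u = c * ev1 g 16 k ∧ (∀ y ∈ A, c • pt y = pt y) ∧
      c * evR g a = evR g a * c) (q : X.Pt g) : tauS pt (X.τ C g pt) A (evR g a • q) = q := by
  obtain ⟨u, t, rfl⟩ := exists_p q
  obtain ⟨s, hs, d, hd, e1, e2⟩ := h.orbit t.2 (u⁻¹ • pt 0)
  have l := h.ed_lt hd
  obtain ⟨k, hk, c, e3, c1, c2⟩ := hK (u * s * (ev1 g 16 (nth 0 d 2))⁻¹) (by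
    rw [mul_smul, mul_smul, ← l.2, inv_smul_smul, ← e2, l.2, smul_inv_smul])
  obtain ⟨_, e⟩ := all2_spec e k hk
  rw [frc_eq] at e
  obtain ⟨_, e⟩ := all2_spec e d hd
  simp only [ruleB, frc_eq] at e
  obtain ⟨_, A', r, j, x, y⟩ := walk_sound h.ok h.hτ h.h0 h.holds _ _ _ _ e
  simp only [band_true, Nat.beq_eq] at x
  rw [eq_of_weq x.1.1, x.1.2, h.ok.eqB x.2.2, e1, tauS] at y
  simp only [evR, one_mul, mul_smul] at y
  have z := x.2.1
  rw [e1] at z
  rw [(fix_p t.2).2 (ev1_Sg z)] at y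
  have e4 : u • X.p g t = c • ev1 g 16 k • ev1 g 16 (nth 0 d 2) • X.p g t := by
    rw [← mul_smul c, ← e3, mul_smul, inv_smul_smul, mul_smul, (fix_p t.2).2 hs]
  rw [e4, ← mul_smul _ c, ← c2, mul_smul, ← h.tauS_smul c1, y]

theorem inj {b : ℕ} (e : ∀ q, tauS pt (X.τ C g pt) [0, b] (evR g [] • q) = q) (ω : Ω) :
    Function.Injective (X.τ C g pt ω) := fun q q' c => by
  obtain ⟨u, rfl⟩ := h.trans ω
  have : ∀ q, X.τ C g pt (u • pt 0) q = u • X.τ C g pt (pt 0) (u⁻¹ • q) := fun q => by rw [h.hτ, smul_inv_smul]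
  rw [this, this, smul_left_cancel_iff] at c
  have a := e (u⁻¹ • q)
  have b := e (u⁻¹ • q')
  simp only [evR, one_smul, tauS] at a b
  rw [c, b] at a
  exact (smul_left_cancel _ a).symm

end Good

end Ex

end Cfsg.Agent.H27.DC
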