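import Cfsg.Agent.H27.DC5

/-! Orders of the stabilisers, coset representatives, and normal subgroups. -/

set_option autoImplicit false

namespace Cfsg.Agent.H27.DC

open Cfsg Subgroup MulAction
open scoped Pointwise
open H16 (ifB ifB_eq allB allB_spec allL allL_iff Rep Inj InK tb tb_eq bit testBit_bit)
open H17 (Br nth ev ev_nil ev_cons band band_true CardLe wgrp Presents Gens Sat forceL forceL_eq weq eq_of_weq invWords)
open Tl (frc frc_eq)

variable {H Ω G : Type} [Group H] [MulAction H Ω] [Group G] {C : Cx} {g : ℕ → H} {pt : ℕ → Ω} {ι : H →* G} {T : Ω → G}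

theorem OK.ord [Finite H] (h : OK C g pt) {lo hi o : ℕ} {L : List Lev} {B : List ℕ}
    (e : band (C.chainB hi L lo o) (Nat.ble o (C.lb B (List.range' lo (hi - lo)))) = true) :
    Nat.card (Sg g lo hi) = o := by
  rw [band_true, Nat.ble_eq] at e
  exact le_antisymm (h.chain e.1).2 (e.2.trans (h.lb_le fun a ha => mem_Sg (List.mem_range'_1.1 ha).1
    (by have := List.mem_range'_1.1 ha; omega)))

/-- the letters in `[lo, hi)` preserve the set `S`, and the words `K` fix `0` and send the points of `S` to `b` -/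
noncomputable def Cx.repsB (C : Cx) (lo hi b S : ℕ) (K : List ℕ) : Bool :=
  band (band (band (Nat.ble hi 256) (Nat.blt 0 C.n)) (band (tb S b) (Nat.blt b C.n)))
    (band (allL K fun k => Nat.beq (C.apR [k] 0) 0) (allB C.n fun y => ifB (tb S y)
      (band (allB (Nat.sub hi lo) fun a => tb S (H16.get C.w (C.cd (Nat.add lo a)) y))
        (K.any fun k => Nat.beq (C.apR [k] y) b)) true))

theorem OK.reps (h : OK C g pt) {lo hi b S : ℕ} {K : List ℕ} (e : C.repsB lo hi b S K = true) {u : H}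
    (hu : u⁻¹ ∈ Sg g lo hi) (h0 : u • pt 0 = pt 0) :
    ∃ k ∈ K, ∃ c : H, u = c * ev1 g 16 k ∧ c • pt 0 = pt 0 ∧ c • pt b = pt b := by
  simp only [Cx.repsB, band_true, Nat.ble_eq, Nat.blt_eq, tb_eq, ifB_eq] at e
  obtain ⟨⟨⟨e1, e2⟩, e3, e4⟩, e5, e6⟩ := e
  let Y : Set Ω := pt '' {y | y < C.n ∧ S.testBit y = true}
  have f : Y.Finite := ((Set.finite_lt_nat C.n).subset fun _ h => h.1).image _
  have k : ∀ y < C.n, S.testBit y = true → _ := fun y hy hS => by
    have := allB_spec e6 y hy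
    rwa [if_pos hS, band_true] at this
  have : Sg g lo hi ≤ stabilizer H Y := Sg_le fun a h1 h2 => by
    rw [mem_stabilizer_set_iff_smul_set_subset f]
    rintro _ ⟨_, ⟨y, hy, rfl⟩, rfl⟩
    have := allB_spec (k y hy.1 hy.2).1 (a - lo) (show a - lo < hi - lo by omega)
    rw [show Nat.add lo (a - lo) = a from Nat.add_sub_cancel' h1] at this
    have r := h.rep a (by omega) y hy.1
    exact ⟨_, ⟨r.1, this⟩, r.2.symm⟩
  have m : u⁻¹ • pt b ∈ Y := mem_stabilizer_iff.1 (this hu) ▸ Set.smul_mem_smul_set (s := Y) ⟨b, ⟨e4, e3⟩, rfl⟩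
  obtain ⟨y, hy, e⟩ := m
  obtain ⟨w, hw, e'⟩ := List.any_eq_true.1 (k y hy.1 hy.2).2
  have a1 := h.send hy.1 e'
  have a2 := h.send e2 (allL_iff.1 e5 w hw)
  simp only [evR, one_mul] at a1 a2
  exact ⟨w, hw, u * (ev1 g 16 w)⁻¹, by simp, by rw [mul_smul, inv_smul_eq_iff.2 a2.symm, h0],
    by rw [mul_smul, inv_smul_eq_iff.2 a1.symm, e, smul_inv_smul]⟩

namespace Ex.Act
variable {X : Ex} [NeZero X.m] [Finite H] {ψ : G →* Equiv.Perm (X.Pt g)} {n : ℕ} (h : X.Act g ι ψ n)
include h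

theorem finite : Finite G := Finite.of_injective _ h.inj

theorem card_eq {N : ℕ} (hN : Nat.card H = N) : Nat.card G = n * N := by
  rw [← ι.range.index_mul_card, h.index, ← hN]
  exact congrArg _ (Nat.card_congr (MonoidHom.ofInjective h.inj').toEquiv).symm

/-- a block through the base point is trivial -/
theorem block {N : ℕ} (hN : Nat.card H = N) {o : ℕ → ℕ} (ho : ∀ t < X.m, Nat.card (X.S g t) = o t)
    (hd : ∀ I : Fin X.m → Bool, (∑ t, if I t = true then N / o t else 0) ∣ n →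
      (∑ t, if I t = true then N / o t else 0) ≤ 1 ∨ ∀ t, I t = true)
    {B : Set (PA ψ)} (hB : IsBlock G B) (h0 : (X.p g 0 : PA ψ) ∈ B) : B.Subsingleton ∨ B = Set.univ := by
  classical
  have := h.trans
  let O : Set (X.Pt g) := B
  have hO : ∀ (a : H), ∀ q ∈ O, a • q ∈ O := fun a q hq => by
    have : ι a • B = B := hB.stabilizer_le h0 (h.stab ▸ ⟨a, rfl⟩)
    have m := Set.smul_mem_smul_set (a := ι a) (s := B) hq
    rw [this] at m
    rw [← h.map]
    exact m
  have c : B.ncard = ∑ t : Fin X.m, if decide (X.p g t ∈ O) = true then N / o t else 0 := by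
    change O.ncard = _
    simpa using card_set hN ho hO
  have d := hB.ncard_dvd_card ⟨_, h0⟩
  rw [h.card] at d
  rcases hd (fun t => decide (X.p g t ∈ O)) (c ▸ d) with e | e
  · exact .inl ((Set.ncard_le_one_iff_subsingleton (s := B)).1 (c ▸ e))
  · refine .inr (Set.eq_univ_of_forall fun q => ?_)
    obtain ⟨u, t, rfl⟩ := exists_p q
    exact hO u _ (of_decide_eq_true (e t))

theorem primitive {N : ℕ} (hN : Nat.card H = N) {o : ℕ → ℕ} (ho : ∀ t < X.m, Nat.card (X.S g t) = o t)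
    (hd : ∀ I : Fin X.m → Bool, (∑ t, if I t = true then N / o t else 0) ∣ n →
      (∑ t, if I t = true then N / o t else 0) ≤ 1 ∨ ∀ t, I t = true) : IsPreprimitive G (PA ψ) :=
  have := h.trans
  IsPreprimitive.of_isTrivialBlock_base (X.p g 0 : PA ψ) fun h0 hB => h.block hN ho hd hB h0

/-- an element of `H` whose order is a prime that divides no order of a stabiliser fixes only the base point -/
theorem fix_uniq {o : ℕ → ℕ} (ho : ∀ t < X.m, Nat.card (X.S g t) = o t) {a : H}
    (hd : ∀ t < X.m, orderOf a ∣ o t → t = 0) (h0 : X.S g 0 = ⊤) {q : PA ψ} (hq : ι a • q = q) : q = X.p g 0 := by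
  obtain ⟨u, t, rfl⟩ := exists_p q
  change ψ _ _ = _ at hq
  rw [h.map] at hq
  have m := (fix_p t.2).1 (show (u⁻¹ * a * u) • X.p g t = _ by rw [mul_smul, mul_smul, hq, inv_smul_smul])
  have := orderOf_dvd_natCard (⟨_, m⟩ : X.S g t)
  rw [ho t t.2, Subgroup.orderOf_mk, show u⁻¹ * a * u = MulAut.conj u⁻¹ a by simp, MulEquiv.orderOf_eq] at this
  rw [hd t t.2 this]
  exact (fix_p (NeZero.pos _)).2 (h0 ▸ mem_top u)

end Ex.Act

end Cfsg.Agent.H27.DC
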