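import Cfsg.Agent.H27.DC6

/-! The action together with the images of the symbols, and the evaluation of words. -/

set_option autoImplicit false

namespace Cfsg.Agent.H27.DC

open Cfsg Subgroup MulAction
open scoped Pointwise
open H16 (ifB ifB_eq allB allB_spec allL allL_iff Rep Inj InK tb tb_eq bit testBit_bit)
open H17 (Br nth ev ev_nil ev_cons band band_true CardLe wgrp Presents Gens Sat forceL forceL_eq weq eq_of_weq invWords)
open Tl (frc frc_eq)

variable {H Ω G : Type} [Group H] [MulAction H Ω] [Group G] {C : Cx} {g : ℕ → H} {pt : ℕ → Ω} {ι : H →* G} {T : Ω → G}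

namespace Ex
variable {X : Ex} [NeZero X.m] [Finite H]

theorem Good.act' (h : X.Good C g pt) (hT : ∀ a ω, ι a * T ω = T (a • ω) * ι a) {k nc k' nc' : ℕ} {R : List (List ℕ)}
    {f : ℕ → G} (pres : Presents k nc R f) {ml : List ℕ} (hm : Lets g pt ι T (nth 0 ml) f) {g0 : ℕ → H}
    (gens : Gens k' nc' g0) (hg : ∀ a < nc', g (a + 1) = g0 a) {Rl : List (List ℕ × List ℕ)} {tr : List ℕ}
    (e : band (band (band (Nat.beq ml.length nc) (Nat.beq ((nc - k) % 2) 0)) (band (Nat.ble k nc) (Nat.blt nc' 256)))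
      (band (band (DC.rulesB C (nth 0 ml) (invWords k nc ++ R) Rl) (Nat.ble (invWords k nc ++ R).length Rl.length))
        (band (band (ml.elem 1) (allB nc' fun a => ml.elem (2 * (a + 1)))) (X.trB C tr))) = true)
    (inj : ∀ ω, Function.Injective (X.τ C g pt ω))
    (hR : ∀ d ∈ Rl, ∀ q, tauS pt (X.τ C g pt) d.1 (evR g d.2 • q) = q)
    (h1 : 1 < X.m) (hS : X.S g 1 ≤ stabilizer H (pt 0)) {N n : ℕ} (hN : Nat.card H = N) {o : ℕ → ℕ}
    (ho : ∀ t < X.m, Nat.card (X.S g t) = o t) (hn : ∑ t : Fin X.m, N / o t = n)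
    (hB : ι.range.index ≠ 0 ∧ ι.range.index ≤ n) :
    ∃ ψ, X.Act g ι ψ n ∧ ∀ ω q, ψ (T ω) q = X.τ C g pt ω q := by
  classical
  simp only [band_true, Nat.beq_eq, Nat.ble_eq, Nat.blt_eq, List.elem_iff] at e
  obtain ⟨⟨⟨e1, e2⟩, e3, e4⟩, ⟨e5, e6⟩, ⟨e7, e8⟩, e9⟩ := e
  let T' : Ω → Equiv.Perm (X.Pt g) := fun ω => Equiv.ofBijective _ (Finite.injective_iff_bijective.1 (inj ω))
  let ι' := MulAction.toPermHom H (X.Pt g)
  have hT' : ∀ a ω, ι' a * T' ω = T' (a • ω) * ι' a := fun a ω => Equiv.ext fun q => h.hτ a ω q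
  let f' : ℕ → Equiv.Perm (X.Pt g) := fun l => if Nat.land (nth 0 ml l) 1 = 0 then
    ι' (ev1 g 16 (Nat.shiftRight (nth 0 ml l) 1)) else T' (pt (Nat.shiftRight (nth 0 ml l) 1))
  have t : ∀ l, nc ≤ l → f' l = 1 := fun l hl => by
    simp only [f', H17.nth_of_ge 0 (e1.trans_le hl)]
    exact (if_pos (by decide)).trans ((congrArg ι' (ev1_zero g)).trans (map_one ι'))
  have s := sat_of_rules h.ok hT' (f := f') (fun _ => rfl) e5 e6 fun d hd => Equiv.ext fun q =>
    (tauS_eq (T := T') d.1 (ι' (evR g d.2) • q)).symm.trans (hR d hd q)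
  obtain ⟨ψ, hψ⟩ := pres.lift _ f' (H17.inv_of_sat e2 e3 t (s.mono fun _ => List.mem_append_left _)) t
    (s.mono fun _ => List.mem_append_right _)
  have nl : ∀ x ∈ ml, ∃ l, nth 0 ml l = x := fun x hx => by
    obtain ⟨l, hl, rfl⟩ := List.getElem_of_mem hx
    exact ⟨l, by rw [H17.nth_eq_getD, List.getD_eq_getElem _ _ hl]⟩
  have sh : ∀ x : ℕ, Nat.shiftRight x 1 = x / 2 := fun x => Nat.shiftRight_one x
  have md : ∀ x : ℕ, Nat.land x 1 = x % 2 := fun x => Nat.and_one_is_mod x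
  have m1 : ∀ a, ψ (ι a) = ι' a := fun a => by
    have : (ψ.comp ι).eqLocus ι' = ⊤ := gens.eq_top fun a ha => by
      obtain ⟨l, hl⟩ := nl _ (List.elem_iff.1 (allB_spec e8 a ha))
      have a1 := hψ l
      simp only [f'] at a1
      rwa [hm l, hl, md, sh, if_pos (by omega), if_pos (by omega), show 2 * (a + 1) / 2 = a + 1 by omega,
        ev1_lt g (by omega) (by omega), hg a ha] at a1
    exact (this ▸ mem_top a : a ∈ (ψ.comp ι).eqLocus ι')
  have m2 : ∀ ω, ψ (T ω) = T' ω := fun ω => by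
    obtain ⟨u, rfl⟩ := h.trans ω
    obtain ⟨l, hl⟩ := nl _ e7
    have a1 := hψ l
    simp only [f'] at a1
    rw [hm l, hl, if_neg (by decide), if_neg (by decide)] at a1
    rw [← mul_inv_eq_iff_eq_mul.2 (hT u (pt 0)), ← mul_inv_eq_iff_eq_mul.2 (hT' u (pt 0)), map_mul, map_mul, map_inv, m1]
    exact congrArg (_ * · * _) a1
  let p0 : PA ψ := X.p g 0
  have r : ∀ t < X.m, ∃ a : G, a • p0 = X.p g t := fun t => by
    induction t using Nat.strong_induction_on with
    | _ t ih =>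
      intro ht
      have := allB_spec e9 t ht
      rw [ifB_eq, frc_eq] at this
      split_ifs at this with c
      · exact ⟨1, by rw [one_smul, Nat.eq_of_beq_eq_true c]⟩
      · simp only [band_true, Nat.blt_eq, Nat.beq_eq] at this
        have n0 : 0 < C.n := Nat.pos_of_ne_zero fun c => by simp [c] at this
        have b : nth 0 tr t / C.n < t := (Nat.div_lt_iff_lt_mul n0).2 this.1
        obtain ⟨a, ha⟩ := ih _ b (b.trans ht)
        have d := h.entry (b.trans ht) (Nat.mod_lt (nth 0 tr t) n0)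
        rw [Nat.div_add_mod', this.2, ← inv_smul_eq_iff] at d
        refine ⟨ι (ev1 g 16 (fw (X.F (nth 0 tr t))))⁻¹ * T (pt (nth 0 tr t % C.n)) * a, ?_⟩
        rw [mul_smul, ha, ← d]
        change ψ (_ * _) _ = _
        rw [map_mul, m1, m2]; rfl
  have r' : ∀ q : PA ψ, ∃ a : G, a • p0 = q := fun q => by
    obtain ⟨u, t, rfl⟩ := exists_p q
    obtain ⟨a, ha⟩ := r t t.2
    refine ⟨ι u * a, ?_⟩
    rw [mul_smul, ha]
    change ψ _ _ = _
    rw [m1]; rfl
  have tr : IsPretransitive G (PA ψ) := ⟨fun q q' => by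
    obtain ⟨a, rfl⟩ := r' q
    obtain ⟨b, rfl⟩ := r' q'
    exact ⟨b * a⁻¹, by rw [mul_smul, inv_smul_smul]⟩⟩
  have cd : Nat.card (PA ψ) = n := by
    rw [← hn]
    have := card_set hN ho (O := Set.univ) fun _ _ _ => trivial
    change Nat.card (X.Pt g) = _
    simpa using this
  have le : ι.range ≤ stabilizer G p0 := by
    rintro _ ⟨a, rfl⟩
    change ψ _ _ = _
    rw [m1]; exact h.h0 a
  have ix : (stabilizer G p0).index = n := by rw [index_stabilizer_of_transitive, cd]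
  have st : stabilizer G p0 = ι.range := by
    refine le_antisymm (relIndex_eq_one.1 ?_) le
    have d := relIndex_mul_index le
    have := hB.1
    have := hB.2
    rw [ix] at d
    rcases hr : ι.range.relIndex (stabilizer G p0) with _ | _ | r <;> rw [hr] at d
    · omega
    · rw [add_mul, add_mul] at d; omega
  have fa : ∀ a : H, ψ (ι a) = 1 → a = 1 := fun a ha => h.ok.faith a fun b _ => by
    obtain ⟨u, hu⟩ := h.trans (pt b)
    have : a • u • X.p g 1 = u • X.p g 1 := congrArg (· (u • X.p g 1)) ((m1 a).symm.trans ha)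
    have := hS ((fix_p h1).1 (show (u⁻¹ * a * u) • X.p g 1 = _ by rw [mul_smul, mul_smul, this, inv_smul_smul]))
    rw [mem_stabilizer_iff, mul_smul, mul_smul, inv_smul_eq_iff, hu] at this
    exact this
  refine ⟨ψ, ⟨fun a q => by rw [m1]; rfl, tr, st, (injective_iff_map_eq_one ψ).2 fun a ha => ?_,
    (injective_iff_map_eq_one ι).2 fun a ha => fa a (by rw [ha, map_one]), st ▸ ix, cd⟩,
    fun ω q => by rw [m2]; rfl⟩
  obtain ⟨b, rfl⟩ : a ∈ ι.range := st ▸ (congrArg (· (X.p g 0)) ha : ψ a (X.p g 0) = X.p g 0)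
  rw [fa b ha, map_one]


/-- follows the word `u` from the point `v • p j` -/
noncomputable def evalB (X : Ex) (C : Cx) (m : ℕ → ℕ) (u v : List ℕ) (j : ℕ) (ops : List ℕ) (k : List ℕ → ℕ → Bool) : Bool :=
  comp C m (fun A r => walk C X.F (Nat.mul X.m C.n) (fun _ A' r' j' => band (weq A' []) (k r' j')) ops A
    (H17.app v r) j) u [] []

/-- the word `u` fixes the base point and the points `v • p 1` -/
noncomputable def wordB (X : Ex) (C : Cx) (m : ℕ → ℕ) (V u : List ℕ) (S : List (List ℕ)) : Bool :=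
  band (X.evalB C m u [] 0 (nth [] S 0) fun _ j => Nat.beq j 0)
    (all2 (fun v s => X.evalB C m u [v] 1 s fun r j => band (Nat.beq j 1) (Nat.beq (C.apR r 0) (C.apR [v] 0))) V S.tail)

omit [NeZero X.m] [Finite H] in
theorem evR_app (g : ℕ → H) : ∀ v r : List ℕ, evR g (H17.app v r) = evR g r * evR g v
  | [], r => (mul_one _).symm
  | x :: v, r => by
    change evR g (x :: H17.app v r) = _
    rw [evR, evR_app g v r, evR, mul_assoc]

omit [Finite H] in
theorem p_inj {i j : ℕ} (hi : i < X.m) (hj : j < X.m) {a b : H} (e : a • X.p g i = b • X.p g j) : i = j := by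
  have := congrArg (fun q : X.Pt g => (q.1 : ℕ)) ((smul_p a ⟨i, hi⟩).symm.trans (e.trans (smul_p b ⟨j, hj⟩)))
  exact this

variable (X C g pt ι T) in
/-- everything that is needed to evaluate words -/
structure Full (ψ : G →* Equiv.Perm (X.Pt g)) (n : ℕ) (m : ℕ → ℕ) (f : ℕ → G) (V : List ℕ) : Prop where
  good : X.Good C g pt
  act : X.Act g ι ψ n
  sym : ∀ ω q, ψ (T ω) q = X.τ C g pt ω q
  conj : ∀ a ω, ι a * T ω = T (a • ω) * ι a
  lets : Lets g pt ι T m f
  one : 1 < X.m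
  pos : 0 < C.n
  le : X.S g 1 ≤ stabilizer H (pt 0)
  base : ∀ b ∈ C.base, ∃ v ∈ V, C.apR [v] 0 = b

namespace Full
variable {ψ : G →* Equiv.Perm (X.Pt g)} {n : ℕ} {m : ℕ → ℕ} {f : ℕ → G} {V : List ℕ} (h : X.Full C g pt ι T ψ n m f V)
include h

theorem tP_apply : ∀ (A : List ℕ) (q : X.Pt g), ψ (tP T pt A) q = tauS pt (X.τ C g pt) A q
  | [], q => by rw [tP, map_one]; rfl
  | a :: A, q => by rw [tP, map_mul, Equiv.Perm.mul_apply, h.sym, tP_apply A, tauS]

theorem eval {u v ops : List ℕ} {j : ℕ} {k : List ℕ → ℕ → Bool} (e : X.evalB C m u v j ops k = true) :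
    ∃ r j', k r j' = true ∧ ψ (ev f u) (evR g v • X.p g j) = evR g r • X.p g j' := by
  obtain ⟨A, r, x, y⟩ := comp_sound h.good.ok h.conj h.lets _ _ _ e
  obtain ⟨_, A', r', j', x', y'⟩ := walk_sound h.good.ok h.good.hτ h.good.h0 h.good.holds _ _ _ _ x
  rw [band_true] at x'
  rw [tP, evR, map_one, one_mul, one_mul] at y
  exact ⟨r', j', x'.2, by
    rw [y, map_mul, Equiv.Perm.mul_apply, h.act.map, h.tP_apply, ← mul_smul, ← evR_app, y', eq_of_weq x'.1, tauS]⟩

theorem mem {u ops : List ℕ} (e : X.evalB C m u [] 0 ops (fun _ j => Nat.beq j 0) = true) : ev f u ∈ ι.range := by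
  obtain ⟨r, j, x, y⟩ := h.eval e
  rw [Nat.eq_of_beq_eq_true x, h.good.h0, h.good.h0] at y
  exact h.act.stab ▸ y

theorem not_mem {u ops : List ℕ} (e : X.evalB C m u [] 0 ops (fun _ j => band (Nat.blt 0 j) (Nat.blt j X.m)) = true) :
    ev f u ∉ ι.range := fun c => by
  obtain ⟨r, j, x, y⟩ := h.eval e
  simp only [band_true, Nat.blt_eq] at x
  rw [← h.act.stab] at c
  rw [evR, one_smul] at y
  exact x.1.ne (p_inj (NeZero.pos _) x.2 (a := 1) ((one_smul ..).trans ((show _ = _ from c).symm.trans y)))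

theorem word {u : List ℕ} {S : List (List ℕ)} (e : X.wordB C m V u S = true) : ev f u = 1 := by
  rw [wordB, band_true] at e
  obtain ⟨a, ha⟩ := h.mem e.1
  rw [← ha, h.good.ok.faith a fun b hb => ?_, map_one]
  obtain ⟨v, hv, rfl⟩ := h.base b hb
  obtain ⟨_, e⟩ := all2_spec e.2 v hv
  obtain ⟨r, j, x, y⟩ := h.eval e
  rw [band_true] at x
  rw [← ha, h.act.map, Nat.eq_of_beq_eq_true x.1, ← mul_smul, ← inv_smul_eq_iff, ← mul_smul] at y
  have := h.le ((fix_p h.one).1 y)
  rwa [mem_stabilizer_iff, mul_smul, inv_smul_eq_iff, mul_smul, (h.good.ok.apR r 0 h.pos).2,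
    (h.good.ok.apR [v] 0 h.pos).2, Nat.eq_of_beq_eq_true x.2] at this

theorem sat {W : List (List ℕ)} {S : List (List (List ℕ))} (e : all2 (X.wordB C m V) W S = true) : Sat f W :=
  fun u hu => let ⟨_, e⟩ := all2_spec e u hu; h.word e

end Full

end Ex

end Cfsg.Agent.H27.DC
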