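import Cfsg.Agent.H27.DC5

/-! A cube in the subgroup as a first fact, and words that lie in the subgroup. -/

set_option autoImplicit false

namespace Cfsg.Agent.H27.DC

open Cfsg Subgroup MulAction
open H17 (nth ev band band_true weq eq_of_weq)

variable {H Ω G : Type} [Group H] [MulAction H Ω] [Group G] {C : Cx} {g : ℕ → H} {pt : ℕ → Ω} {ι : H →* G} {T : Ω → G}
  {E : En} {B : Subgroup G}

namespace Ready
variable (h : Ready C E g pt ι T B)
include h

theorem cube (h1 : Upto E g pt ι T B 1) {c y : ℕ}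
    (e : band (band (band (Nat.beq (fb (E.f 1)) (y + 1)) (Nat.beq (fj (E.f 1)) 1))
      (band (Nat.beq (fk (E.f 1)) 1) (Nat.beq (E.d 0) 0)))
      (band (band (Nat.blt y C.n) (Nat.beq (C.apR [c] y) 0)) (C.eqB [fw (E.f 1), c, c] [])) = true)
    (ht : T (pt 0) * T (pt 0) = 1) (hc : (ι (evR g [c]) * T (pt 0)) ^ 3 ∈ B) : Upto E g pt ι T B 2 := fun v hv => by
  rcases Nat.lt_succ_iff_lt_or_eq.1 hv with hv | rfl
  · exact h1 v hv
  rw [band_true, band_true, band_true, band_true, band_true, band_true] at e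
  obtain ⟨⟨⟨e1, e2⟩, e3, e4⟩, ⟨e5, e6⟩, e7⟩ := e
  have a := h.conj (evR g [c]) (pt y)
  have b := congrArg ι (h.ok.eqB e7)
  rw [h.ok.send (by simpa using e5) e6, ← eq_inv_mul_iff_mul_eq] at a
  simp only [evR, one_mul, map_mul, map_one] at a b hc
  refine ⟨fun z => by rw [Nat.eq_of_beq_eq_true e1] at z; omega, fun z hz => ?_⟩
  obtain rfl : y = z := by rw [Nat.eq_of_beq_eq_true e1] at hz; omega
  rw [Nat.eq_of_beq_eq_true e2, Nat.eq_of_beq_eq_true e3, nd, node, Nat.eq_of_beq_eq_true e4, dif_pos (by decide), node]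
  change T (pt y) • T (pt 0) • QX.o ι B = ι _ • T (pt 0) • QX.o ι B
  rw [a, eq_inv_of_mul_eq_one_right b, ← mul_smul, ← mul_smul, ← inv_smul_eq_iff, ← mul_smul, fix_o]
  convert mul_mem (inv_mem (h.sub (ev1 g 16 c))) hc using 1
  rw [mul_inv_rev, eq_inv_of_mul_eq_one_left ht, inv_inv]
  simp only [pow_succ, pow_zero, inv_inv, ← eq_inv_of_mul_eq_one_left ht]
  group

theorem mem {k : ℕ} (hF : Upto E g pt ι T B k) {m : ℕ → ℕ} {f : ℕ → G} (hm : Lets g pt ι T m f) {u ops : List ℕ}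
    (e : comp C m (fun A r => walk C E.f k (fun _ A' _ j => band (weq A' []) (Nat.beq j 0)) ops A r 0) u [] [] = true) :
    ev f u ∈ B := by
  obtain ⟨A, r, x, y⟩ := comp_sound h.ok h.conj hm _ _ _ e
  have h0 : ∀ a : H, a • nd E pt ι T B 0 = nd E pt ι T B 0 := fun a => by rw [h.nd_zero]; exact fix_o.2 (h.sub a)
  obtain ⟨_, A', r', j', x', y'⟩ := walk_sound h.ok h.eqv h0 hF _ _ _ _ x
  rw [band_true] at x'
  rw [eq_of_weq x'.1, Nat.eq_of_beq_eq_true x'.2, tauS, h0 (evR g r'), h.nd_zero, tauS_eq] at y'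
  rw [tP, evR, map_one, one_mul, one_mul] at y
  rw [y, ← fix_o (ι := ι), mul_smul]
  exact y'

end Ready

end Cfsg.Agent.H27.DC
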