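import Cfsg.Agent.H27.HN6

/-! Simplicity. -/

set_option autoImplicit false
set_option maxRecDepth 100000

namespace Cfsg.Agent.H17.HN7

open H27.DC MulAction Subgroup HN3 HN4 HN5 HN6

/-- the points -/
abbrev Y : Type := Ex.PA ψ
/-- the base point -/
noncomputable abbrev p0 : Y := X.p g 0

instance prim : IsPreprimitive G Y := act.primitive hN ho (by decide +kernel)

theorem stab : stabilizer G p0 = ι.range := act.stab

/-- an element of order 11 fixes exactly one point -/
theorem fix11 {b : G} (hb : orderOf b = 11) : ∃ q : Y, b • q = q ∧ ∀ q', b • q' = q' → q' = q := by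
  have : Fact (Nat.Prime 11) := ⟨by norm_num⟩
  obtain ⟨q, hq⟩ := (IsPGroup.of_card (p := 11) (n := 1) (G := zpowers b) (by
    rw [Nat.card_zpowers, hb]; rfl)).nonempty_fixed_point_of_prime_not_dvd_card Y (by rw [act.card]; norm_num)
  have hq : b • q = q := hq ⟨b, mem_zpowers b⟩
  obtain ⟨c, rfl⟩ := exists_smul_eq G p0 q
  obtain ⟨a, ha⟩ : c⁻¹ * b * c ∈ ι.range := stab ▸ (by rw [mem_stabilizer_iff, mul_smul, mul_smul, hq, inv_smul_smul])
  have o : orderOf a = 11 := by
    rw [← orderOf_injective ι act.inj', ha, show c⁻¹ * b * c = MulAut.conj c⁻¹ b by simp, MulEquiv.orderOf_eq, hb]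
  refine ⟨_, hq, fun q' h => inv_smul_eq_iff.1 (act.fix_uniq ho (a := a) ?_ top ?_)⟩
  · rw [o]; decide +kernel
  · rw [ha, mul_smul, mul_smul, smul_inv_smul, h]

/-- the centraliser of an element of order 11 has no element of order 19 -/
theorem not_comm {a b : G} (ha : orderOf a = 19) (hb : orderOf b = 11) : b * a ≠ a * b := fun e => by
  obtain ⟨q, hq, u⟩ := fix11 hb
  have := orderOf_dvd_natCard (⟨a, u _ (by rw [← mul_smul, e, mul_smul, hq])⟩ : stabilizer G q)
  have i := (stabilizer G q).index_mul_card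
  rw [index_stabilizer_of_transitive, act.card, card] at i
  rw [← orderOf_coe, ha] at this
  omega

/-- an element of order 11 -/
noncomputable def n11 : List ℕ := [3, 3, 3, 2, 0, 4, 0]

theorem ev_one {u : List ℕ} (e : band (band (Nat.blt 5 256) (H16.allL u fun a => Nat.blt a 5)) (C.eqB [] (upR u [])) = true) :
    ev HN.g (substW σ u) = 1 := by rw [← ι_ev, ← ok.word hg e, evR, map_one]

theorem pow11 : ev HN.g n11 ^ 11 = 1 := by
  have := ev_one (u := (List.replicate 11 n11).flatten) (by decide +kernel)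
  rw [show substW σ (List.replicate 11 n11).flatten = (List.replicate 11 n11).flatten by decide +kernel] at this
  simpa [pow_succ, mul_assoc] using this

theorem top_of_dvd (N : Subgroup G) [N.Normal] (h : 11 ∣ Nat.card N) : N = ⊤ := by
  let π := QuotientGroup.mk' N
  have i := N.index_mul_card
  have n : π (ev HN.g n11) = 1 := by
    have a : orderOf (π (ev HN.g n11)) ∣ 11 := orderOf_dvd_of_pow_eq_one (by rw [← map_pow, pow11, map_one])
    rcases (Nat.dvd_prime (by norm_num)).1 a with a | a
    · exact orderOf_eq_one_iff.1 a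
    · have := Nat.mul_dvd_mul (a ▸ orderOf_dvd_natCard (π (ev HN.g n11))) h
      rw [← index_eq_card, i, card] at this
      omega
  have a := congrArg π (ev_one (u := n11 ++ [1] ++ (n11 ++ [1]) ++ (n11 ++ [1])) (by decide +kernel))
  rw [show substW σ (n11 ++ [1] ++ (n11 ++ [1]) ++ (n11 ++ [1])) = n11 ++ [1] ++ (n11 ++ [1]) ++ (n11 ++ [1]) by
    decide +kernel] at a
  simp only [ev_append, map_mul, n, one_mul, map_one] at a
  have s : Sat (fun l => π (HN.g l)) [[1], [5], [0], [3]] := chkDer_sound (HN.pres.inv.map π fun _ => rfl)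
    (.cons (r := [1, 1, 1]) (by simpa [mul_assoc] using a) (.cons (r := [1, 1, 1, 1])
      ((map_ev π _ _).symm.trans ((congrArg π (ev_one (u := [1, 1, 1, 1]) (by decide +kernel))).trans (map_one π)))
      (HN.pres.sat.map π fun _ => rfl))) (ds := [[[nat_lit 8, nat_lit 8, nat_lit 1, nat_lit 16, nat_lit 16], [nat_lit 9, nat_lit 4], [nat_lit 3], [nat_lit 4], [nat_lit 3], [nat_lit 4]],
 [[nat_lit 8, nat_lit 1, nat_lit 16], [nat_lit 4], unp 16 10 (nat_lit 0x4003000300028002800710030003000280028), [nat_lit 48, nat_lit 1, nat_lit 40, nat_lit 4], [nat_lit 3], [nat_lit 105, nat_lit 3, nat_lit 3], [nat_lit 3, nat_lit 12], [nat_lit 4], [nat_lit 3, nat_lit 20], [nat_lit 4], [nat_lit 3]],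
 [[nat_lit 0, nat_lit 40, nat_lit 1, nat_lit 48, nat_lit 0], [nat_lit 4], [nat_lit 40, nat_lit 1, nat_lit 48], [nat_lit 4], [nat_lit 137, nat_lit 19, nat_lit 3, nat_lit 19], [nat_lit 3], [nat_lit 4]],
 [[nat_lit 8, nat_lit 17, nat_lit 16], [nat_lit 4], unp 16 7 (nat_lit 0x20002000100011000800180018), [nat_lit 4], unp 16 9 (nat_lit 0x2000200020001800290020001800180018), [nat_lit 32, nat_lit 8, nat_lit 17, nat_lit 16, nat_lit 24], [nat_lit 4], [nat_lit 24, nat_lit 8, nat_lit 17, nat_lit 16, nat_lit 32], [nat_lit 4], unp 16 7 (nat_lit 0x18001800100011000800200020), [nat_lit 4], unp 16 23 (nat_lit 0x4b003c00340023001400340003004c002000200020001000200020000800410010001800180008001800180018), [nat_lit 4], [nat_lit 4], [nat_lit 4], unp 16 12 (nat_lit 0x30043006b003300030043006b003300030043006b0049), [nat_lit 3, nat_lit 12], [nat_lit 4], [nat_lit 3, nat_lit 20], [nat_lit 4], [nat_lit 3]]]) (by decide +kernel)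
  have : wgrp HN.g [[1], [5], [0], [3]] ≤ N := wgrp_le fun u hu =>
    (QuotientGroup.eq_one_iff _).1 ((map_ev π _ _).trans (s u hu))
  exact HN.pres.eq_top fun x hx => this (mem_pair HN.pres.inv (S := 127) (by decide +kernel) x (by revert x; decide))

theorem simple : IsSimpleGroup G := by
  have : Nontrivial G := Finite.one_lt_card_iff_nontrivial.1 (by rw [card]; norm_num)
  refine ⟨fun N _ => or_iff_not_imp_left.2 fun hN => top_of_dvd N (by_contra fun h11 => ?_)⟩
  have : IsPretransitive N Y := IsQuasiPreprimitive.isPretransitive_of_normal fun e => hN (eq_bot_iff.2 fun a ha =>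
    act.inj ((Equiv.ext fun q => (e.ge (Set.mem_univ q) : q ∈ fixedPoints N Y) ⟨a, ha⟩).trans (map_one ψ).symm))
  have : Fact (Nat.Prime 11) := ⟨by norm_num⟩
  have : Fact (Nat.Prime 19) := ⟨by norm_num⟩
  have d : 19 ∣ Nat.card N := Dvd.dvd.trans (by rw [index_stabilizer_of_transitive, act.card]; norm_num)
    (stabilizer N p0).index_dvd_card
  obtain ⟨a, ha⟩ := exists_prime_orderOf_dvd_card' 19 d
  rw [← orderOf_coe] at ha
  have c : Nat.card (zpowers (a : G)) = 19 := by rw [Nat.card_zpowers, ha]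
  let P := (IsPGroup.of_card (p := 19) (n := 1) (G := zpowers (a : G)) c).toSylow (by
    have := (zpowers (a : G)).index_mul_card
    rw [c, card] at this
    omega)
  have t : normalizer (zpowers (a : G) : Set G) ⊔ N = ⊤ := Sylow.normalizer_sup_eq_top' P (zpowers_le.2 a.2)
  have d2 : 11 ∣ Nat.card (normalizer (zpowers (a : G) : Set G)) := by
    refine Dvd.dvd.trans ?_ (relIndex_dvd_card N _)
    rw [← relIndex_sup_right, t, relIndex_top_right]
    exact ((Nat.Prime.dvd_mul (by norm_num)).1 (by rw [N.index_mul_card, card]; norm_num)).resolve_right h11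
  obtain ⟨b, hb⟩ := exists_prime_orderOf_dvd_card' 11 d2
  have f : (zpowers (a : G)).normalizerMonoidHom b = 1 := by
    have x := orderOf_dvd_natCard ((zpowers (a : G)).normalizerMonoidHom b)
    have y := hb ▸ orderOf_map_dvd (zpowers (a : G)).normalizerMonoidHom b
    rw [IsCyclic.card_mulAut, c] at x
    exact orderOf_eq_one_iff.1 (Nat.eq_one_of_dvd_coprimes (by decide +kernel) x y)
  have := congrArg (fun e : MulAut (zpowers (a : G)) => (e ⟨a, mem_zpowers _⟩ : G)) f
  exact not_comm ha ((orderOf_coe b).trans hb) (mul_inv_eq_iff_eq_mul.1 this)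

end Cfsg.Agent.H17.HN7
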