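import Cfsg.Agent.H27.HN7
import Cfsg.Agent.H21.HS
import Cfsg.Agent.H16.HomEng
import Cfsg.Agent.H21.Leech12

/-! The subgroup of index two in the point stabiliser is a double cover of the Higman–Sims group. -/

set_option autoImplicit false
set_option maxRecDepth 100000

namespace Cfsg.Agent.H17.HN8

open H27.DC MulAction Subgroup HN3
open H16 (Inj InK Gen)

section general
variable {A B Ω1 Ω2 : Type*} [Group A] [Group B] [MulAction A Ω1] [MulAction B Ω2] {pt1 : ℕ → Ω1} {pt2 : ℕ → Ω2} {n w : ℕ}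

theorem rep_apW {g : ℕ → A} {S : List ℕ} {nc : ℕ} (h : ∀ a < nc, H16.Rep pt1 n (g a) (H16.get w (nth 0 S a))) :
    ∀ u : List ℕ, (∀ a ∈ u, a < nc) → H16.Rep pt1 n (ev g u) (apW w S u)
  | [], _ => H16.Rep.one
  | a :: u, hu => ((h a (hu a List.mem_cons_self)).comp
      (rep_apW h u fun b hb => hu b (List.mem_cons_of_mem _ hb))).congr fun _ _ => H27.Tl.frc_eq ..

/-- groups that induce the same permutations -/
theorem exists_hom_same (i1 : Inj pt1 n) {K : Subgroup A} {L : Subgroup B} (fL : H16.Faith pt2 n L) {S : List ℕ}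
    (gL : Gen pt2 n w L S) (hK : ∀ p ∈ S, InK pt1 n K (H16.get w p)) :
    ∃ (D : Subgroup A) (θ : D →* L), D ≤ K ∧ Function.Surjective θ ∧
      ∀ a ∈ K, (∀ i < n, a • pt1 i = pt1 i) → ∃ h : a ∈ D, θ ⟨a, h⟩ = 1 := by
  let D : Subgroup A :=
    { carrier := {a | a ∈ K ∧ ∃ b : L, ∃ f, H16.Rep pt1 n a f ∧ H16.Rep pt2 n (b : B) f}
      mul_mem' := fun ⟨x, b, f, p, q⟩ ⟨y, b', f', p', q'⟩ => ⟨mul_mem x y, b * b', _, p.comp p', q.comp q'⟩
      one_mem' := ⟨one_mem _, 1, _, H16.Rep.one, H16.Rep.one⟩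
      inv_mem' := fun {a} ⟨x, b, f, p, q⟩ => by
        have s : Function.Surjective fun i : Fin n => (⟨f i, (p i i.2).1⟩ : Fin n) :=
          Finite.injective_iff_surjective.1 fun i j e => Fin.ext (i1 _ i.2 _ j.2 (smul_left_cancel a (by
            rw [(p i i.2).2, (p j j.2).2, show f i = f j from congrArg Fin.val e])))
        have : ∀ i, i < n → ∃ j, j < n ∧ f j = i := fun i hi =>
          let ⟨j, e⟩ := s ⟨i, hi⟩; ⟨j, j.2, congrArg Fin.val e⟩
        choose! f' h using this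
        exact ⟨inv_mem x, b⁻¹, f', p.inv_of h, q.inv_of h⟩ }
  have u : ∀ {a : A} {b b' : L} {f f'}, H16.Rep pt1 n a f → H16.Rep pt2 n (b : B) f → H16.Rep pt1 n a f' →
      H16.Rep pt2 n (b' : B) f' → b = b' := fun {a b b' f f'} p q p' q' =>
    (inv_mul_eq_one.1 (Subtype.ext (fL _ (b'⁻¹ * b).2 fun i hi => by
      rw [coe_mul, mul_smul, (q i hi).2, coe_inv, inv_smul_eq_iff, (q' i hi).2,
        i1 _ (p i hi).1 _ (p' i hi).1 ((p i hi).2.symm.trans (p' i hi).2)]))).symm
  choose θ f p q using fun a : D => a.2.2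
  let θ' : D →* L := MonoidHom.mk' θ fun a b => u (p _) (q _) ((p a).comp (p b)) ((q a).comp (q b))
  refine ⟨D, θ', fun a ha => ha.1, H16.surj_of_gen gL θ' fun c hc => ?_, fun a ha e => ?_⟩
  · obtain ⟨a, ha, r⟩ := hK c hc
    obtain ⟨b, hb, r'⟩ := gL.1 c hc
    let a' : D := ⟨a, ha, ⟨b, hb⟩, _, r, r'⟩
    exact ⟨a', (u (p a') (q a') r (b' := ⟨b, hb⟩) r' : θ' a' = _) ▸ r'⟩
  · have r : H16.Rep pt1 n a fun i => i := fun i hi => ⟨hi, e i hi⟩
    exact ⟨⟨ha, 1, _, r, H16.Rep.one⟩, u (p _) (q _) r (b' := 1) H16.Rep.one⟩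

end general

theorem exε : ∃ ε : H →* Equiv.Perm (Fin 2), ∀ a < 5, H16.Rep (PF.at ε) 2 (g0 a) (H16.get 1 (nth 0 [1, 2, 2, 2, 2] a)) :=
  exists_perm HN2.pres (by decide +kernel)
/-- the sign -/
noncomputable def ε : H →* Equiv.Perm (Fin 2) := exε.choose
/-- the subgroup of index two -/
noncomputable def K : Subgroup H := ε.ker
instance : K.Normal := inferInstanceAs ε.ker.Normal

theorem mem_K {u : List ℕ} (h : ∀ a ∈ u, a < 5) : ev g0 u ∈ K ↔ apW 1 [1, 2, 2, 2, 2] u 0 = 0 := by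
  have r := rep_apW exε.choose_spec u h 0 (by decide)
  have : ∀ e : Equiv.Perm (Fin 2), e = 1 ↔ e 0 = 0 := by decide
  rw [K, MonoidHom.mem_ker, this]
  exact ⟨fun e => PF.inj ε _ r.1 _ (by decide) (r.2.symm.trans e), fun e => r.2.trans (congrArg _ e)⟩

theorem z_not : g0 0 ∉ K := by simpa using (mem_K (u := [0]) (by decide)).not.2 (by decide +kernel)

theorem index : K.index = 2 := by
  have a := ε.range.card_le_card_group
  rw [← index_ker, Nat.card_perm, Nat.card_fin] at a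
  have b : K.index ≠ 1 := fun e => z_not (index_eq_one.1 e ▸ mem_top _)
  have c : K.index ≠ 0 := index_ne_zero_of_finite
  change K.index ≤ 2 at a
  omega

theorem card : Nat.card K = 88704000 := by
  have := K.index_mul_card
  rw [index, hN] at this
  omega

noncomputable def S : List ℕ := [nat_lit 0x829a660bedeed6a92acd8a571cdba75c19d55388e1256834831199847d0b1c0390deb076eaa9abcd8bb48ac593c3ea5681573d70a1388a191c890a05e7a83f36e12476a58125212e6931e8c68716a138819242c4a255600, nat_lit 0x829a6365ade99a3929d4e7ce0ebfbb0c0b91360261316830d2509991a51b1a0a95c4306966856bd80bbb8abcfbc64a6f830a9d70a5588a0e32005c0626eadb3d711cb6a3c125211e2132c9240742a27bd19255cd58568a2, nat_lit 0x829a6365ade99a3929d4e7ce0ebfbb0c0b91360261316830d2509991a51b1a0a95c4306966856bd80bbb8abcfbc64a6f830a9d70a5588a0e32005c0626eadb3d711cb6a3c125211e2132c9240742a27bd19255cd58568a2, nat_lit 0x5b7b0bfbb25be2ae80719b70dc25c74d605772db303f0679d886840db0ea50b5471a28b91ec95bf397ab1935abd04cea0f26e5e27a102923482ad216406b1784264147c588049898945a380dae0cc4f5500454988c88187,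 nat_lit 0xa77308e6f8afbbae85cc3b67442da4947a792d99139d06f19740c847ac6e526c05d8299f09555bb358bd5c7c54c6a331d168fc2bc504aa23480905a962643e1b1ac043859c18564431559662338088d45002e81402bcf07]
theorem exρ : ∃ ρ : H →* Equiv.Perm (Fin 100), ∀ a < 5, H16.Rep (PF.at ρ) 100 (g0 a) (H16.get 7 (nth 0 S a)) :=
  exists_perm HN2.pres (by decide +kernel)

theorem x_mem : g0 1 ∈ K := by simpa using (mem_K (u := [1]) (by decide)).2 (by decide +kernel)
theorem y_mem : g0 3 ∈ K := by simpa using (mem_K (u := [3]) (by decide)).2 (by decide +kernel)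
/-- `x` -/
noncomputable def x : K := ⟨g0 1, x_mem⟩
/-- `y` -/
noncomputable def y : K := ⟨g0 3, y_mem⟩

theorem xx_ne : x * x ≠ 1 := fun e => by
  have a := ok.send (r := [2, 2]) (y := 0) (a := 8) (by decide) (by decide +kernel)
  rw [ok.word hg (u := [1, 1]) (by decide +kernel), ev_cons, ev_cons, ev_nil, mul_one,
    show g0 1 * g0 1 = 1 from congrArg Subtype.val e, one_smul] at a
  exact absurd (ok.inj _ (by decide) _ (by decide) a) (by decide)

theorem xx_comm (a : H) : a * (g0 1 * g0 1) = g0 1 * g0 1 * a := by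
  have : centralizer {g0 1 * g0 1} = ⊤ := HN2.pres.eq_top fun l hl => mem_centralizer_singleton_iff.2 (by
    have e := ok.eqB (r := [2, 2, l + 1]) (s := [l + 1, 2, 2]) (by interval_cases l <;> decide +kernel)
    simpa [evR, ev1_lt g (a := l + 1) (by omega) (by omega), ev1_lt g (a := 2) (by omega) (by omega), hg l hl,
      hg 1 (by decide), mul_assoc] using e)
  exact mem_centralizer_singleton_iff.1 (this ▸ mem_top a)

theorem exθ : ∃ θ : K →* LL.KH, Function.Surjective θ ∧ θ (x * x) = 1 := by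
  obtain ⟨ρ, hρ⟩ := exρ
  obtain ⟨D, θ, a, b, c⟩ := exists_hom_same (PF.inj ρ) (K := K) LL.faithH LL.genH (by
    have : ∀ u p, (∀ a ∈ u, a < 5) → apW 1 [1, 2, 2, 2, 2] u 0 = 0 →
        H16.allB 100 (fun i => Nat.beq (H16.get 7 p i) (apW 7 S u i)) = true → InK (PF.at ρ) 100 K (H16.get 7 p) :=
      fun u p h1 h2 h3 => ⟨_, (mem_K h1).2 h2, (rep_apW hρ u h1).congr fun i hi =>
        Nat.eq_of_beq_eq_true (H16.allB_spec h3 i hi)⟩
    simp only [LL.gH, List.forall_mem_cons]
    exact ⟨this [4, 2, 4, 2, 3, 0, 4, 4, 2, 4, 0, 4, 0, 4, 4, 0, 3, 1, 4, 4] _ (by decide) (by decide +kernel) (by decide +kernel),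
      this [0, 4, 2, 4, 4, 4, 2, 4, 4, 1, 4, 1, 0, 4, 1, 4, 1] _ (by decide) (by decide +kernel) (by decide +kernel), fun _ h => nomatch h⟩)
  obtain ⟨d, e⟩ := c _ (x * x).2 fun i hi => by
    have r := rep_apW hρ [1, 1] (by decide) i hi
    rw [show apW 7 S [1, 1] i = i from Nat.eq_of_beq_eq_true (H16.allB_spec (n := 100)
      (f := fun i => Nat.beq (apW 7 S [1, 1] i) i) (by decide +kernel) i hi)] at r
    simpa [x] using r.2
  have k : 1 < Nat.card θ.ker := Finite.one_lt_card_iff_nontrivial.2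
    ⟨⟨⟨_, e⟩, 1, fun h => xx_ne (Subtype.ext (congrArg (fun z : θ.ker => (z.1 : H)) h))⟩⟩
  have m := H16.card_ker_mul θ b
  rw [LL.card_KH] at m
  obtain rfl : D = K := eq_of_le_of_card_ge a (by rw [card]; omega)
  exact ⟨θ, b, e⟩

/-- the map onto the Higman–Sims group -/
noncomputable def θ : K →* LL.KH := exθ.choose
theorem θ_surj : Function.Surjective θ := exθ.choose_spec.1

theorem card_ker : Nat.card θ.ker = 2 := by
  have m := H16.card_ker_mul θ θ_surj
  rw [LL.card_KH, card] at m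
  exact Nat.eq_of_mul_eq_mul_right (by norm_num) m

theorem xx_center : x * x ∈ center K := mem_center_iff.2 fun a => Subtype.ext (xx_comm a)

theorem mem_ker {a : K} (h : a ∈ θ.ker) : a = 1 ∨ a = x * x := by
  refine or_iff_not_imp_left.2 fun c => ?_
  obtain ⟨b, -, hb⟩ := (Nat.card_eq_two_iff' (1 : θ.ker)).1 card_ker
  exact congrArg Subtype.val ((hb ⟨a, h⟩ fun e => c (congrArg Subtype.val e)).trans
    (hb ⟨x * x, exθ.choose_spec.2⟩ fun e => xx_ne (congrArg Subtype.val e)).symm)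

theorem center_eq : center K = θ.ker := by
  have := LL.simple_KH
  refine le_antisymm (fun a ha => ?_) fun a ha => ?_
  · have : θ a ∈ center LL.KH := mem_center_iff.2 fun b => by
      obtain ⟨b, rfl⟩ := θ_surj b
      rw [← map_mul, ← map_mul, mem_center_iff.1 ha]
    rwa [H16.center_eq_bot_of_simple (by rw [LL.card_KH]; norm_num)] at this
  · rcases mem_ker ha with rfl | rfl
    exacts [one_mem _, xx_center]

theorem cover : IsNonsplitDoubleCover K Spor.HS := by
  refine ⟨center_eq ▸ card_ker, ⟨((QuotientGroup.quotientMulEquivOfEq center_eq).trans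
    (QuotientGroup.quotientKerEquivOfSurjective θ θ_surj)).trans LL.sporHS.symm⟩, fun L h => xx_ne ?_⟩
  have i : L.index = 2 := by rw [h.index_eq_card, center_eq, card_ker]
  exact disjoint_def.1 h.disjoint xx_center ((mul_mem_iff_of_index_two i).2 Iff.rfl)

end Cfsg.Agent.H17.HN8
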