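import Cfsg.Agent.H27.HN8
import Cfsg.Agent.S2046

/-! The Schur multiplier is trivial. -/

set_option autoImplicit false
set_option maxRecDepth 100000

namespace Cfsg.Agent.H17.HN9

open H27 Subgroup HN3 HN4 HN6 HN8

/-- a perfect cover whose kernel is as large as the multiplier has no proper stem extension -/
theorem closed_of_cover {P Q A : Type} [Group P] [Finite P] [Group Q] [CommGroup A] [Finite A] (hP : commutator P = ⊤)
    {θ : P →* Q} (hs : Function.Surjective θ) (hc : θ.ker ≤ center P) (h : HasSchurMultiplier Q A)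
    (hA : Nat.card A ≤ Nat.card θ.ker) {r : ℕ} (hr : r.Prime) : ClosedAt r P :=
  closedAt_of hr fun Γ _ _ σ hσ hk _ => by
    have p : commutator Γ = ⊤ := eq_top_of_stem hσ fun a => by
      have : σ a ∈ (commutator Γ).map σ := by
        rw [map_commutator_eq, MonoidHom.range_eq_top.2 hσ.1, ← commutator_def, hP]; trivial
      exact this
    obtain ⟨π, hπ⟩ := h.2 Γ (θ.comp σ) ⟨hs.comp hσ.1, fun z hz => mem_center_iff.2 fun a => by
      have : commutator Γ ≤ centralizer {z} := commutator_le.2 fun a _ b _ => mem_centralizer_singleton_iff.2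
        (commute_comm_of_ker hσ.2.1 (mem_center_iff.1 (hc hz) _).symm (mem_center_iff.1 (hc hz) _).symm).symm
      exact mem_centralizer_singleton_iff.1 (this (p ▸ mem_top a)), p ▸ le_top⟩
    have a := (Nat.card_le_card_of_surjective π hπ).trans hA
    have b := H16.card_ker_mul σ hσ.1
    have c := H16.card_ker_mul θ hs
    have d := H16.card_ker_mul (θ.comp σ) (hs.comp hσ.1)
    have e : 0 < Nat.card P := Nat.card_pos
    have f := hr.two_le
    rw [hk] at b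
    have := Nat.mul_le_mul_right (Nat.card Q) a
    nlinarith

theorem perfect : commutator K = ⊤ := by
  have := LL.simple_KH
  have q : commutator LL.KH = ⊤ := (IsSimpleGroup.eq_bot_or_eq_top_of_normal _ inferInstance).resolve_left fun e => by
    have := (commutator_eq_bot_iff_center_eq_top (G := LL.KH)).1 e
    rw [H16.center_eq_bot_of_simple (by rw [LL.card_KH]; norm_num)] at this
    exact bot_ne_top this
  have k : ∀ a : K, ∃ b ∈ commutator K, a = b ∨ a = b * (x * x) := fun a => by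
    obtain ⟨b, hb, e⟩ : θ a ∈ (commutator K).map θ := by
      rw [map_commutator_eq, MonoidHom.range_eq_top.2 θ_surj, ← commutator_def, q]; trivial
    refine ⟨b, hb, (mem_ker (a := b⁻¹ * a) (by simp [e])).imp (fun h => ?_) fun h => ?_⟩
    exacts [(inv_mul_eq_one.1 h).symm, inv_mul_eq_iff_eq_mul.1 h]
  have x4 : x * x * (x * x) = 1 := (mem_ker (mul_mem exθ.choose_spec.2 exθ.choose_spec.2)).resolve_right fun h =>
    xx_ne (mul_eq_left.1 h)
  have m : x * x ∈ commutator K := by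
    obtain ⟨b, hb, e | e⟩ := k x
    · exact e ▸ mul_mem hb hb
    · have : x * x = b * b := by
        conv_lhs => rw [e]
        rw [mul_assoc, ← mul_assoc (x * x), ← mem_center_iff.1 xx_center b, mul_assoc b, x4, mul_one]
      exact this ▸ mul_mem hb hb
  refine eq_top_iff.2 fun a _ => ?_
  obtain ⟨b, hb, rfl | rfl⟩ := k a
  exacts [hb, mul_mem hb m]

theorem closedK {r : ℕ} (hr : r.Prime) : ClosedAt r K :=
  closed_of_cover perfect θ_surj center_eq.ge (hasSchur_congr S2046.result LL.sporHS) (by rw [card_ker]; simp) hr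

section adjust
variable {Γ : Type} [Group Γ]

theorem adjT {t a : Γ} (hd : t ^ 5 ∈ center Γ) (hf : a⁻¹ * t * a * t ^ 2 ∈ center Γ) :
    ∃ b ∈ closure {t ^ 5, a⁻¹ * t * a * t ^ 2}, (t * b) ^ 5 = 1 ∧ a⁻¹ * (t * b) * a * (t * b) ^ 2 = 1 := by
  obtain ⟨d, ed⟩ : ∃ d : center Γ, t ^ 5 = d := ⟨⟨_, hd⟩, rfl⟩
  obtain ⟨f, ef⟩ : ∃ f : center Γ, a⁻¹ * t * a * t ^ 2 = f := ⟨⟨_, hf⟩, rfl⟩
  have c : ∀ (z : center Γ) (u : Γ), Commute u z := fun z u => mem_center_iff.1 z.2 u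
  have e : f ^ 5 = d ^ 3 := Subtype.ext (by
    have h : (a⁻¹ * t * a) ^ 5 = d := by
      rw [show (a⁻¹ * t * a) ^ 5 = a⁻¹ * t ^ 5 * a by simpa using conj_pow (a := a⁻¹) (b := t) (i := 5), ed, (c d _).eq]; group
    rw [eq_mul_inv_of_mul_eq ef, (c f _).symm.mul_pow] at h
    rw [coe_pow, coe_pow, eq_mul_inv_of_mul_eq h, ← ed]; group)
  have c2 : ∀ z w : center Γ, Commute z w := fun z w => Subtype.ext (c w z)
  refine ⟨(f⁻¹ ^ 2 * d : center Γ), ?_, ?_, ?_⟩
  · rw [ed, ef]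
    exact mul_mem (pow_mem (inv_mem (subset_closure (by simp))) _) (subset_closure (by simp))
  · rw [(c _ t).mul_pow, ed, ← coe_pow, ← coe_mul, (c2 _ _).mul_pow, ← pow_mul, mul_comm 2, pow_mul, inv_pow, e]
    rw [show d * ((d ^ 3)⁻¹ ^ 2 * d ^ 5) = 1 by group]; rfl
  · generalize hb : (f⁻¹ ^ 2 * d : center Γ) = b
    have : f * b ^ 3 = 1 := by rw [← hb, (c2 _ _).mul_pow, ← e]; group
    rw [(c b t).mul_pow, show a⁻¹ * (t * b) * a * (t ^ 2 * b ^ 2) = a⁻¹ * t * (b * (a * t ^ 2)) * b ^ 2 by group,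
      ← (c b _).eq, show a⁻¹ * t * (a * t ^ 2 * b) * b ^ 2 = a⁻¹ * t * a * t ^ 2 * b ^ 3 by group, ef]
    exact congrArg Subtype.val this

theorem adjZ {t s z : Γ} (hc : z ^ 2 ∈ center Γ) (hh : (z * t) ^ 3 ∈ center Γ) (h1 : s * z = z * s)
    (h2 : s * t * s⁻¹ = t⁻¹) : ∃ b ∈ closure {z ^ 2, (z * t) ^ 3}, (z * b) ^ 2 = 1 ∧ (z * b * t) ^ 3 = 1 := by
  obtain ⟨d, ed⟩ : ∃ d : center Γ, z ^ 2 = d := ⟨⟨_, hc⟩, rfl⟩
  obtain ⟨f, ef⟩ : ∃ f : center Γ, (z * t) ^ 3 = f := ⟨⟨_, hh⟩, rfl⟩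
  have c : ∀ (z : center Γ) (u : Γ), Commute u z := fun z u => mem_center_iff.1 z.2 u
  have e : f ^ 2 = d ^ 3 := Subtype.ext (by
    have a1 : (z * t⁻¹) ^ 3 = f := by
      rw [← h2, ← mul_assoc, ← mul_assoc, ← h1, mul_assoc s, conj_pow, ef, (c f s).eq, mul_inv_cancel_right]
    have a2 : (t * z) ^ 3 = f := by
      rw [show (t * z) ^ 3 = z⁻¹ * (z * t) ^ 3 * z by simp only [pow_succ]; group, ef, (c f _).eq]; group
    have a3 : t * z = (z * t⁻¹)⁻¹ * d := by rw [← ed]; group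
    rw [a3, (c d _).mul_pow, inv_pow, a1, inv_mul_eq_iff_eq_mul] at a2
    rw [coe_pow, coe_pow, a2, pow_two])
  have c2 : ∀ z w : center Γ, Commute z w := fun z w => Subtype.ext (c w z)
  refine ⟨(f⁻¹ * d : center Γ), ?_, ?_, ?_⟩
  · rw [ed, ef]
    exact mul_mem (inv_mem (subset_closure (by simp))) (subset_closure (by simp))
  · rw [(c _ z).mul_pow, ed, ← coe_pow, ← coe_mul, (c2 _ _).mul_pow, inv_pow, e]
    rw [show d * ((d ^ 3)⁻¹ * d ^ 2) = 1 by group]; rfl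
  · rw [mul_assoc, ← (c _ t).eq, ← mul_assoc, (c _ _).mul_pow, ef, ← coe_pow, ← coe_mul, (c2 _ _).mul_pow, ← e]
    rw [show f * (f⁻¹ ^ 3 * f ^ 2) = 1 by group]; rfl

end adjust

theorem zz : g0 0 * g0 0 = 1 := by simpa using HN2.pres.sat [0, 0] (memW_sound (by decide +kernel))

theorem closed {r : ℕ} (hr : r.Prime) : ClosedAt r G := closedAt_of hr fun Γ _ _ σ hσ hk _ => by
  obtain ⟨κ, hκ⟩ := exists_lift_of_closed perfect hσ.1 hσ.2.1 (fun r hr _ => closedK hr) (ι.comp K.subtype)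
  have hκ : ∀ k, σ (κ k) = ι k := DFunLike.congr_fun hκ
  have R : ∀ u, memW u HN.R0 = true → ev HN.g u = 1 := fun u h => HN.pres.sat u (memW_sound h)
  have I : ∀ l, HN.g (inv 1 l) = (HN.g l)⁻¹ := HN.pres.inv
  have ιg : ∀ a < 5, ι (g0 a) = HN.g a := fun a ha => hg a ha ▸ ι_g a ha
  have σx : σ (κ x) = HN.g 1 := (hκ x).trans (ιg 1 (by decide))
  have σy : σ (κ y) = HN.g 3 := (hκ y).trans (ιg 3 (by decide))
  obtain ⟨t0, ht0⟩ := hσ.1 (HN.g 5)
  have k1 : t0 ^ 5 ∈ σ.ker := by simpa [ht0, pow_succ, mul_assoc] using R [5, 5, 5, 5, 5] (by decide +kernel)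
  have k2 : (κ x)⁻¹ * t0 * κ x * t0 ^ 2 ∈ σ.ker := by
    simpa [ht0, σx, pow_succ, mul_assoc, show HN.g 2 = _ from I 1] using R [2, 5, 1, 5, 5] (by decide +kernel)
  obtain ⟨b, hb, t5, tx⟩ := adjT (hσ.2.1 k1) (hσ.2.1 k2)
  have ht : σ (t0 * b) = HN.g 5 := by
    rw [map_mul, (closure_le σ.ker).2 (Set.insert_subset k1 (Set.singleton_subset_iff.2 k2)) hb, mul_one, ht0]
  generalize t0 * b = t at t5 tx ht
  have cj : ∀ z, σ z = HN.g 0 → ∀ k : K, z * κ k * z⁻¹ = κ (MulAut.conjNormal (g0 0) k) := fun z hz k =>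
    DFunLike.congr_fun (lift_unique hσ.2.1 perfect (τ := (MulAut.conj z).toMonoidHom.comp κ)
      (τ' := κ.comp (MulAut.conjNormal (H := HN8.K) (g0 0)).toMonoidHom) fun k => by simp [hκ, hz, ιg 0 (by decide)]) k
  obtain ⟨z0, hz0⟩ := hσ.1 (HN.g 0)
  have k3 : z0 ^ 2 ∈ σ.ker := by simpa [hz0, pow_succ, mul_assoc] using R [0, 0] (by decide +kernel)
  have k4 : (z0 * t) ^ 3 ∈ σ.ker := by
    simpa [hz0, ht, pow_succ, mul_assoc] using R [0, 5, 0, 5, 0, 5] (by decide +kernel)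
  obtain ⟨b, hb, z2, zt⟩ := adjZ (s := (κ (x * x))⁻¹) (hσ.2.1 k3) (hσ.2.1 k4) (by
    have := cj z0 hz0 (x * x)
    rw [show MulAut.conjNormal (g0 0) (x * x) = x * x from Subtype.ext (mul_inv_eq_iff_eq_mul.2 (xx_comm _)),
      mul_inv_eq_iff_eq_mul] at this
    exact (Commute.inv_right this).symm) (by
    have a := eq_inv_of_mul_eq_one_left tx
    rw [map_mul, show (κ x * κ x)⁻¹ * t * (κ x * κ x)⁻¹⁻¹ = (κ x)⁻¹ * ((κ x)⁻¹ * t * κ x) * κ x by simp [mul_assoc], a,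
      show (κ x)⁻¹ * (t ^ 2)⁻¹ * κ x = (((κ x)⁻¹ * t * κ x) ^ 2)⁻¹ by simp [pow_two, mul_assoc], a, eq_inv_iff_mul_eq_one, ← t5]
    group)
  have hz : σ (z0 * b) = HN.g 0 := by
    rw [map_mul, (closure_le σ.ker).2 (Set.insert_subset k3 (Set.singleton_subset_iff.2 k4)) hb, mul_one, hz0]
  generalize z0 * b = z at z2 zt hz
  have ty : t⁻¹ * (κ y)⁻¹ * t * κ y = 1 := by
    have k : t⁻¹ * (κ y)⁻¹ * t * κ y ∈ σ.ker := by
      simpa [ht, σy, mul_assoc, show HN.g 6 = _ from I 5, show HN.g 4 = _ from I 3] using R [6, 4, 5, 3] (by decide +kernel)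
    generalize he : t⁻¹ * (κ y)⁻¹ * t * κ y = e at k
    have c : ∀ u, Commute u e := fun u => mem_center_iff.1 (hσ.2.1 k) u
    have a1 : (κ y)⁻¹ * t * κ y = t * e := by rw [← he]; group
    have a2 : t⁻¹ * (κ y)⁻¹ * t = (κ y)⁻¹ * e := by rw [(c _).eq, ← he]; group
    have b1 : e ^ 5 = 1 := by
      have := conj_pow (a := (κ y)⁻¹) (b := t) (i := 5)
      rwa [inv_inv, a1, (c _).mul_pow, t5, one_mul, mul_one, inv_mul_cancel] at this
    have y6 : (κ y)⁻¹ ^ 6 = 1 := by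
      rw [inv_pow, ← map_pow, show y ^ 6 = 1 from Subtype.ext (by
        simpa [y, pow_succ, mul_assoc] using HN2.pres.sat [3, 3, 3, 3, 3, 3] (memW_sound (by decide +kernel))), map_one, inv_one]
    have b2 : e ^ 6 = 1 := by
      have := conj_pow (a := t⁻¹) (b := (κ y)⁻¹) (i := 6)
      rwa [inv_inv, a2, (c _).mul_pow, y6, one_mul, mul_one, inv_mul_cancel] at this
    rwa [pow_succ, b1, one_mul] at b2
  let f : ℕ → Γ := nth 1 [z, κ x, (κ x)⁻¹, κ y, (κ y)⁻¹, t, t⁻¹]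
  have zi : z * z = 1 := (pow_two z).symm.trans z2
  have P : ∀ u : List ℕ, (∀ a ∈ u, a < 5) → ∃ k : K, (ev g0 u = k ∧ ev f u = κ k) ∨
      (ev g0 u = k * g0 0 ∧ ev f u = κ k * z) := fun u => by
    induction u with
    | nil => exact fun _ => ⟨1, .inl ⟨rfl, (map_one κ).symm⟩⟩
    | cons a u ih =>
      intro hu
      obtain ⟨k, hk⟩ := ih fun b hb => hu b (List.mem_cons_of_mem _ hb)
      have l := hu a List.mem_cons_self
      have s : ∀ c : K, g0 a = c → f a = κ c → ∃ k : K, (ev g0 (a :: u) = k ∧ ev f (a :: u) = κ k) ∨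
          (ev g0 (a :: u) = k * g0 0 ∧ ev f (a :: u) = κ k * z) := fun c e e' => ⟨c * k, hk.imp
        (fun h => ⟨by rw [ev_cons, e, h.1]; rfl, by rw [ev_cons, e', h.2, map_mul]⟩)
        fun h => ⟨by rw [ev_cons, e, h.1, ← mul_assoc]; rfl, by rw [ev_cons, e', h.2, map_mul, mul_assoc]⟩⟩
      interval_cases a
      · refine ⟨MulAut.conjNormal (g0 0) k, hk.symm.imp (fun h => ⟨?_, ?_⟩) fun h => ⟨?_, ?_⟩⟩ <;>
          simp only [ev_cons, h.1, h.2, ← cj z hz, MulAut.conjNormal_apply, inv_mul_cancel_right,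
            inv_eq_of_mul_eq_one_right zz, inv_eq_of_mul_eq_one_right zi, mul_assoc, zz, zi, mul_one] <;> rfl
      exacts [s x rfl rfl, s x⁻¹ (HN2.pres.inv 1) (map_inv κ x).symm, s y rfl rfl, s y⁻¹ (HN2.pres.inv 3) (map_inv κ y).symm]
  have S0 : Sat f HN2.R0 := fun u hu => by
    obtain ⟨k, h | h⟩ := P u (by revert u; decide +kernel)
    · rw [h.2, show k = 1 from Subtype.ext (h.1.symm.trans (HN2.pres.sat u hu)), map_one]
    · refine absurd ?_ z_not
      rw [eq_inv_of_mul_eq_one_right (h.1.symm.trans (HN2.pres.sat u hu))]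
      exact inv_mem k.2
  have tr : ∀ l, 7 ≤ l → f l = 1 := fun l hl => nth_of_ge _ hl
  obtain ⟨τ, hτ⟩ := HN.pres.lift Γ f (inv_of_sat (nc := 7) rfl (by decide) tr (by
      change Sat f [[6, 5], [5, 6], [4, 3], [3, 4], [2, 1], [1, 2], [0, 0]]
      simp only [Sat, List.forall_mem_cons, ev_cons, ev_nil, mul_one]
      exact ⟨inv_mul_cancel t, mul_inv_cancel t, inv_mul_cancel (κ y), mul_inv_cancel (κ y), inv_mul_cancel (κ x),
        mul_inv_cancel (κ x), zi, fun _ h => nomatch h⟩)) tr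
    ((S0.append (S := [[5, 5, 5, 5, 5], [2, 5, 1, 5, 5], [6, 4, 5, 3], [0, 5, 0, 5, 0, 5]]) (by
      simp only [Sat, List.forall_mem_cons, ev_cons, ev_nil, mul_one]
      simp only [pow_succ, pow_zero, one_mul, mul_assoc] at t5 tx ty zt
      exact ⟨t5, tx, ty, zt, fun _ h => nomatch h⟩)).mono (subsetB_sound (by decide +kernel)))
  have s : ∀ a, σ (τ a) = a := fun a => by
    have : (σ.comp τ).eqLocus (MonoidHom.id G) = ⊤ := HN.pres.eq_top fun l hl => by
      change σ (τ _) = _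
      rw [hτ]
      interval_cases l
      exacts [hz, σx, (map_inv ..).trans (σx ▸ (I 1).symm), σy, (map_inv ..).trans (σy ▸ (I 3).symm), ht,
        (map_inv ..).trans (ht ▸ (I 5).symm)]
    exact (this ▸ mem_top a : a ∈ (σ.comp τ).eqLocus (MonoidHom.id G))
  intro c hc
  obtain ⟨a, rfl⟩ : c ∈ τ.range := eq_top_of_stem hσ (H := τ.range) (fun a => ⟨τ (σ a), ⟨_, rfl⟩, s _⟩) ▸ mem_top c
  rw [(s a).symm.trans hc, map_one]

end Cfsg.Agent.H17.HN9
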