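import Cfsg.Agent.H27.HN7
import Cfsg.Agent.H27.DC7

/-! The action with the images of the conjugates of `t`. -/

set_option autoImplicit false
set_option maxRecDepth 100000

namespace Cfsg.Agent.H17.HNA

open H27.DC MulAction HN3 HN4 HN5 HN6

theorem le1 : X.S g 1 ≤ stabilizer H (pt 0) := Sg_le fun a h1 h2 => by
      change 56 ≤ a at h1; change a < 68 at h2
      exact (ok.rep a (by omega) 0 (by decide)).2.trans (congrArg pt (by interval_cases a <;> decide +kernel))

theorem ex : ∃ ψ, X.Act g ι ψ 1539000 ∧ ∀ ω q, ψ (T ω) q = X.τ C g pt ω q :=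
  good.act' hT HN.pres hm HN2.pres.toGens hg (Rl := [([0, 8], []), ([8, 0], []), ([], []), ([], []), ([], []), ([], []), ([], []), ([], []), ([], []), ([], []), ([], []), ([], []), ([], []), ([], []), ([], []), ([], []), ([], []), ([0, 0, 0, 0, 0], []), ([0, 0, 3], []), ([0, 8], []), ([1, 0, 1], [1])])
    (tr := [0, 0, 1412, 1413, 1432, 1491, 2822, 8463, 5650]) (by decide +kernel) (good.inj r0)
    (by simp only [List.forall_mem_cons]; exact ⟨r0, r1, triv, triv, triv, triv, triv, triv, triv, triv, triv, triv, triv, triv, triv, triv, triv, r2, r3, r0, r4, fun _ h => nomatch h⟩)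
    (by decide) le1
    hN ho (by decide +kernel) index_le

/-- the permutation representation -/
noncomputable def ψ : G →* Equiv.Perm (X.Pt g) := ex.choose
/-- the meaning of the letters -/
noncomputable def ml : ℕ → ℕ := nth 0 [2, 4, 6, 8, 10, 1, 17]
/-- words that send `0` to the base points -/
noncomputable def V : List ℕ := [0, 1, 348, 899, 3880]
theorem full : X.Full C g pt ι T ψ 1539000 ml HN.g V :=
  ⟨good, ex.choose_spec.1, ex.choose_spec.2, hT, hm, by decide, by decide, le1, by decide +kernel⟩

end Cfsg.Agent.H17.HNA
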