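import Cfsg.Agent.H27.OutW
import Cfsg.Agent.H27.Wrd
import Cfsg.Agent.H17.Cover

/-! Outer automorphism groups of order two for groups given by coset tables. -/

set_option autoImplicit false
set_option linter.style.haveILetI false

namespace Cfsg.Agent.H27.Tl

open Cfsg Subgroup MulAction
open H16 (ifB ifB_eq allB allB_spec allL allL_iff Rep Inj)
open H17 (ev ev_nil ev_cons ev_append nth SD TD)

universe u v

variable {G : Type u} [Group G] {Ω : Type v} [MulAction G Ω] {M : Mc} {R : G → ℕ → Prop} {P : Ω → ℕ → Prop}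

theorem aut_norm [Finite G] {a b : G} {p m t : ℕ} (hp : p.Prime) (hN : Nat.card G = p * m) (hm : ¬ p ∣ m) (h0 : a ≠ 1)
    (h1 : a ^ p = 1) (h2 : b * a = a ^ t * b) (ca : ∀ u, Commute u a → ∃ i < p, u = a ^ i) {E : List ℕ}
    (e1 : ∀ j < p, j = 0 ∨ ∃ k < p, j * t ^ k % p ∈ E) (e2 : ∀ i < p, ∃ k < p, (k + t * i) % p = t * k % p)
    (φ : MulAut G) : ∃ u : G, ∃ e ∈ E, (MulAut.conj u * φ) a = a ^ e ∧ (MulAut.conj u * φ) b = b := by
  haveI := Fact.mk hp
  have o : orderOf a = p := orderOf_eq_prime h1 h0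
  have h3 : ∀ i, b * a ^ i = a ^ (t * i) * b := fun i => by
    rw [pow_mul]; exact (SemiconjBy.pow_right h2 i).eq
  have h4 : ∀ k i, b ^ k * a ^ i = a ^ (i * t ^ k) * b ^ k := fun k i => by
    induction k with
    | zero => simp
    | succ k ih => rw [pow_succ', mul_assoc, ih, ← mul_assoc, h3, mul_assoc, pow_succ, mul_left_comm, mul_comm (t ^ k)]
  obtain ⟨u, -, k, hk⟩ := H16.exists_conj_mem_of_pow (K := ⊤) (R := zpowers a) le_top hp (k := 1)
    (by rw [Nat.card_zpowers, o, pow_one]) (by rw [card_top, hN, pow_one]) hm (mem_top (φ a)) (j := 1)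
    (by rw [pow_one, ← map_pow, h1, map_one])
  obtain ⟨j, hj, ej⟩ := ca _ (show Commute (u * φ a * u⁻¹) a from hk ▸ Commute.zpow_self a k)
  rcases e1 j hj with rfl | ⟨k, -, he⟩
  · exact absurd (by simpa using ej) h0
  have fa : (MulAut.conj (b ^ k * u) * φ) a = a ^ (j * t ^ k % p) := by
    rw [← o, pow_mod_orderOf, map_mul, mul_assoc, MulAut.mul_apply, MulAut.mul_apply, MulAut.conj_apply, MulAut.conj_apply,
      ej, h4, mul_inv_cancel_right]
  generalize b ^ k * u = v at fa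
  generalize j * t ^ k % p = e at fa he
  obtain ⟨l, hl⟩ := exists_pow_eq_self_of_coprime (x := a) (n := e) (by
    rw [o, Nat.coprime_comm, hp.coprime_iff_not_dvd, ← o, orderOf_dvd_iff_pow_eq_one, ← fa]; simpa using h0)
  have h5 := congrArg (MulAut.conj v * φ) h2
  rw [map_mul, map_mul, map_pow, fa, ← pow_mul, mul_comm e] at h5
  obtain ⟨i, hi, ei⟩ := ca (b⁻¹ * (MulAut.conj v * φ) b) (hl ▸ Commute.pow_right (by
    rw [Commute, SemiconjBy, mul_assoc, h5, inv_mul_eq_iff_eq_mul, ← mul_assoc, h3, mul_assoc, mul_inv_cancel_left]) l)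
  obtain ⟨k, -, hk⟩ := e2 i hi
  refine ⟨a ^ k * v, e, he, ?_, ?_⟩ <;> rw [map_mul, mul_assoc, MulAut.mul_apply, MulAut.conj_apply]
  · rw [fa]; group
  · rw [eq_mul_of_inv_mul_eq ei, h3, ← mul_assoc, ← pow_add, mul_inv_eq_iff_eq_mul,
      h3, ← pow_mod_orderOf, o, hk, ← o, pow_mod_orderOf]

theorem out_two {α : MulAut G} (hα : α ∉ Inn G) (h : ∀ φ : MulAut G, ∃ u : G, MulAut.conj u * φ = 1 ∨ α⁻¹ * (MulAut.conj u * φ) = 1) :
    Nat.card (Out G) = 2 := by
  refine index_eq_two_iff_exists_notMem_and.2 ⟨α⁻¹, by rwa [inv_mem_iff], fun φ => ?_⟩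
  obtain ⟨u, e | e⟩ := h φ
  · exact .inr ((mul_mem_cancel_left (MonoidHom.mem_range.2 ⟨u, rfl⟩)).1 (e ▸ one_mem _))
  · exact .inl ((mul_mem_cancel_left (MonoidHom.mem_range.2 ⟨u, rfl⟩)).1 (by
      rw [← mul_assoc, ← inv_mul_eq_one.1 e, mul_inv_cancel]; exact one_mem _))

/-- the words give the centraliser -/
def CentOK (g : ℕ → G) (y : ℕ) (Ws : List (List ℕ)) : Prop := ∀ u, Commute u (g y) → ∃ w ∈ Ws, u = ev g w

/-- two words differ at `z` -/
noncomputable def Mc.neB (M : Mc) (L u v : List ℕ) (z : ℕ) : Bool :=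
  M.ptB z && !Nat.beq (M.appL (M.cw L u) z) (M.appL (M.cw L v) z)

/-- the candidates for the image of the letter `x` -/
noncomputable def Mc.stepB (M : Mc) (L Kn : List ℕ) (x y s z : ℕ) (Ws Kp Rs : List (List ℕ)) : Bool :=
  Kn.elem y && M.weqB (M.cw L [x, y]) (M.cw L (List.replicate s y ++ [x])) &&
    (Rs.all fun r => (r.all fun l => (x :: Kn).elem l) && M.weqB (M.cw L r) (M.cw L [])) &&
    Ws.all fun w => Kp.elem w || Rs.any fun r => M.neB L (r.flatMap fun l => if l = x then x :: w else [l]) [] z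

section act
variable (A : IsAct M R P) (ok : ∀ y, M.ok y = true) {g : ℕ → G} {L : List ℕ} (hg : ∀ i, R (g i) (nth M.one L i))
include A ok

theorem IsAct.uniq {a b x} (p : R a x) (q : R b x) : a = b :=
  A.faith _ _ fun _ _ _ r => A.fn (A.app p r) (A.app q r) (ok _)

include hg

theorem IsAct.neB {u v : List ℕ} {z : ℕ} (h : M.neB L u v z = true) : ev g u ≠ ev g v := fun e => by
  simp only [Mc.neB, Bool.and_eq_true, Bool.not_eq_true', ← Bool.not_eq_true, Nat.beq_eq] at h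
  obtain ⟨ω, o⟩ := A.pt h.1
  exact h.2 (A.inj (A.appL hg o u) (e ▸ A.appL hg o v) (ok _) (ok _))

theorem IsAct.step {φ : MulAut G} {Kn : List ℕ} (hφ : ∀ l ∈ Kn, φ (g l) = g l) {x y s z : ℕ} {Ws Kp Rs : List (List ℕ)}
    (C : CentOK g y Ws) (h : M.stepB L Kn x y s z Ws Kp Rs = true) : ∃ w ∈ Kp, φ (g x) = ev g (x :: w) := by
  simp only [Mc.stepB, Bool.and_eq_true, List.all_eq_true, Bool.or_eq_true, List.any_eq_true, List.elem_eq_mem,
    decide_eq_true_eq] at h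
  obtain ⟨⟨⟨a, b⟩, c⟩, d⟩ := h
  have e : g x * g y = g y ^ s * g x := by simpa [Tl.ev_rep] using A.weqB hg b
  have e' := congrArg φ e
  rw [map_mul, map_mul, map_pow, hφ y a] at e'
  obtain ⟨w, hw, f⟩ := C ((g x)⁻¹ * φ (g x)) (by
    rw [Commute, SemiconjBy, mul_assoc, e', inv_mul_eq_iff_eq_mul, ← mul_assoc, e, mul_assoc, mul_inv_cancel_left])
  have f := (eq_mul_of_inv_mul_eq f).trans (ev_cons g x w).symm
  refine ⟨w, (d w hw).resolve_right fun ⟨r, hr, t⟩ => A.neB ok hg t ?_, f⟩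
  rw [ev_subst, H17.ev_congr (h := fun l => φ (g l)) fun l hl => ?_,
    ← H17.map_ev' φ.toMonoidHom (g := g) (h := fun l => φ (g l)) fun _ => rfl, A.weqB hg (c r hr).2, ev_nil, map_one]
  split_ifs with t
  · rw [t, f]
  · simpa using (hφ l ((List.mem_cons.1 ((c r hr).1 l hl)).resolve_left t)).symm

theorem IsAct.eq_one {φ : MulAut G} {Kn : List ℕ} (hφ : ∀ l ∈ Kn, φ (g l) = g l) {k nc : ℕ} {g0 : ℕ → G}
    (h0 : H17.Gens k nc g0) (e : ∀ i < nc, g i = g0 i) {prog : List (List ℕ)} {idx : List ℕ}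
    (h : M.slpB prog (M.cw L Kn) idx (M.cw L (List.range nc)) = true) : φ = 1 := by
  have c : ∀ u : List ℕ, M.cw L u = u.map (nth M.one L) := fun u => by
    induction u with
    | nil => rfl
    | cons a u ih => exact congrArg (_ :: ·) ih
  have := A.slpB (K := φ.toMonoidHom.eqLocus (.id _)) (fun x hx => by
    obtain ⟨i, hi, rfl⟩ := List.mem_map.1 (c _ ▸ hx)
    exact ⟨g i, hφ i hi, hg i⟩) h
  refine MulEquiv.ext fun x => ?_
  obtain ⟨v, rfl⟩ := h0.surj x
  refine H17.ev_mem (H := φ.toMonoidHom.eqLocus (.id _)) fun i _ => ?_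
  by_cases hi : i < nc
  · obtain ⟨a, p, q⟩ := this _ (c _ ▸ List.mem_map_of_mem (List.mem_range.2 hi))
    exact e i hi ▸ A.uniq ok q (hg i) ▸ p
  · rw [h0.triv i (not_lt.1 hi)]; exact one_mem _

theorem IsAct.not_inn {α : MulAut G} {y z : ℕ} {Ws : List (List ℕ)} (C : CentOK g y Ws) (hy : α (g y) = g y)
    {T : List (ℕ × List ℕ)} (hT : ∀ t ∈ T, α (g t.1) = ev g t.2)
    (h : (Ws.all fun w => T.any fun t => M.neB L (w ++ [t.1]) (t.2 ++ w) z) = true) : α ∉ Inn G := by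
  rintro ⟨u, rfl⟩
  obtain ⟨w, hw, rfl⟩ := C u (mul_inv_eq_iff_eq_mul.1 hy)
  obtain ⟨t, ht, e⟩ := List.any_eq_true.1 (List.all_eq_true.1 h w hw)
  exact A.neB ok hg e (by simpa using mul_inv_eq_iff_eq_mul.1 (hT t ht))

theorem IsAct.norm [Finite G] {x y p m t z : ℕ} (hp : p.Prime) (hN : Nat.card G = p * m) (hm : ¬ p ∣ m)
    (C : CentOK g x ((List.range p).map (List.replicate · x))) {E : List ℕ}
    (h : (M.neB L [x] [] z && M.weqB (M.cw L (List.replicate p x)) (M.cw L []) &&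
      M.weqB (M.cw L [y, x]) (M.cw L (List.replicate t x ++ [y]))) = true)
    (e1 : ∀ j < p, j = 0 ∨ ∃ k < p, j * t ^ k % p ∈ E) (e2 : ∀ i < p, ∃ k < p, (k + t * i) % p = t * k % p)
    (φ : MulAut G) : ∃ u : G, ∃ e ∈ E, (MulAut.conj u * φ) (g x) = g x ^ e ∧ (MulAut.conj u * φ) (g y) = g y := by
  simp only [Bool.and_eq_true] at h
  refine aut_norm (t := t) hp hN hm (by simpa using A.neB ok hg h.1.1) (by simpa [Tl.ev_rep] using A.weqB hg h.1.2)
    (by simpa [Tl.ev_rep] using A.weqB hg h.2) (fun u hu => ?_) e1 e2 φ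
  obtain ⟨_, hw, rfl⟩ := C u hu
  obtain ⟨i, hi, rfl⟩ := List.mem_map.1 hw
  exact ⟨i, List.mem_range.1 hi, Tl.ev_rep ..⟩

end act

theorem IsAct.exists_aut {G : Type} [Group G] [Finite G] [IsSimpleGroup G] [MulAction G Ω] {R : G → ℕ → Prop}
    (A : IsAct M R P) (ok : ∀ y, M.ok y = true) {g : ℕ → G} {L : List ℕ} (hg : ∀ i, R (g i) (nth M.one L i))
    {k nc z : ℕ} {R0 σ : List (List ℕ)} {g0 : ℕ → G} (h0 : H17.Presents k nc R0 g0) (e : ∀ i < nc, g i = g0 i)
    (h : (Nat.beq σ.length nc && Nat.beq ((nc - k) % 2) 0 && Nat.ble k nc && M.neB L (nth [] σ 0) [] z &&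
      (H17.invWords k nc ++ R0).all fun r => M.weqB (M.cw L (r.flatMap (nth [] σ))) (M.cw L [])) = true) :
    ∃ α : MulAut G, ∀ x w v, (w.all (· < nc) && M.weqB (M.cw L [x]) (M.cw L w) &&
      M.weqB (M.cw L (w.flatMap (nth [] σ))) (M.cw L v)) = true → α (g x) = ev g v := by
  simp only [Bool.and_eq_true, Nat.beq_eq, Nat.ble_eq, List.all_eq_true, List.mem_append] at h
  obtain ⟨⟨⟨⟨a, b⟩, c⟩, d⟩, f⟩ := h
  have t : ∀ x, nc ≤ x → ev g (nth [] σ x) = 1 := fun x hx => by rw [H17.nth_of_ge _ (a ▸ hx), ev_nil]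
  obtain ⟨φ, hφ⟩ := h0.lift G (fun x => ev g (nth [] σ x)) (H17.inv_of_sat b c t fun r hr =>
    (ev_subst ..).symm.trans (A.weqB hg (f r (.inl hr)))) t fun r hr => (ev_subst ..).symm.trans (A.weqB hg (f r (.inr hr)))
  have i : Function.Injective φ := (MonoidHom.ker_eq_bot_iff φ).1 ((φ.normal_ker.eq_bot_or_eq_top).resolve_right fun q =>
    A.neB ok hg d ((hφ 0).symm.trans (q.ge (mem_top _))))
  refine ⟨MulEquiv.ofBijective φ (Finite.injective_iff_bijective.1 i), fun x w v h => ?_⟩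
  simp only [Bool.and_eq_true, List.all_eq_true, decide_eq_true_eq] at h
  rw [← A.weqB hg h.2, ev_subst, ← H17.map_ev' φ hφ, ← H17.ev_congr fun l hl => e l (h.1.1 l hl), ← A.weqB hg h.1.2]
  simp

section tab
variable {pt : ℕ → Ω} {n w : ℕ}

theorem isAct_top {base : List ℕ} (hw : n ≤ 2 ^ w) (hinj : Inj pt n) (hb : ∀ b ∈ base, b < n)
    (hf : ∀ g : G, (∀ b ∈ base, g • pt b = pt b) → g = 1) :
    IsAct (Mc.perm w n base) (fun (g : G) x => Rep pt n g (H16.get w x)) (fun ω y => y < n ∧ pt y = ω) where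
  app := fun {_ _ _ y} h h' => ⟨(h y h'.1).1, by rw [← h'.2]; exact (h y h'.1).2.symm⟩
  mul h h' := Rep.pmul hw h h'
  one := Rep.pid hw
  fn h h' _ := h.2.symm.trans h'.2
  inj h h' _ _ := hinj _ h.1 _ h'.1 (h.2.trans h'.2.symm)
  pt := fun {y} h => ⟨pt y, by simpa [Mc.perm] using h, rfl⟩
  faith a b e := (inv_mul_eq_one.1 (hf _ fun β hβ => by rw [mul_smul, e β hβ _ ⟨hb β hβ, rfl⟩, inv_smul_smul])).symm

/-- moves the first point to `0` and colours the second -/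
noncomputable def rho (w : ℕ) (T : List ℕ) (lt col : ℕ → ℕ) (d : ℕ) : ℕ → ℕ → ℕ :=
  Nat.rec (motive := fun _ => ℕ → ℕ → ℕ) (fun _ z => col z) (fun _ ih y z => ifB (Nat.beq y 0) (col z)
    (frc (nth 0 T (lt y)) fun c => frc (H16.get w c y) fun y' => frc (H16.get w c z) (ih y'))) d

theorem rho_spec {T : List ℕ} {lt : ℕ → ℕ} (hT : ∀ y < n, ∃ a : G, Rep pt n a (H16.get w (nth 0 T (lt y)))) :
    ∀ (d : ℕ) {y : ℕ}, y < n → ∃ a : G, ∀ z < n, ∃ z' < n, a • pt z = pt z' ∧ ∀ col, rho w T lt col d y z = col z'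
  | 0, _, _ => ⟨1, fun z hz => ⟨z, hz, one_smul .., fun _ => rfl⟩⟩
  | d + 1, y, hy => by
    have e : ∀ col z, rho w T lt col (d + 1) y z = ifB (Nat.beq y 0) (col z) (frc (nth 0 T (lt y)) fun c =>
      frc (H16.get w c y) fun y' => frc (H16.get w c z) (rho w T lt col d y')) := fun _ _ => rfl
    simp only [e, ifB_eq, frc_eq]
    split_ifs
    · exact ⟨1, fun z hz => ⟨z, hz, one_smul .., fun _ => rfl⟩⟩
    obtain ⟨a, p⟩ := hT y hy
    obtain ⟨b, q⟩ := rho_spec hT d (p y hy).1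
    exact ⟨b * a, fun z hz => by rw [mul_smul, (p z hz).2]; exact q _ (p z hz).1⟩

theorem inv_rho {base : List ℕ} (hinj : Inj pt n) (hn : ∀ (a : G) y, y < n → ∃ y' < n, a • pt y = pt y') {T : List ℕ}
    (hT : InR (fun (g : G) x => Rep pt n g (H16.get w x)) ⊤ T) {lt col : ℕ → ℕ} {d : ℕ}
    (h : (allB n fun y => Nat.blt (lt y) T.length && Nat.beq (rho w T lt (fun z => z) d y y) 0) = true)
    {S : Set G} (hS : ∀ a : G, a • pt 0 = pt 0 → a ∈ closure S)
    (hc : ∀ a ∈ S, ∀ y < n, ∀ y' < n, a • pt y = pt y' → col y = col y') :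
    Inv G (Mc.perm w n base) (fun ω y => y < n ∧ pt y = ω) n (rho w T lt col d) where
  ok _ := rfl
  all := fun g {_ _} h => (hn g _ h.1).imp fun _ a => ⟨a.1, a.1, h.2 ▸ a.2.symm⟩
  eq := by
    rintro g _ _ y z y' z' ⟨a, rfl⟩ ⟨b, rfl⟩ ⟨c, p⟩ ⟨e, q⟩
    have H : ∀ y < n, lt y < T.length ∧ rho w T lt (fun z => z) d y y = 0 := fun y hy => by
      simpa using allB_spec h y hy
    have f : ∀ {y}, y < n → ∃ a : G, a • pt y = pt 0 ∧
        ∀ z < n, ∃ z' < n, a • pt z = pt z' ∧ rho w T lt col d y z = col z' := fun {y} hy => by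
      obtain ⟨a, r⟩ := rho_spec (G := G) (pt := pt) (fun y hy => (hT _ (by
        rw [H17.nth_eq_getD, List.getD_eq_getElem _ _ (H y hy).1]; exact List.getElem_mem _)).imp fun _ a => a.2) d hy
      obtain ⟨y', -, s, t⟩ := r y hy
      exact ⟨a, by rw [s, ← t fun z => z, (H y hy).2], fun z hz => (r z hz).imp fun _ x => ⟨x.1, x.2.1, x.2.2 col⟩⟩
    obtain ⟨u, u1, u2⟩ := f a
    obtain ⟨v, v1, v2⟩ := f c
    obtain ⟨x, x1, x2, x3⟩ := u2 z b
    obtain ⟨x', x1', x2', x3'⟩ := v2 z' e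
    let K : Subgroup G := ⟨⟨⟨{a | ∀ y < n, ∀ y' < n, a • pt y = pt y' → col y = col y'}, fun {a b} p q y hy y' hy' e =>
      let ⟨j, r, s⟩ := hn b y hy; (q y hy j r s).trans (p j r y' hy' (by rw [← s, ← mul_smul, e]))⟩,
      fun y hy y' hy' e => by rw [hinj y hy y' hy' ((one_smul ..).symm.trans e)]⟩,
      fun {a} p y hy y' hy' e => (p y' hy' y hy (by rw [← e, smul_inv_smul])).symm⟩
    rw [x3, x3']
    exact (closure_le K).2 hc (hS (v * g * u⁻¹) (by rw [← u1, mul_smul, inv_smul_smul, mul_smul, ← p, v1, u1])) x x1 x' x1'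
      (by rw [← x2, mul_smul, inv_smul_smul, mul_smul, ← q, x2'])

variable {g : ℕ → G} {D : TD} {φ : G →* Equiv.Perm ℕ}

theorem isAct_tab {m : ℕ} {base : List ℕ} (hF : H17.Faith φ m base) (hw : n ≤ 2 ^ w) (hb : ∀ b ∈ base, b < n) :
    IsAct (Ω := Pt φ) (Mc.perm w n base) (fun (g : G) x => Rep (Ω := Pt φ) id n g (H16.get w x))
      (fun ω y => y < n ∧ id y = ω) :=
  isAct_top (Ω := Pt φ) (pt := id) hw (fun _ _ _ _ e => e) hb hF.base

theorem rep_tab (h : H17.Rep g D φ) {S : SD} (hS : S.OK D) {x c : ℕ}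
    (e : (allB n fun i => Nat.blt (H16.get w c i) n && S.sendB D.N [x] i (H16.get w c i)) = true) :
    Rep (Ω := Pt φ) id n (g x) (H16.get w c) := fun i hi => by
  have := allB_spec e i hi
  simp only [Bool.and_eq_true, Nat.blt_eq] at this
  exact ⟨this.1, (congrArg (φ · i) (H17.ev_single g x)).symm.trans (h.sendS hS this.2)⟩

/-- the letters of a table followed by further codes -/
theorem exists_tab {m : ℕ} {base : List ℕ} (hF : H17.Faith φ m base) (hw : n ≤ 2 ^ w) (hb : ∀ b ∈ base, b < n)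
    (h : H17.Rep g D φ) {S : SD} (hS : S.OK D) {C L : List ℕ} {prog : List (List ℕ)} {idx : List ℕ}
    (e : (allB C.length fun x => frc (nth 0 C x) fun c =>
      allB n fun i => Nat.blt (H16.get w c i) n && S.sendB D.N [x] i (H16.get w c i)) = true)
    (e' : (Mc.perm w n base).slpB prog C idx L = true) : InR (fun (g : G) x => Rep (Ω := Pt φ) id n g (H16.get w x)) ⊤ L ∧
      ∃ g' : ℕ → G, (∀ i < C.length, g' i = g i) ∧
        ∀ i, Rep (Ω := Pt φ) id n (g' i) (H16.get w (nth (H16.pid w n) (C ++ L) i)) := by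
  have a : ∀ i (hi : i < C.length), Rep (Ω := Pt φ) id n (g i) (H16.get w C[i]) := fun i hi => by
    have := allB_spec e i hi
    rw [frc_eq, H17.nth_eq_getD, List.getD_eq_getElem _ _ hi] at this
    exact rep_tab h hS this
  have b : InR (fun (g : G) x => Rep (Ω := Pt φ) id n g (H16.get w x)) ⊤ C := fun x hx => by
    obtain ⟨i, hi, rfl⟩ := List.getElem_of_mem hx
    exact ⟨_, mem_top _, a i hi⟩
  have A := isAct_tab hF hw hb
  obtain ⟨g', -, c⟩ := A.exists_g (b.append (A.slpB b e'))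
  refine ⟨A.slpB b e', g', fun i hi => A.uniq (fun _ => rfl) (c i) ?_, c⟩
  rw [H17.nth_eq_getD, List.getD_append _ _ _ _ hi, List.getD_eq_getElem _ _ hi]
  exact a i hi

theorem inv_tab {base : List ℕ} (h : H17.Rep g D φ) {W : List (List ℕ)} (hC : H17.CosetRep φ D.n (H17.wgrp g W))
    {S : SD} (hS : S.OK D) {T : List ℕ} (hT : InR (fun (g : G) x => Rep (Ω := Pt φ) id D.n g (H16.get w x)) ⊤ T)
    {lt col : ℕ → ℕ} {d : ℕ}
    (e : (allB D.n fun y => Nat.blt (lt y) T.length && Nat.beq (rho w T lt (fun z => z) d y y) 0) = true)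
    (e' : (W.all fun u => allB D.n fun y => Nat.beq (col (S.appWI u y)) (col y)) = true) :
    Inv (Ω := Pt φ) G (Mc.perm w D.n base) (fun ω y => y < D.n ∧ id y = ω) D.n (rho w T lt col d) :=
  inv_rho (Ω := Pt φ) (pt := id) (fun _ _ _ _ e => e) (fun a _ hy => ⟨_, h.lt a hy, rfl⟩) hT e (S := ev g '' {u | u ∈ W})
    (fun a ha => H17.wgrp_le (fun u hu => Subgroup.subset_closure (Set.mem_image_of_mem _ hu)) ((hC.stab a).2 ha)) (by
      rintro _ ⟨u, hu, rfl⟩ y - y' hy' t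
      have := Nat.eq_of_beq_eq_true (allB_spec (List.all_eq_true.1 e' u hu) y' hy')
      rwa [SD.appWI_eq h.good.toShape hS _ _ (hy'.trans_le h.good.toShape.n_le), ← h.map_ev,
        Equiv.Perm.inv_eq_iff_eq.2 (show φ (ev g u) y = y' from t).symm] at this)

end tab

end Cfsg.Agent.H27.Tl
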