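import Cfsg.Agent.H27.HN9
import Cfsg.Agent.H27.HNA
import Cfsg.Agent.H27.OutT
import Cfsg.Agent.H16.BT2
import Cfsg.Agent.S2072

/-! The outer automorphism group has order two. -/

set_option autoImplicit false
set_option maxRecDepth 100000

namespace Cfsg.Agent.H17.HNB

open H27 H27.DC Subgroup MulAction HN3 HN4 HN5 HN7 HN8 HN9 HNA
open HN6 (act)

/-! ### centralisers in the point stabiliser -/

theorem fix4 {ω : PF φ} (h1 : ev g0 [3] • ω = ω) (h2 : ev g0 [2, 3, 1] • ω = ω) : ∃ y ∈ [0, 2, 3, 8], ω = pt y := by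
  obtain ⟨y, hy, rfl⟩ := PF.surj φ ω
  rw [← ok.word hg (r := [135]) (by decide +kernel), (ok.apR _ y hy).2] at h1
  rw [← ok.word hg (r := [136]) (by decide +kernel), (ok.apR _ y hy).2] at h2
  have := H16.allB_spec (n := 1408) (f := fun y => !(Nat.beq (C.apR [135] y) y && Nat.beq (C.apR [136] y) y) ||
    [0, 2, 3, 8].elem y) (by decide +kernel) y hy
  rw [ok.inj _ (ok.apR _ y hy).1 _ hy h1, ok.inj _ (ok.apR _ y hy).1 _ hy h2] at this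
  exact ⟨y, by simpa using this, rfl⟩

theorem y0 : ev g0 [3] • pt 0 = pt 0 :=
  ok.word hg (r := [135]) (u := [3]) (by decide +kernel) ▸ ok.send (by decide) (by decide +kernel)
theorem y1 : ev g0 [2, 3, 1] • pt 0 = pt 0 :=
  ok.word hg (r := [136]) (u := [2, 3, 1]) (by decide +kernel) ▸ ok.send (by decide) (by decide +kernel)

theorem cen4 {c : H} (h1 : Commute (ev g0 [3]) c) (h2 : Commute (ev g0 [2, 3, 1]) c) : ∃ y ∈ [0, 2, 3, 8], c • pt 0 = pt y :=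
  fix4 (by rw [← mul_smul, h1.eq, mul_smul, y0]) (by rw [← mul_smul, h2.eq, mul_smul, y1])

theorem cen1 {c : H} (h1 : Commute (ev g0 [3]) c) (h2 : Commute (ev g0 [2, 3, 1]) c) (h0 : c • pt 0 = pt 0) : c = 1 := by
  have cm : ∀ a : H, a • pt 0 = pt 0 → a * c = c * a := fun a ha => mem_centralizer_singleton_iff.1
    (stab0 (mem_centralizer_singleton_iff.2 h1) (mem_centralizer_singleton_iff.2 h2) (by simpa using ha))
  obtain ⟨k, hk, d, e, -, d1⟩ := ok.reps (lo := 135) (hi := 137) (b := 1) (S := nat_lit 0x420000000000000000000000000000000000000014000000000000000048000000000000000000000000000000000000000060c0000000000000000400000000000000020080000000000800000000100000020000800030000000002400016000000004000000002000000000118080000000010000400000000080000000000848004c00000000000000020240002000442200c2) (K := HN6.K)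
    (by decide +kernel) (u := c⁻¹) (stab0
      (by rw [← ok.word hg (r := [135]) (by decide +kernel), evR_one g (by decide) (by decide)]; exact mem_Sg (by decide) (by decide))
      (by rw [← ok.word hg (r := [136]) (by decide +kernel), evR_one g (by decide) (by decide)]; exact mem_Sg (by decide) (by decide))
      (by simpa using h0)) (inv_smul_eq_iff.2 h0.symm)
  obtain ⟨y, hy, ey⟩ := PF.surj φ (c • pt 1)
  replace ey : pt y = c • pt 1 := ey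
  have f : ∀ a, Nat.beq (C.apR [a] 0) 0 = true → Nat.beq (C.apR [a] 1) 1 = true → C.apR [a] y = y := fun a a0 a1 =>
    ok.inj _ (ok.apR _ y hy).1 _ hy (by
      rw [← (ok.apR _ y hy).2, ey, ← mul_smul, cm _ (ok.send (by decide) a0), mul_smul, ok.send (by decide) a1])
  have f1 : C.apR [k] y = 1 := ok.inj _ (ok.apR _ y hy).1 _ (by decide) (by
    rw [← (ok.apR _ y hy).2, ey, evR, evR, one_mul, ← inv_mul_eq_iff_eq_mul.2 e, mul_smul, inv_smul_smul, inv_smul_eq_iff, d1])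
  have := H16.allB_spec (n := 1408) (f := fun y => !(Nat.beq (C.apR [142] y) y && Nat.beq (C.apR [143] y) y &&
    HN6.K.any fun k => Nat.beq (C.apR [k] y) 1) || Nat.beq y 1) (by decide +kernel) y hy
  rw [f 142 (by decide +kernel) (by decide +kernel), f 143 (by decide +kernel) (by decide +kernel),
    List.any_eq_true.2 ⟨k, hk, by rw [f1]; rfl⟩] at this
  obtain rfl : y = 1 := by simpa using this
  have b : ∀ k b, b < 1408 → Nat.beq (C.apR [k] 0) 0 = true → Nat.beq (C.apR [k] b) 1 = true → c • pt b = pt b :=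
    fun k b hb a0 a1 => smul_left_cancel (evR g [k]) (by
      rw [← mul_smul, cm _ (ok.send (by decide) a0), mul_smul, ok.send hb a1]; exact ey.symm)
  refine ok.faith c ?_
  change ∀ b ∈ [0, 1, 6, 7, 17], _
  simp only [List.forall_mem_cons]
  exact ⟨h0, ey.symm, b 4852026 6 (by decide) (by decide +kernel) (by decide +kernel),
    b 4 7 (by decide) (by decide +kernel) (by decide +kernel),
    b 9 17 (by decide) (by decide +kernel) (by decide +kernel), fun _ h => nomatch h⟩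

theorem y0K : ev g0 [3] ∈ K := (mem_K (by decide)).2 (by decide +kernel)
theorem y1K : ev g0 [2, 3, 1] ∈ K := (mem_K (by decide)).2 (by decide +kernel)

theorem cenK {c : H} (h : ∀ k ∈ K, c * k = k * c) : c = 1 ∨ c = g0 1 * g0 1 := by
  obtain ⟨y, hy, e⟩ := cen4 (h _ y0K).symm (h _ y1K).symm
  have : ∀ u : List ℕ, (band (band (Nat.blt 5 256) (H16.allL u fun a => Nat.blt a 5)) (C.eqB (upR u []) (upR u [])) &&
      Nat.beq (C.apR (upR u []) y) 0 && decide (∀ a ∈ u, a < 5) && Nat.beq (apW 1 [1, 2, 2, 2, 2] u 0) 0) = true → c ∈ K :=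
    fun u hu => by
      simp only [Bool.and_eq_true, decide_eq_true_eq] at hu
      have a := ok.send ((by decide : ∀ y ∈ [0, 2, 3, 8], y < 1408) y hy) hu.1.1.2
      rw [ok.word hg hu.1.1.1, ← e, ← mul_smul] at a
      exact (mul_mem_cancel_left ((mem_K hu.1.2).2 (Nat.eq_of_beq_eq_true hu.2))).1 (stab0 y0K y1K (by simpa using a))
  have m : c ∈ K := by
    simp only [List.mem_cons, List.not_mem_nil, or_false] at hy
    rcases hy with rfl | rfl | rfl | rfl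
    exacts [this [] (by decide +kernel), this [2] (by decide +kernel), this [1] (by decide +kernel),
      this [1, 1] (by decide +kernel)]
  exact (mem_ker (a := ⟨c, m⟩) (center_eq ▸ mem_center_iff.2 fun k => Subtype.ext (h k k.2).symm)).imp
    (congrArg Subtype.val) (congrArg Subtype.val)

theorem cen11 {c : H} (h : Commute c (ev g0 n11)) (h2 : c ^ 2 = 1) : c = 1 ∨ c = g0 1 * g0 1 := by
  obtain ⟨ρ, hρ⟩ := exρ
  have r : ∀ u : List ℕ, (∀ a ∈ u, a < 5) → H16.Rep (Fin.ofNat 100) 100 (ρ (ev g0 u)) (apW 7 S u) := rep_apW hρ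
  have i : H16.Inj (Fin.ofNat 100) 100 := PF.inj ρ
  have s := H16.InK.slp (pt := Fin.ofNat 100) (n := 100) (w := 7) (K := ρ.range) (by norm_num) [[2, 0, 3], [2, 3, 3, 0], [4, 0, 1, 4, 0, 1, 4, 0, 1], [0, 4, 4, 0, 3, 2, 3, 3, 0, 4, 0, 1], [2, 0, 3, 2, 0, 3, 2, 0, 3, 2, 0, 3, 0, 4, 4, 1, 4, 0, 3, 3, 0, 4, 0, 1, 4, 0, 1, 4, 0, 1, 0, 4, 4, 0, 3, 2, 3, 3, 0, 4, 0, 1, 4, 0, 1, 4, 0, 1, 4, 0, 1], [2, 0, 3, 0, 4, 4, 1, 4, 0, 3, 3, 0, 2, 0, 3, 2, 0, 3, 2, 0, 3, 2, 0, 3, 0, 4, 4, 1, 4, 0, 3, 3, 0, 2, 0, 3, 0, 4, 4, 1, 4, 0, 3, 3, 0, 4, 0, 1, 4, 0, 1, 4, 0, 1], [0, 4, 4, 0, 3, 2, 3, 3, 0, 2, 0, 3, 2, 0, 3, 0, 4, 4, 0, 3, 2, 3, 3, 0, 4, 0, 1, 4, 0, 1, 4, 0, 1, 0, 4, 4, 1, 4, 0, 3, 3, 0, 4, 0, 1, 4, 0, 1, 0, 4, 4, 1, 4, 0, 3, 3, 0], [2, 0, 3, 0, 4, 4, 1, 4, 0, 3, 3, 0, 2, 0, 3, 2, 0, 3, 2, 0, 3, 2, 0, 3, 0, 4, 4, 1, 4, 0, 3, 3, 0, 2, 0, 3, 0, 4, 4, 1, 4, 0, 3, 3,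 0, 2, 0, 3, 0, 4, 4, 1, 4, 0, 3, 3, 0, 4, 0, 1, 4, 0, 1, 4, 0, 1, 0, 4, 4, 0, 3, 2, 3, 3, 0, 4, 0, 1, 0, 4, 4, 0, 3, 2, 3, 3, 0, 4, 0, 1, 0, 4, 4, 0, 3, 2, 3, 3, 0, 4, 0, 1, 4, 0, 1, 4, 0, 1, 4, 0, 1, 0, 4, 4, 0, 3, 2, 3, 3, 0, 4, 0, 1], [2, 0, 3, 2, 0, 3, 2, 0, 3, 0, 4, 4, 0, 3, 2, 3, 3, 0, 4, 0, 1, 0, 4, 4, 0, 3, 2, 3, 3, 0, 4, 0, 1, 4, 0, 1, 4, 0, 1, 4, 0, 1, 0, 4, 4, 0, 3, 2, 3, 3, 0, 4, 0, 1, 0, 4, 4, 0, 3, 2, 3, 3, 0, 2, 0, 3, 2, 0, 3, 0, 4, 4, 0, 3, 2, 3, 3, 0, 4, 0, 1, 4, 0, 1, 4, 0, 1, 0, 4, 4, 1, 4, 0, 3, 3, 0, 4, 0, 1, 4, 0, 1, 0, 4, 4, 1, 4, 0, 3, 3, 0, 2, 0, 3, 0, 4, 4, 1, 4, 0, 3, 3, 0, 2, 0, 3, 2, 0, 3, 2, 0, 3, 2, 0, 3, 0, 4, 4, 1, 4, 0, 3, 3, 0, 2, 0, 3, 0, 4, 4, 1, 4, 0, 3, 3, 0, 4, 0, 1, 4, 0, 1, 4, 0, 1], [2, 0, 3, 2, 0, 3, 2, 0, 3, 2, 0, 3, 0, 4, 4, 1, 4, 0, 3, 3, 0, 2, 0, 3, 2, 0, 3, 2, 0, 3, 0, 4, 4, 0, 3, 2, 3, 3, 0, 4, 0, 1, 4,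 0, 1, 4, 0, 1, 4, 0, 1, 0, 4, 4, 0, 3, 2, 3, 3, 0, 2, 0, 3, 2, 0, 3, 0, 4, 4, 0, 3, 2, 3, 3, 0, 4, 0, 1, 4, 0, 1, 4, 0, 1, 0, 4, 4, 1, 4, 0, 3, 3, 0, 4, 0, 1, 4, 0, 1, 0, 4, 4, 1, 4, 0, 3, 3, 0], [2, 0, 3, 2, 0, 3, 2, 0, 3, 2, 0, 3, 0, 4, 4, 1, 4, 0, 3, 3, 0, 2, 0, 3, 2, 0, 3, 2, 0, 3, 0, 4, 4, 0, 3, 2, 3, 3, 0, 4, 0, 1, 4, 0, 1, 4, 0, 1, 0, 4, 4, 1, 4, 0, 3, 3, 0, 2, 0, 3, 2, 0, 3, 2, 0, 3, 2, 0, 3, 0, 4, 4, 1, 4, 0, 3, 3, 0, 2, 0, 3, 0, 4, 4, 1, 4, 0, 3, 3, 0, 2, 0, 3, 0, 4, 4, 1, 4, 0, 3, 3, 0, 4, 0, 1, 4, 0, 1, 4, 0, 1, 0, 4, 4, 0, 3, 2, 3, 3, 0, 4, 0, 1, 0, 4, 4, 0, 3, 2, 3, 3, 0, 4, 0, 1, 0, 4, 4, 0, 3, 2, 3, 3, 0, 4, 0, 1, 4, 0, 1, 4, 0, 1, 4, 0, 1, 0, 4, 4, 0, 3, 2, 3, 3, 0, 2, 0, 3, 2, 0, 3, 0, 4, 4, 0, 3, 2, 3, 3, 0, 4, 0, 1, 0, 4, 4, 0, 3, 2, 3, 3, 0, 4, 0, 1, 4, 0, 1, 4, 0, 1, 4, 0, 1, 0, 4, 4, 0, 3, 2, 3, 3, 0, 4, 0, 1, 0, 4, 4, 0, 3, 2,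 3, 3, 0, 2, 0, 3, 2, 0, 3, 0, 4, 4, 0, 3, 2, 3, 3, 0, 4, 0, 1, 4, 0, 1, 4, 0, 1, 0, 4, 4, 1, 4, 0, 3, 3, 0, 4, 0, 1, 4, 0, 1, 0, 4, 4, 1, 4, 0, 3, 3, 0, 2, 0, 3, 0, 4, 4, 1, 4, 0, 3, 3, 0, 2, 0, 3, 2, 0, 3, 2, 0, 3, 2, 0, 3, 0, 4, 4, 1, 4, 0, 3, 3, 0, 2, 0, 3, 0, 4, 4, 1, 4, 0, 3, 3, 0, 4, 0, 1, 4, 0, 1, 4, 0, 1], [0, 4, 4, 0, 3, 2, 3, 3, 0, 2, 0, 3, 2, 0, 3, 0, 4, 4, 0, 3, 2, 3, 3, 0, 2, 0, 3, 2, 0, 3, 2, 0, 3, 0, 4, 4, 1, 4, 0, 3, 3, 0, 4, 0, 1, 4, 0, 1, 0, 4, 4, 1, 4, 0, 3, 3, 0, 2, 0, 3, 0, 4, 4, 1, 4, 0, 3, 3, 0, 2, 0, 3, 2, 0, 3, 2, 0, 3, 2, 0, 3, 0, 4, 4, 1, 4, 0, 3, 3, 0, 2, 0, 3, 0, 4, 4, 1, 4, 0, 3, 3, 0, 2, 0, 3, 0, 4, 4, 1, 4, 0, 3, 3, 0, 4, 0, 1, 4, 0, 1, 4, 0, 1, 0, 4, 4, 0, 3, 2, 3, 3, 0, 4, 0, 1, 0, 4, 4, 0, 3, 2, 3, 3, 0, 4, 0, 1, 0, 4, 4, 0, 3, 2, 3, 3, 0, 4, 0, 1, 4, 0, 1, 4, 0, 1, 4, 0, 1, 0, 4, 4, 0, 3, 2, 3, 3, 0, 2, 0, 3, 2, 0,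 3, 0, 4, 4, 0, 3, 2, 3, 3, 0, 4, 0, 1, 0, 4, 4, 0, 3, 2, 3, 3, 0, 4, 0, 1, 4, 0, 1, 4, 0, 1, 4, 0, 1, 0, 4, 4, 0, 3, 2, 3, 3, 0, 4, 0, 1, 0, 4, 4, 0, 3, 2, 3, 3, 0, 2, 0, 3, 2, 0, 3, 0, 4, 4, 0, 3, 2, 3, 3, 0, 4, 0, 1, 4, 0, 1, 4, 0, 1, 0, 4, 4, 1, 4, 0, 3, 3, 0, 4, 0, 1, 4, 0, 1, 0, 4, 4, 1, 4, 0, 3, 3, 0, 2, 0, 3, 0, 4, 4, 1, 4, 0, 3, 3, 0, 2, 0, 3, 2, 0, 3, 2, 0, 3, 2, 0, 3, 0, 4, 4, 1, 4, 0, 3, 3, 0, 2, 0, 3, 0, 4, 4, 1, 4, 0, 3, 3, 0, 4, 0, 1, 4, 0, 1, 4, 0, 1]] (S := S) fun p hp => by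
    obtain ⟨a, ha, rfl⟩ := List.getElem_of_mem hp
    have := hρ a ha
    rw [nth_eq_getD, List.getD_eq_getElem _ _ ha] at this
    exact ⟨_, ⟨_, rfl⟩, this⟩
  have xx : g0 1 * g0 1 ∈ ρ.ker := Equiv.ext fun j => by
    have := (r [1, 1] (by decide) j j.2).2
    rw [show apW 7 S [1, 1] j = j from Nat.eq_of_beq_eq_true (H16.allB_spec (n := 100)
      (f := fun i => Nat.beq (apW 7 S [1, 1] i) i) (by decide +kernel) j j.2)] at this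
    simpa using this
  have n1 : (⟨_, xx⟩ : ρ.ker) ≠ 1 := fun e => xx_ne (Subtype.ext (congrArg (fun z : ρ.ker => (z : H)) e))
  have k1 : 1 < Nat.card ρ.ker := Finite.one_lt_card_iff_nontrivial.2 ⟨_, _, n1⟩
  have k2 := ρ.ker.index_mul_card
  rw [index_ker, hN] at k2
  have lo := H16.lbChain_le i [1, 44, 71, 64, 6, 59, 0] (by decide) ρ.range s
  rw [show H16.lbChain 7 100 [1, 44, 71, 64, 6, 59, 0] (H16.slp 7 100 [[2, 0, 3], [2, 3, 3, 0], [4, 0, 1, 4, 0, 1, 4, 0, 1], [0, 4, 4, 0, 3, 2, 3, 3, 0, 4, 0, 1], [2, 0, 3, 2, 0, 3, 2, 0, 3, 2, 0, 3, 0, 4, 4, 1, 4, 0, 3, 3, 0, 4, 0, 1, 4, 0, 1, 4, 0, 1, 0, 4, 4, 0, 3, 2, 3, 3, 0, 4, 0, 1, 4, 0, 1, 4, 0, 1, 4, 0, 1], [2, 0, 3, 0, 4, 4, 1, 4, 0, 3, 3, 0, 2, 0, 3, 2, 0, 3, 2, 0, 3, 2, 0, 3, 0, 4, 4, 1, 4, 0, 3, 3, 0, 2, 0, 3, 0, 4, 4, 1, 4, 0, 3, 3, 0, 4, 0, 1, 4, 0, 1, 4, 0, 1], [0, 4, 4, 0, 3, 2, 3, 3, 0, 2, 0,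 3, 2, 0, 3, 0, 4, 4, 0, 3, 2, 3, 3, 0, 4, 0, 1, 4, 0, 1, 4, 0, 1, 0, 4, 4, 1, 4, 0, 3, 3, 0, 4, 0, 1, 4, 0, 1, 0, 4, 4, 1, 4, 0, 3, 3, 0], [2, 0, 3, 0, 4, 4, 1, 4, 0, 3, 3, 0, 2, 0, 3, 2, 0, 3, 2, 0, 3, 2, 0, 3, 0, 4, 4, 1, 4, 0, 3, 3, 0, 2, 0, 3, 0, 4, 4, 1, 4, 0, 3, 3, 0, 2, 0, 3, 0, 4, 4, 1, 4, 0, 3, 3, 0, 4, 0, 1, 4, 0, 1, 4, 0, 1, 0, 4, 4, 0, 3, 2, 3, 3, 0, 4, 0, 1, 0, 4, 4, 0, 3, 2, 3, 3, 0, 4, 0, 1, 0, 4, 4, 0, 3, 2, 3, 3, 0, 4, 0, 1, 4, 0, 1, 4, 0, 1, 4, 0, 1, 0, 4, 4, 0, 3, 2, 3, 3, 0, 4, 0, 1], [2, 0, 3, 2, 0, 3, 2, 0, 3, 0, 4, 4, 0, 3, 2, 3, 3, 0, 4, 0, 1, 0, 4, 4, 0, 3, 2, 3, 3, 0, 4, 0, 1, 4, 0, 1, 4, 0, 1, 4, 0, 1, 0, 4, 4, 0, 3, 2, 3, 3, 0, 4, 0, 1, 0, 4, 4, 0, 3, 2, 3, 3, 0, 2, 0, 3, 2, 0, 3, 0, 4, 4, 0, 3, 2, 3, 3, 0, 4, 0, 1, 4, 0, 1, 4, 0, 1, 0, 4, 4, 1, 4, 0, 3, 3, 0, 4, 0, 1, 4, 0, 1, 0, 4, 4, 1, 4, 0, 3, 3, 0, 2, 0, 3, 0, 4, 4, 1,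 4, 0, 3, 3, 0, 2, 0, 3, 2, 0, 3, 2, 0, 3, 2, 0, 3, 0, 4, 4, 1, 4, 0, 3, 3, 0, 2, 0, 3, 0, 4, 4, 1, 4, 0, 3, 3, 0, 4, 0, 1, 4, 0, 1, 4, 0, 1], [2, 0, 3, 2, 0, 3, 2, 0, 3, 2, 0, 3, 0, 4, 4, 1, 4, 0, 3, 3, 0, 2, 0, 3, 2, 0, 3, 2, 0, 3, 0, 4, 4, 0, 3, 2, 3, 3, 0, 4, 0, 1, 4, 0, 1, 4, 0, 1, 4, 0, 1, 0, 4, 4, 0, 3, 2, 3, 3, 0, 2, 0, 3, 2, 0, 3, 0, 4, 4, 0, 3, 2, 3, 3, 0, 4, 0, 1, 4, 0, 1, 4, 0, 1, 0, 4, 4, 1, 4, 0, 3, 3, 0, 4, 0, 1, 4, 0, 1, 0, 4, 4, 1, 4, 0, 3, 3, 0], [2, 0, 3, 2, 0, 3, 2, 0, 3, 2, 0, 3, 0, 4, 4, 1, 4, 0, 3, 3, 0, 2, 0, 3, 2, 0, 3, 2, 0, 3, 0, 4, 4, 0, 3, 2, 3, 3, 0, 4, 0, 1, 4, 0, 1, 4, 0, 1, 0, 4, 4, 1, 4, 0, 3, 3, 0, 2, 0, 3, 2, 0, 3, 2, 0, 3, 2, 0, 3, 0, 4, 4, 1, 4, 0, 3, 3, 0, 2, 0, 3, 0, 4, 4, 1, 4, 0, 3, 3, 0, 2, 0, 3, 0, 4, 4, 1, 4, 0, 3, 3, 0, 4, 0, 1, 4, 0, 1, 4, 0, 1, 0, 4, 4, 0, 3, 2, 3, 3, 0, 4, 0, 1, 0, 4, 4, 0, 3, 2, 3, 3, 0,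 4, 0, 1, 0, 4, 4, 0, 3, 2, 3, 3, 0, 4, 0, 1, 4, 0, 1, 4, 0, 1, 4, 0, 1, 0, 4, 4, 0, 3, 2, 3, 3, 0, 2, 0, 3, 2, 0, 3, 0, 4, 4, 0, 3, 2, 3, 3, 0, 4, 0, 1, 0, 4, 4, 0, 3, 2, 3, 3, 0, 4, 0, 1, 4, 0, 1, 4, 0, 1, 4, 0, 1, 0, 4, 4, 0, 3, 2, 3, 3, 0, 4, 0, 1, 0, 4, 4, 0, 3, 2, 3, 3, 0, 2, 0, 3, 2, 0, 3, 0, 4, 4, 0, 3, 2, 3, 3, 0, 4, 0, 1, 4, 0, 1, 4, 0, 1, 0, 4, 4, 1, 4, 0, 3, 3, 0, 4, 0, 1, 4, 0, 1, 0, 4, 4, 1, 4, 0, 3, 3, 0, 2, 0, 3, 0, 4, 4, 1, 4, 0, 3, 3, 0, 2, 0, 3, 2, 0, 3, 2, 0, 3, 2, 0, 3, 0, 4, 4, 1, 4, 0, 3, 3, 0, 2, 0, 3, 0, 4, 4, 1, 4, 0, 3, 3, 0, 4, 0, 1, 4, 0, 1, 4, 0, 1], [0, 4, 4, 0, 3, 2, 3, 3, 0, 2, 0, 3, 2, 0, 3, 0, 4, 4, 0, 3, 2, 3, 3, 0, 2, 0, 3, 2, 0, 3, 2, 0, 3, 0, 4, 4, 1, 4, 0, 3, 3, 0, 4, 0, 1, 4, 0, 1, 0, 4, 4, 1, 4, 0, 3, 3, 0, 2, 0, 3, 0, 4, 4, 1, 4, 0, 3, 3, 0, 2, 0, 3, 2, 0, 3, 2, 0, 3, 2, 0, 3, 0, 4, 4, 1, 4, 0, 3, 3, 0, 2, 0,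 3, 0, 4, 4, 1, 4, 0, 3, 3, 0, 2, 0, 3, 0, 4, 4, 1, 4, 0, 3, 3, 0, 4, 0, 1, 4, 0, 1, 4, 0, 1, 0, 4, 4, 0, 3, 2, 3, 3, 0, 4, 0, 1, 0, 4, 4, 0, 3, 2, 3, 3, 0, 4, 0, 1, 0, 4, 4, 0, 3, 2, 3, 3, 0, 4, 0, 1, 4, 0, 1, 4, 0, 1, 4, 0, 1, 0, 4, 4, 0, 3, 2, 3, 3, 0, 2, 0, 3, 2, 0, 3, 0, 4, 4, 0, 3, 2, 3, 3, 0, 4, 0, 1, 0, 4, 4, 0, 3, 2, 3, 3, 0, 4, 0, 1, 4, 0, 1, 4, 0, 1, 4, 0, 1, 0, 4, 4, 0, 3, 2, 3, 3, 0, 4, 0, 1, 0, 4, 4, 0, 3, 2, 3, 3, 0, 2, 0, 3, 2, 0, 3, 0, 4, 4, 0, 3, 2, 3, 3, 0, 4, 0, 1, 4, 0, 1, 4, 0, 1, 0, 4, 4, 1, 4, 0, 3, 3, 0, 4, 0, 1, 4, 0, 1, 0, 4, 4, 1, 4, 0, 3, 3, 0, 2, 0, 3, 0, 4, 4, 1, 4, 0, 3, 3, 0, 2, 0, 3, 2, 0, 3, 2, 0, 3, 2, 0, 3, 0, 4, 4, 1, 4, 0, 3, 3, 0, 2, 0, 3, 0, 4, 4, 1, 4, 0, 3, 3, 0, 4, 0, 1, 4, 0, 1, 4, 0, 1]] S) = 88704000 by decide +kernel] at lo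
  have a := (H16.cent_gen1 (H16.mulOk_pmul (w := 7) (by norm_num)) i (K0 := ⊤)
    (fun e _ he => Equiv.ext fun j => by simpa using he j j.2) (B := [1, 44, 71, 64, 6, 59, 0]) (by decide) le_top s (N := 88704000) (by nlinarith)
    trivial ((r n11 (by decide)).congr (f' := H16.get 7 (nat_lit 0x8261ed66f52960bf2ac5bc7301c87d644baaee536108490aa80697142f1ae865a055b452789c49f0a995aabe72736c12c7bd7060733145b21ac48da443b11f86f11bf143c11c1075b28a2925b541402b866ec84d2d25600)) fun j hj => Nat.eq_of_beq_eq_true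
      (H16.allB_spec (n := 100) (f := fun i => Nat.beq (H16.get 7 (nat_lit 0x8261ed66f52960bf2ac5bc7301c87d644baaee536108490aa80697142f1ae865a055b452789c49f0a995aabe72736c12c7bd7060733145b21ac48da443b11f86f11bf143c11c1075b28a2925b541402b866ec84d2d25600) i) (apW 7 S n11 i)) (by decide +kernel) j hj))
    [] (S := [nat_lit 0x8261ed66f52960bf2ac5bc7301c87d644baaee536108490aa80697142f1ae865a055b452789c49f0a995aabe72736c12c7bd7060733145b21ac48da443b11f86f11bf143c11c1075b28a2925b541402b866ec84d2d25600]) (M := 11) (by decide +kernel)).1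
  have b := orderOf_dvd_natCard (⟨ρ c, ⟨c, rfl⟩, mem_centralizer_singleton_iff.2 (h.map ρ)⟩ :
    (ρ.range ⊓ centralizer {ρ (ev g0 n11)} : Subgroup _))
  rw [a, ← orderOf_coe] at b
  have m : c ∈ ρ.ker := orderOf_eq_one_iff.1 (Nat.eq_one_of_dvd_coprimes (by decide) b
    (orderOf_dvd_of_pow_eq_one (n := 2) (by rw [← map_pow, h2, map_one])))
  obtain ⟨d, -, hd⟩ := (Nat.card_eq_two_iff' (1 : ρ.ker)).1 (by nlinarith)
  exact or_iff_not_imp_left.2 fun e => congrArg Subtype.val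
    ((hd ⟨c, m⟩ fun e' => e (congrArg Subtype.val e')).trans (hd _ n1).symm)

/-- every automorphism of the double cover is induced by the point stabiliser -/
theorem autK (β : MulAut K) : ∃ h : H, ∀ k : K, (β k : H) = h * k * h⁻¹ := by
  have cg : ∀ β : MulAut K, (center K).map (β : K →* K) = center K := fun β =>
    characteristic_iff_map_eq.1 inferInstance β
  have a : Nat.card (MulAut K) ≤ Nat.card (MulAut (K ⧸ center K)) :=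
    Nat.card_le_card_of_injective (fun β => QuotientGroup.congr _ _ β (cg β)) fun β β' e =>
      MulEquiv.toMonoidHom_injective (lift_unique (σ := QuotientGroup.mk' (center K)) (QuotientGroup.ker_mk' _).le perfect
        fun k => DFunLike.congr_fun e (k : K ⧸ center K))
  obtain ⟨-, ⟨e⟩, -⟩ := cover
  have f : Finite Spor.HS := Finite.of_equiv _ e.toEquiv
  have b := (Inn Spor.HS).index_mul_card
  have c : Nat.card (Inn Spor.HS) ≤ Nat.card Spor.HS :=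
    Nat.card_le_card_of_surjective _ (MulAut.conj (G := Spor.HS)).rangeRestrict_surjective
  rw [index_eq_card, S2072.result, ← Nat.card_congr (MulAut.congr e).toEquiv] at b
  rw [Nat.card_congr LL.sporHS.toEquiv, LL.card_KH] at c
  let γ := MulAut.conjNormal (H := K)
  have d := γ.ker.index_mul_card
  rw [index_ker, hN] at d
  have k : Nat.card γ.ker ≤ 2 := by
    rw [← SetLike.coe_sort_coe, Nat.card_coe_set_eq]
    refine (Set.ncard_le_ncard (t := {1, g0 1 * g0 1}) (fun c hc => cenK fun k hk => ?_)).trans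
      (Set.ncard_insert_le _ _ |>.trans (by simp))
    exact mul_inv_eq_iff_eq_mul.1 (congrArg (fun e : MulAut K => (e ⟨k, hk⟩ : H)) hc)
  obtain ⟨h, rfl⟩ : β ∈ γ.range := eq_top_of_le_card γ.range (by nlinarith) ▸ mem_top β
  exact ⟨h, fun _ => rfl⟩

/-! ### the whole group -/

theorem ιg (a : ℕ) (ha : a < 5) : ι (g0 a) = HN.g a := hg a ha ▸ ι_g a ha
theorem I (l : ℕ) : HN.g (inv 1 l) = (HN.g l)⁻¹ := HN.pres.inv l
theorem rel (u : List ℕ) (h : memW u HN.R0 = true) : ev HN.g u = 1 := HN.pres.sat u (memW_sound h)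

theorem ext {M : Type} [Group M] {α β : G →* M} (h : ∀ l ∈ [0, 1, 3, 5], α (HN.g l) = β (HN.g l)) : α = β := by
  have : wgrp HN.g [[0], [1], [3], [5]] ≤ α.eqLocus β := wgrp_le (by
    simp only [List.forall_mem_cons, ev_cons, ev_nil, mul_one] at h ⊢
    exact ⟨h.1, h.2.1, h.2.2.1, h.2.2.2.1, fun _ h => nomatch h⟩)
  exact MonoidHom.eq_of_eqOn_top fun a _ => (HN.pres.eq_top fun x hx =>
    this (mem_pair HN.pres.inv (S := 127) (by decide +kernel) x ((by decide : ∀ x < 7, Nat.testBit 127 x = true) x hx))).ge (mem_top a)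

theorem t5 : HN.g 5 ^ 5 = 1 := by simpa [pow_succ, mul_assoc] using rel [5, 5, 5, 5, 5] (by decide +kernel)

theorem t_not : HN.g 5 ∉ ι.range := by simpa using full.not_mem (u := [5]) (ops := [0]) (by decide +kernel)

theorem ot : orderOf (HN.g 5) = 5 :=
  have : Fact (Nat.Prime 5) := ⟨by norm_num⟩
  orderOf_eq_prime t5 fun e => t_not (e ▸ one_mem _)

theorem T_pow : ∀ y ∈ [0, 2, 3, 8], T (pt y) = HN.g 5 ^ nth 1 [1, 1, 2, 3, 1, 1, 1, 1, 4] y := by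
  have s : Sat HN.g [[1, 5, 2, 6, 6], [2, 5, 1, 6, 6, 6]] := chkDer_sound HN.pres.inv HN.pres.sat (ds := [[unp 16 7 (nat_lit 0x8003000280059003000280010), unp 16 10 (nat_lit 0x4002800080030002800510030002800100030), unp 16 10 (nat_lit 0x4000800280028002800590030003000300010), [nat_lit 4]],
 [[nat_lit 40, nat_lit 48, nat_lit 89, nat_lit 40, nat_lit 48], unp 16 12 (nat_lit 0x400280028002800280028006100300030003000300030), [nat_lit 3]]]) (by decide +kernel)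
  have k : ∀ a y, a < 5 → Nat.beq (C.apR [a + 1] 0) y = true → T (pt y) = HN.g a * HN.g 5 * (HN.g a)⁻¹ := fun a y ha e => by
    rw [← ok.send (by decide) e, ← mul_inv_eq_iff_eq_mul.2 (hT _ _), T0, evR_one g (by omega) (by omega), ι_g a ha]
  have s1 := s _ List.mem_cons_self
  have s2 := s _ (List.mem_cons_of_mem _ List.mem_cons_self)
  simp only [ev_cons, ev_nil, show HN.g 2 = _ from I 1, show HN.g 6 = _ from I 5] at s1 s2
  simp only [List.forall_mem_cons]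
  refine ⟨T0.trans (pow_one _).symm, (k 1 2 (by decide) (by decide +kernel)).trans ?_,
    (k 2 3 (by decide) (by decide +kernel)).trans ?_, T4.trans ((I 5).trans ?_), fun _ h => nomatch h⟩
  · change _ = _ ^ 2
    rw [← mul_inv_eq_one, ← s1]; simp [pow_succ, mul_assoc]
  · change _ = _ ^ 3
    rw [← mul_inv_eq_one, ← s2, show HN.g 2 = _ from I 1]; simp [pow_succ, mul_assoc]
  · change _ = _ ^ 4
    rw [inv_eq_iff_mul_eq_one, ← pow_succ', t5]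

theorem cent0 {u : G} (h1 : Commute (ι (ev g0 [3])) u) (h2 : Commute (ι (ev g0 [2, 3, 1])) u) :
    u ∈ ι.range ∨ ∃ y ∈ [0, 2, 3, 8], (T (pt y))⁻¹ * u ∈ ι.range := by
  have st : ∀ a : G, HNA.ψ a (X.p g 0) = X.p g 0 → a ∈ ι.range := fun a ha => full.act.stab ▸ ha
  obtain ⟨w, t, e⟩ := Ex.exists_p (HNA.ψ u (X.p g 0))
  have k : ∀ a : H, a • pt 0 = pt 0 → w⁻¹ * a * w ∈ X.S g t := fun a ha => by
    have c : ι a ∈ centralizer {u} := stab0 (K := (centralizer {u}).comap ι) (mem_centralizer_singleton_iff.2 h1)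
      (mem_centralizer_singleton_iff.2 h2) (by simpa using ha)
    rw [← Ex.fix_p t.2, mul_smul, mul_smul, ← e, ← full.act.map a, ← Equiv.Perm.mul_apply, ← map_mul,
      mem_centralizer_singleton_iff.1 c, map_mul, Equiv.Perm.mul_apply, full.act.map, good.h0, e, inv_smul_smul]
  have l := ok.lb_le (K := (X.S g t).comap (MulAut.conj w⁻¹).toMonoidHom) (B := [1, 6, 7, 17]) (l := List.range' 135 7)
    fun a ha => by
      have := List.mem_range'_1.1 ha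
      simpa [evR_one g (a := a) (by omega) (by omega)] using k _ ((ok.apR [a] 0 (by decide)).2.trans (congrArg pt
        ((by decide +kernel : ∀ a ∈ List.range' 135 7, C.apR [a] 0 = 0) a ha)))
  rw [show C.lb [1, 6, 7, 17] (List.range' 135 7) = 126000 by decide +kernel, comap_equiv_eq_map_symm',
    card_map_of_injective (MulEquiv.injective _), ho t t.2] at l
  obtain c | c := (by decide +kernel : ∀ t : Fin X.m, 126000 ≤ o t → t.1 = 0 ∨ t.1 = 1) t l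
  · rw [c, good.h0] at e
    exact .inl (st u e)
  · rw [c] at e k
    have f : ∀ a : H, a • pt 0 = pt 0 → a • w • pt 0 = w • pt 0 := fun a ha => by
      have := le1 (k a ha)
      rwa [mem_stabilizer_iff, mul_smul, mul_smul, inv_smul_eq_iff] at this
    obtain ⟨y, hy, e'⟩ := fix4 (f _ y0) (f _ y1)
    refine .inr ⟨y, hy, st _ ?_⟩
    have a := good.entry (t := 0) (y := 0) (by decide) (by decide)
    rw [show fw (X.F (0 * C.n + 0)) = 0 by decide +kernel, show fk (X.F (0 * C.n + 0)) = 1 by decide +kernel, ev1_zero,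
      one_smul] at a
    rw [map_mul, map_inv, Equiv.Perm.mul_apply, Equiv.Perm.inv_eq_iff_eq, e, full.sym, ← e', ← a, good.hτ, good.h0]

theorem tpow {u : G} (h1 : Commute (ι (ev g0 [3])) u) (h2 : Commute (ι (ev g0 [2, 3, 1])) u) (h5 : orderOf u = 5) :
    ∃ i ∈ [1, 2, 3, 4], u = HN.g 5 ^ i := by
  have c1 : Commute (ι (ev g0 [3])) (HN.g 5) := comm_t _ y0
  have c2 : Commute (ι (ev g0 [2, 3, 1])) (HN.g 5) := comm_t _ y1
  obtain ⟨i, hi, c, e⟩ : ∃ i < 5, (HN.g 5 ^ i)⁻¹ * u ∈ ι.range := (cent0 h1 h2).elim (fun h => ⟨0, by decide, by simpa⟩)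
    fun ⟨y, hy, h⟩ => ⟨_, (by decide +kernel : ∀ y ∈ [0, 2, 3, 8], nth 1 [1, 1, 2, 3, 1, 1, 1, 1, 4] y < 5) y hy, T_pow y hy ▸ h⟩
  have d1 : Commute (ev g0 [3]) c := act.inj' (by
    simpa only [map_mul, e] using ((c1.pow_right i).inv_right.mul_right h1).eq)
  have d2 : Commute (ev g0 [2, 3, 1]) c := act.inj' (by
    simpa only [map_mul, e] using ((c2.pow_right i).inv_right.mul_right h2).eq)
  obtain ⟨y, hy, f⟩ := cen4 d1 d2
  have s : SemiconjBy u (HN.g 5) (HN.g 5 ^ nth 1 [1, 1, 2, 3, 1, 1, 1, 1, 4] y) := by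
    have := hT c (pt 0)
    rw [f, T_pow y hy, T0, e] at this
    rw [← mul_inv_cancel_left (HN.g 5 ^ i) u]
    exact SemiconjBy.mul_left (Commute.pow_pow_self _ i _) this
  have := HN2.semi (f := fun _ => u) (fun _ => s) [0, 0, 0, 0, 0]
  rw [show ev (fun _ => u) [0, 0, 0, 0, 0] = u ^ 5 by simp [pow_succ, mul_assoc], show u ^ 5 = 1 from h5 ▸ pow_orderOf_eq_one u, SemiconjBy, one_mul,
    mul_one, ← pow_one (HN.g 5), ← pow_mul, pow_eq_pow_iff_modEq, ot] at this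
  obtain rfl := (by decide +kernel : ∀ y ∈ [0, 2, 3, 8], 
    1 ≡ 1 * ([0, 0, 0, 0, 0].map fun _ => nth 1 [1, 1, 2, 3, 1, 1, 1, 1, 4] y).prod [MOD 5] → y = 0) y hy this
  rw [cen1 d1 d2 f, map_one, eq_comm, inv_mul_eq_one] at e
  refine ⟨i, ?_, e.symm⟩
  have : i ≠ 0 := by rintro rfl; rw [← e] at h5; simp at h5
  interval_cases i <;> simp_all

noncomputable def σ' : List (List ℕ) := [[0, 1, 1], [1], [2], [3], [4], [5, 5], [6, 6]]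

theorem exα : ∃ α : MulAut G, α (HN.g 0) = HN.g 0 * (HN.g 1 * HN.g 1) ∧ α (HN.g 1) = HN.g 1 ∧ α (HN.g 3) = HN.g 3 ∧
    α (HN.g 5) = HN.g 5 ^ 2 := by
  have s : Sat (sub σ' HN.g) (invWords 1 7 ++ HN.R0) := sat_sub (full.sat (S := [blkL 16 [(6, nat_lit 0x1604420c16241cb800041604420c1624167800041604420c1624166800041604420c1624160400041608160c160c1600000416201608160000000004)],
 blkL 16 [(6, nat_lit 0x42242c2042081cb0000442242c2042081674000442242c2042081664000442242c204208162400040020162000201620000416201608160000200004)],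
 blkL 16 [(6, nat_lit 0x0)],
 blkL 16 [(6, nat_lit 0x0)],
 blkL 16 [(6, nat_lit 0x0)],
 blkL 16 [(6, nat_lit 0x0)],
 blkL 16 [(6, nat_lit 0x0)],
 blkL 16 [(6, nat_lit 0x0)],
 blkL 16 [(6, nat_lit 0x0)],
 blkL 16 [(6, nat_lit 0x0)],
 blkL 16 [(6, nat_lit 0x0)],
 blkL 16 [(6, nat_lit 0x0)],
 blkL 16 [(6, nat_lit 0x0)],
 blkL 16 [(6, nat_lit 0x0)],
 blkL 16 [(6, nat_lit 0x0)],
 blkL 16 [(6, nat_lit 0x0)],
 blkL 16 [(6, nat_lit 0x0)],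
 blkL 16 [(6, nat_lit 0x42242c0042081624160442242c00420816241cb8000a42242c0042081624160442242c00420816241678000a42242c0042081624160442242c00420816241668000a42242c0042081624160442242c00420816241604000a002016201608160c1600002016201608160c1600000a16201608160c1600002016201608160c16000000000a)],
 blkL 16 [(6, nat_lit 0x420042142c00420816241cb80006420042142c004208162416780006420042142c004208162416680006420042142c0042081624160400061600000816201608160c16000006162016081608160c160000000006)],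
 blkL 16 [(6, nat_lit 0x1604420c16241cb800041604420c1624167800041604420c1624166800041604420c1624160400041608160c160c1600000416201608160000000004)],
 blkL 16 [(6, nat_lit 0x42f058388420425016241cb8000642f0583884204f6416241678000642f0583884204f641624166800061608160c420042141624160400061604422442141614160c16000006162016082c101610160000000006)]]) (by decide +kernel))
  have t : ∀ l, 7 ≤ l → sub σ' HN.g l = 1 := fun _ h => sub_triv _ h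
  obtain ⟨α, hα⟩ := HN.pres.lift G _ (inv_of_sat rfl (by decide) t (s.mono fun _ => List.mem_append_left _)) t
    (s.mono fun _ => List.mem_append_right _)
  have a5 : α (HN.g 5) = HN.g 5 ^ 2 := (hα 5).trans (by change ev _ [5, 5] = _; simp [pow_two])
  have := simple
  have i : Function.Injective α := (MonoidHom.ker_eq_bot_iff α).1 ((IsSimpleGroup.eq_bot_or_eq_top_of_normal _ inferInstance).resolve_right
    fun e => absurd (orderOf_dvd_of_pow_eq_one (a5.symm.trans (e.ge (mem_top _)))) (by rw [ot]; decide))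
  exact ⟨MulEquiv.ofBijective α (Finite.injective_iff_bijective.1 i), (hα 0).trans (by change ev _ [0, 1, 1] = _; simp),
    (hα 1).trans (mul_one _), (hα 3).trans (mul_one _), a5⟩

theorem c_comm (a : H) : ι a * (HN.g 1 * HN.g 1) = HN.g 1 * HN.g 1 * ι a := by
  rw [← ιg 1 (by decide), ← map_mul, ← map_mul, xx_comm, map_mul]

theorem c_ne : HN.g 1 * HN.g 1 ≠ 1 := fun e => xx_ne (Subtype.ext (act.inj' (by
  simpa [x, ιg 1 (by decide)] using e)))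

theorem c_t : HN.g 1 * HN.g 1 * HN.g 5 * (HN.g 1 * HN.g 1)⁻¹ = (HN.g 5)⁻¹ := by
  rw [eq_inv_iff_mul_eq_one, ← sat1 [1, 1, 5, 2, 2, 5] (by simp)]
  simp [show HN.g 2 = _ from I 1, mul_assoc]

theorem o11 : orderOf (ι (ev g0 n11)) = 11 := by
  have : Fact (Nat.Prime 11) := ⟨by norm_num⟩
  refine orderOf_eq_prime (ι_ev n11 ▸ pow11) fun e => ?_
  have a := (ok.apR (upR n11 []) 0 (by decide)).2
  rw [ok.word hg (u := n11) (by decide +kernel), act.inj' (e.trans (map_one ι).symm), one_smul] at a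
  exact absurd (ok.inj _ (by decide) _ (ok.apR _ 0 (by decide)).1 a) (by decide +kernel)

theorem mem11 {u : G} (h : Commute (ι (ev g0 n11)) u) : u ∈ ι.range := by
  obtain ⟨q, -, e⟩ := fix11 o11
  have a : ι (ev g0 n11) • p0 = p0 := (HN7.stab.ge ⟨_, rfl⟩ :)
  exact HN7.stab.le ((e _ (by rw [← mul_smul, h.eq, mul_smul, a])).trans (e _ a).symm)

theorem cent_c : centralizer {HN.g 1 * HN.g 1} = ι.range := by
  have : Nontrivial Y := Finite.one_lt_card_iff_nontrivial.1 (by rw [act.card]; norm_num)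
  refine centralizer_eq_of_coatom (y := HN.g 5) (HN7.stab ▸ (isCoatom_stabilizer_iff_preprimitive G p0).2 prim)
    (by rintro _ ⟨a, rfl⟩; exact c_comm a) fun e => ?_
  have := c_t
  rw [← e, mul_inv_cancel_right, eq_inv_iff_mul_eq_one, ← pow_two] at this
  exact absurd (orderOf_dvd_of_pow_eq_one this) (by rw [ot]; decide)

theorem step1 (α : MulAut G) : ∃ u : G, (MulAut.conj u * α) (HN.g 1 * HN.g 1) = HN.g 1 * HN.g 1 := by
  have : Fact (Nat.Prime 11) := ⟨by norm_num⟩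
  have s : ∀ a : G, orderOf a = 11 → ∃ P : Sylow 11 G, (P : Subgroup G) = zpowers a := fun a ha =>
    have c : Nat.card (zpowers a) = 11 := by rw [Nat.card_zpowers, ha]
    ⟨(IsPGroup.of_card (n := 1) c).toSylow (by
      have := (zpowers a).index_mul_card
      rw [c, HN6.card] at this
      change ¬ 11 ∣ (zpowers a).index
      omega), rfl⟩
  obtain ⟨P, hP⟩ := s _ o11
  obtain ⟨Q, hQ⟩ := s _ ((α.orderOf_eq _).trans o11)
  obtain ⟨u, e⟩ := exists_smul_eq G Q P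
  have m : ι (ev g0 n11) ∈ (u • Q : Sylow 11 G) := by rw [e, ← SetLike.mem_coe, ← Sylow.coe_coe, hP]; exact mem_zpowers _
  obtain ⟨v, hv, m⟩ := m
  obtain ⟨k, rfl⟩ : v ∈ zpowers (α (ι (ev g0 n11))) := hQ ▸ hv
  have c : Commute (ι (ev g0 n11)) ((MulAut.conj u * α) (HN.g 1 * HN.g 1)) := by
    have := ((show Commute _ _ from c_comm (ev g0 n11)).zpow_left k).map (MulAut.conj u * α)
    rwa [show (MulAut.conj u * α) (ι (ev g0 n11) ^ k) = ι (ev g0 n11) by rw [MulAut.mul_apply, map_zpow α]; exact m] at this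
  obtain ⟨h, eh⟩ := mem11 c
  rw [← eh] at c
  have x4 : (HN.g 1 * HN.g 1) ^ 2 = 1 := by
    simpa [pow_two, mul_assoc] using (show ev HN.g [1, 1, 1, 1] = 1 from ev_one (u := [1, 1, 1, 1]) (by decide +kernel))
  rcases cen11 (c := h) (act.inj' (by simpa only [map_mul] using c.symm.eq))
    (act.inj' (by rw [map_pow, eh, ← map_pow, x4, map_one, map_one])) with rfl | rfl
  · exact absurd ((MulEquiv.map_eq_one_iff _).1 (eh.symm.trans (map_one ι))) c_ne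
  · exact ⟨u, eh.symm.trans (by rw [map_mul, ιg 1 (by decide)])⟩

theorem step2 {α : MulAut G} (h : α (HN.g 1 * HN.g 1) = HN.g 1 * HN.g 1) : ∃ u : G,
    (∀ k ∈ K, (MulAut.conj u * α) (ι k) = ι k) ∧ (MulAut.conj u * α) (HN.g 0) ∈ ι.range := by
  have m : ∀ a, α (ι a) ∈ ι.range := fun a => cent_c ▸ mem_centralizer_singleton_iff.2 (by
    rw [← h, ← map_mul, ← map_mul, c_comm])
  let β : H →* H := (MonoidHom.ofInjective act.inj').symm.toMonoidHom.comp (((α : G →* G).comp ι).codRestrict _ m)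
  have hβ : ∀ a, ι (β a) = α (ι a) := fun a => MonoidHom.apply_ofInjective_symm act.inj' _
  have i : Function.Injective β := fun a b e => act.inj' (α.injective (by rw [← hβ, e, hβ]))
  have j : (K.comap β).index = 2 := (index_comap_of_surjective _ (Finite.injective_iff_surjective.1 i)).trans HN8.index
  have k : ∀ a : K, β a ∈ K := fun a => by
    have : commutator K ≤ (K.comap β).subgroupOf K := commutator_le.2 fun a _ b _ => by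
      simp only [mem_subgroupOf, commutatorElement_def, coe_mul, coe_inv, mul_mem_iff_of_index_two j, inv_mem_iff]
      tauto
    exact this (perfect ▸ mem_top a)
  obtain ⟨v, hv⟩ := autK (MulEquiv.ofBijective ((β.comp K.subtype).codRestrict K k)
    (Finite.injective_iff_bijective.1 fun a b e => Subtype.ext (i (congrArg Subtype.val e))))
  refine ⟨(ι v)⁻¹, fun a ha => ?_, ?_⟩
  · rw [MulAut.mul_apply, ← hβ, show β a = _ from hv ⟨a, ha⟩]; simp [mul_assoc]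
  · rw [MulAut.mul_apply, ← ιg 0 (by decide), ← hβ]
    exact ⟨v⁻¹ * β (g0 0) * v, by simp⟩

theorem step3 {α : MulAut G} (h : ∀ k ∈ K, α (ι k) = ι k) (hz : α (HN.g 0) ∈ ι.range) :
    (α (HN.g 0) = HN.g 0 ∨ α (HN.g 0) = HN.g 0 * (HN.g 1 * HN.g 1)) ∧ ∃ i ∈ [1, 2, 3, 4], α (HN.g 5) = HN.g 5 ^ i := by
  refine ⟨?_, tpow (h _ y0K ▸ (show Commute _ _ from comm_t _ y0).map α) (h _ y1K ▸ (show Commute _ _ from comm_t _ y1).map α)
    ((α.orderOf_eq _).trans ot)⟩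
  obtain ⟨z, e⟩ := hz
  rcases cenK (c := (g0 0)⁻¹ * z) (fun k hk => act.inj' (by
    have := h _ (Normal.conj_mem inferInstance k hk (g0 0))
    simp only [map_mul, map_inv, ιg 0 (by decide), h k hk, ← e] at this ⊢
    rw [mul_assoc, mul_inv_eq_iff_eq_mul.1 this]; group)) with c | c
  · exact .inl (by rw [← e, ← inv_mul_eq_one.1 c, ιg 0 (by decide)])
  · exact .inr (by rw [← e, inv_mul_eq_iff_eq_mul.1 c, map_mul, map_mul, ιg 0 (by decide), ιg 1 (by decide)])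

theorem out : Nat.card (Out G) = 2 := by
  obtain ⟨α0, a0, a1, a3, a5⟩ := exα
  have fx : ∀ {α : MulAut G}, (∀ k ∈ K, α (ι k) = ι k) → α (HN.g 1) = HN.g 1 ∧ α (HN.g 3) = HN.g 3 := fun h =>
    ⟨ιg 1 (by decide) ▸ h _ x_mem, ιg 3 (by decide) ▸ h _ y_mem⟩
  refine Tl.out_two (α := α0) ?_ fun α => ?_
  · rintro ⟨u, rfl⟩
    simp only [MulAut.conj_apply, mul_inv_eq_iff_eq_mul] at a0 a1 a3 a5
    obtain ⟨h, rfl⟩ : u ∈ ι.range := cent_c ▸ mem_centralizer_singleton_iff.2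
      ((show Commute _ _ from a1).mul_right (show Commute _ _ from a1))
    have s : SemiconjBy h (g0 0) (g0 0 * (g0 1 * g0 1)) := act.inj' (by
      simpa only [map_mul, ιg 0 (by decide), ιg 1 (by decide)] using a0)
    have nx : g0 1 ∈ centralizer {h} := mem_centralizer_singleton_iff.2 (act.inj' (by
      simpa only [map_mul, ιg 1 (by decide)] using a1.symm))
    have ny : g0 3 ∈ centralizer {h} := mem_centralizer_singleton_iff.2 (act.inj' (by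
      simpa only [map_mul, ιg 3 (by decide)] using a3.symm))
    have n : ∀ l < 5, l ≠ 0 → g0 l ∈ centralizer {h} := fun l _ _ => by
      interval_cases l
      exacts [absurd rfl ‹_›, nx, (show g0 2 = _ from HN2.pres.inv 1) ▸ inv_mem nx, ny,
        (show g0 4 = _ from HN2.pres.inv 3) ▸ inv_mem ny]
    have nN : (centralizer {h}).Normal := normalizer_eq_top_iff.1 (HN2.pres.eq_top fun l hl => by
      by_cases c : l = 0
      · refine c ▸ mem_normalizer_fintype fun a ha => mem_centralizer_singleton_iff.2 ?_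
        have := (s.mul_right (mem_centralizer_singleton_iff.1 ha).symm).mul_right s.inv_right
        rw [mul_assoc (g0 0) _ a, ← xx_comm a, show ∀ z a c : H, z * (a * c) * (z * c)⁻¹ = z * a * z⁻¹ from
          fun _ _ _ => by group] at this
        exact this.symm
      · exact le_normalizer (n l hl c))
    let π := QuotientGroup.mk' (centralizer {h})
    have e : (zpowers (π (g0 0))).comap π = ⊤ := HN2.pres.eq_top fun l hl => by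
      by_cases c : l = 0
      · exact c ▸ mem_zpowers _
      · exact mem_comap.2 ((show π (g0 l) = 1 from (QuotientGroup.eq_one_iff _).2 (n l hl c)) ▸ one_mem _)
    have k : commutator K ≤ (centralizer {h}).subgroupOf K := commutator_le.2 fun a _ b _ => by
      obtain ⟨i, hi⟩ := mem_zpowers_iff.1 (e.ge (mem_top (a : H)))
      obtain ⟨j, hj⟩ := mem_zpowers_iff.1 (e.ge (mem_top (b : H)))
      refine (QuotientGroup.eq_one_iff (N := centralizer {h}) _).1 (show π (a * b * (a : H)⁻¹ * (b : H)⁻¹) = 1 from ?_)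
      simp only [map_mul, map_inv, ← hi, ← hj]
      group
    refine xx_ne (Subtype.ext (mul_left_cancel (a := g0 0) (mul_right_cancel (b := h) ?_)))
    refine s.symm.trans ?_
    rcases cenK (c := h) fun a ha => (mem_centralizer_singleton_iff.1 (k (x := ⟨a, ha⟩) (perfect ▸ mem_top _))).symm
      with rfl | rfl
    · simp
    · simpa using (xx_comm _).symm
  · obtain ⟨u1, h1⟩ := step1 α
    obtain ⟨u2, h2, h3⟩ := step2 h1
    obtain ⟨hz, i, hi, ht⟩ := step3 h2 h3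
    obtain ⟨b1, b3⟩ := fx h2
    rw [← mul_assoc, ← map_mul] at hz ht b1 b3
    obtain ⟨u, i, hi, hz, ht, b1, b3⟩ : ∃ u : G, ∃ i ∈ [1, 2], ((MulAut.conj u * α) (HN.g 0) = HN.g 0 ∨
        (MulAut.conj u * α) (HN.g 0) = HN.g 0 * (HN.g 1 * HN.g 1)) ∧ (MulAut.conj u * α) (HN.g 5) = HN.g 5 ^ i ∧
        (MulAut.conj u * α) (HN.g 1) = HN.g 1 ∧ (MulAut.conj u * α) (HN.g 3) = HN.g 3 := by
      by_cases c : i ∈ [1, 2]
      · exact ⟨_, i, c, hz, ht, b1, b3⟩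
      · have f : ∀ a < 5, MulAut.conj (HN.g 1 * HN.g 1) (HN.g a) = HN.g a := fun a ha =>
          ιg a ha ▸ mul_inv_eq_iff_eq_mul.2 (c_comm _).symm
        have ct : MulAut.conj (HN.g 1 * HN.g 1) (HN.g 5) = (HN.g 5)⁻¹ := c_t
        refine ⟨HN.g 1 * HN.g 1 * (u2 * u1), 5 - i, (by decide : ∀ i ∈ [1, 2, 3, 4], i ∉ [1, 2] → 5 - i ∈ [1, 2]) i hi c, ?_⟩
        rw [map_mul MulAut.conj, mul_assoc (MulAut.conj _)]
        generalize MulAut.conj (HN.g 1 * HN.g 1) = γ at f ct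
        generalize MulAut.conj (u2 * u1) * α = β at hz ht b1 b3
        simp only [MulAut.mul_apply, ht, b1, b3, f 1 (by decide), f 3 (by decide), and_true]
        refine ⟨hz.imp (fun e => by rw [e, f 0 (by decide)]) fun e => by
          rw [e, map_mul, map_mul, f 0 (by decide), f 1 (by decide)], ?_⟩
        rw [map_pow, ct, inv_pow, inv_eq_iff_mul_eq_one, ← pow_add,
          (by decide : ∀ i ∈ [1, 2, 3, 4], i + (5 - i) = 5) i hi, t5]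
    have r := congrArg (MulAut.conj u * α) (rel [0, 5, 0, 5, 0, 5] (by decide +kernel))
    simp only [ev_cons, ev_nil, map_mul, map_one, ht] at r
    simp only [List.mem_cons, List.not_mem_nil, or_false] at hi
    refine ⟨u, ?_⟩
    rcases hz with hz | hz <;> rcases hi with rfl | rfl <;> rw [hz] at r
    · exact .inl (MulEquiv.toMonoidHom_injective (ext (by simpa using ⟨hz, b1, b3, ht.trans (pow_one _)⟩)))
    · exact absurd (show ev HN.g [0, 5, 5, 0, 5, 5, 0, 5, 5] = 1 by simpa [pow_two, mul_assoc] using r) fun e =>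
        full.not_mem (u := [0, 5, 5, 0, 5, 5, 0, 5, 5]) (ops := [0, 5632, 5652, 16916, 16900, 11264]) (by decide +kernel) (by rw [e]; exact one_mem _)
    · exact absurd (show ev HN.g [0, 1, 1, 5, 0, 1, 1, 5, 0, 1, 1, 5] = 1 by simpa [mul_assoc] using r) fun e =>
        full.not_mem (u := [0, 1, 1, 5, 0, 1, 1, 5, 0, 1, 1, 5]) (ops := [0, 5668, 16916]) (by decide +kernel) (by rw [e]; exact one_mem _)
    · exact .inr (inv_mul_eq_one.2 (MulEquiv.toMonoidHom_injective (ext (by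
        simpa using ⟨a0.trans hz.symm, a1.trans b1.symm, a3.trans b3.symm, a5.trans ht.symm⟩))))

end Cfsg.Agent.H17.HNB
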