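import Cfsg.Agent.H17.Words
import Cfsg.Prelude.Def_Spor_HN

/-! The presentation of HN in letters. -/

namespace Cfsg.Agent.H17.HN

open Cfsg.Spor

def lets : List (HN.Gen × Bool) := [(.z, true), (.x, true), (.x, false), (.y, true), (.y, false), (.t, true), (.t, false)]
def gens : List HN.Gen := [.z, .x, .y, .t]
def enc : HN.Gen → ℕ
  | .z => 0
  | .x => 1
  | .y => 3
  | .t => 5

theorem mem_gens (a : HN.Gen) : a ∈ gens := by cases a <;> decide

theorem letsOK : LetsOK 1 7 lets gens enc HN.edges HN.extra := by decide +kernel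

/-- the letters -/
noncomputable def g : ℕ → Cfsg.Spor.HN := letOf lets PresentedGroup.of

noncomputable def R0 : List (List ℕ) := [[nat_lit 3, nat_lit 3, nat_lit 3, nat_lit 3, nat_lit 3, nat_lit 3],
  [nat_lit 1, nat_lit 1, nat_lit 3, nat_lit 1, nat_lit 1, nat_lit 4],
  unp 8 12 (nat_lit 0x30104020301040203010402),
  unp 8 21 (nat_lit 0x30303010303020303030103030203030301030302),
  unp 8 16 (nat_lit 0x3010301030103010301030103010301),
  unp 8 24 (nat_lit 0x30303010301030303010301030303010301030303010301),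
  [nat_lit 0, nat_lit 0],
  [nat_lit 0, nat_lit 1, nat_lit 0, nat_lit 1],
  unp 8 20 (nat_lit 0x202040103030103010300040204020404020300),
  unp 8 49 (nat_lit 0x1030103010303030004040402040204010301030103030300040404020402040103010301030303000404040204020400),
  [nat_lit 5, nat_lit 5, nat_lit 5, nat_lit 5, nat_lit 5],
  [nat_lit 2, nat_lit 5, nat_lit 1, nat_lit 5, nat_lit 5],
  [nat_lit 6, nat_lit 4, nat_lit 5, nat_lit 3],
  [nat_lit 0, nat_lit 5, nat_lit 0, nat_lit 5, nat_lit 0, nat_lit 5]]

theorem R0_eq : coxWords 1 gens enc HN.edges HN.extra = R0 := by decide +kernel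

theorem pres : Presents 1 7 R0 g := R0_eq ▸ presents_cox mem_gens letsOK

theorem mk_eq (r : FreeGroup HN.Gen) :
    PresentedGroup.mk (coxRelators HN.edges ∪ {r | r ∈ HN.extra}) r = ev g (wordOf 1 enc r) :=
  mk_eq_ev mem_gens letsOK r

end Cfsg.Agent.H17.HN
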