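import Cfsg.Agent.H27.JA1
import Cfsg.Agent.H16.J4M

/-! The conjugates of `t` in the presented group. -/

set_option autoImplicit false
set_option maxRecDepth 100000
set_option Elab.async false

namespace Cfsg.Agent.H17.JA2

open H27.DC MulAction
open JA1

/-- the group -/
abbrev G : Type := Cfsg.Spor.J4
/-- the letters -/
noncomputable abbrev f : ℕ → G := H16.J4M.g
theorem pres : Presents 2 4 H16.J4M.R0 f := H16.J4M.pres
noncomputable def σ : List (List ℕ) := [[0], [2], [3]]
theorem exι : ∃ ι : H →* G, ∀ x, ι (g0 x) = sub σ f x :=
  H16.J4F.pres.lift G _ (inv_sub pres.inv (by decide +kernel) (by decide +kernel) (by decide +kernel))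
    (fun _ h => sub_triv f h) (sat_sub (pres.sat.mono (subsetB_sound (by decide +kernel))))
/-- the map from the group on `x` and `y` -/
noncomputable def ι : H →* G := exι.choose
theorem ι_ev (u : List ℕ) : ι (ev g0 u) = ev f (substW σ u) := by rw [map_ev' ι exι.choose_spec, ev_sub]
theorem ι_g : ι (g 1) = f 0 ∧ ι (g 2) = f 2 ∧ ι (g 3) = f 3 := by
  rw [hg 0 (by decide), hg 1 (by decide), hg 2 (by decide), ι, exι.choose_spec, exι.choose_spec, exι.choose_spec]
  exact ⟨mul_one _, mul_one _, mul_one _⟩
theorem sat1 : Sat f (commWords 2 [1] [[0], [2, 0, 2, 0, 3, 0, 3, 0, 2, 0, 2, 0, 2]]) :=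
  chkDer_sound pres.inv pres.sat (ds := [[[nat_lit 8, nat_lit 73, nat_lit 8]],
 [unp 16 31 (nat_lit 0x8001000000010000000180000001800000010000000100000001000080049000800180000001800000018000000100000001000000018000000180008)]]) (by decide +kernel)
theorem comm_t (a : H) (ha : a • pt 0 = pt 0) : ι a * f 1 = f 1 * ι a := by
  simpa using comm_of_sat pres.inv sat1
    (stab0 (K := (wgrp f [[0], [2, 0, 2, 0, 3, 0, 3, 0, 2, 0, 2, 0, 2]]).comap ι) (by rw [Subgroup.mem_comap, ι_ev]; exact mem_wgrp _ (memW_sound (by decide +kernel))) (by rw [Subgroup.mem_comap, ι_ev]; exact mem_wgrp _ (memW_sound (by decide +kernel)))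
      (by simpa using ha))
theorem exT : ∃ T : PF φ → G, T (pt 0) = f 1 ∧ ∀ a ω, ι a * T ω = T (a • ω) * ι a := exists_T ι comm_t
/-- the conjugates of `t` -/
noncomputable def T : PF φ → G := exT.choose
theorem T0 : T (pt 0) = f 1 := exT.choose_spec.1
theorem hT : ∀ a ω, ι a * T ω = T (a • ω) * ι a := exT.choose_spec.2
theorem hm : Lets g pt ι T (nth 0 [2, 1, 4, 6]) f := lets_of pres.triv fun a ha => by
  change a < 4 at ha
  interval_cases a
  exacts [.inl ⟨1, by decide, by decide, rfl, ι_g.1.symm⟩, .inr ⟨0, rfl, T0.symm⟩,
    .inl ⟨2, by decide, by decide, rfl, ι_g.2.1.symm⟩, .inl ⟨3, by decide, by decide, rfl, ι_g.2.2.symm⟩]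
noncomputable def Ws : List (List ℕ) := [[nat_lit 1, nat_lit 1],
  unp 8 54 (nat_lit 0x30002000300020002000300020003000201030002000300020002000300020003000201030002000300020002000300020003000201),
  unp 8 126 (nat_lit 0x20002000200020200020002000202000200020002020200020002000200020002000202000200020001000300030003030003000300030003000300030301020002000200020200020002000202000200020002020200020002000200020002000202000200020001000300030003030003000300030003000300030301),
  unp 8 126 (nat_lit 0x300030003030003000300030003000300030301020002000200020200020002000202000200020002020200020002000200020002000202000200020001000300030003030003000300030003000300030301020002000200020200020002000202000200020002020200020002000200020002000202000200020001)]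
theorem satW : Sat f Ws := chkDer_sound pres.inv pres.sat (ds := [[[]],
 [unp 16 19 (nat_lit 0x10000000180000001000000018000000180059001000000010000000180000001000000018)],
 [unp 16 43 (nat_lit 0x18000000180000001800000018001800000018000000180000001800180000001800000018000000180069001000000010000000100000001000100000001000000010000000100010000000100000001000000010)],
 [unp 16 85 (nat_lit 0x1000000010000000100010000000100000001000000010000000100000001000000010001000080018000000180000001800000018001800000018000000180000001800180000001800000018000000180071001000000010000000100000001000100000001000000010000000100010000000100000001000000010000800180018000000180000001800000018000000180000001800000018001800000018000000180000)]]) (by decide +kernel)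
theorem tt : T (pt 0) * T (pt 0) = 1 := by rw [T0]; exact mul_eq_one_iff_eq_inv.2 (pres.inv 1)

end Cfsg.Agent.H17.JA2
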