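import Cfsg.Agent.H27.JB3

/-! Products of commuting involutions, indexed by bit masks. -/

set_option autoImplicit false
set_option maxRecDepth 100000

namespace Cfsg.Agent.H17.JM

open Subgroup
open scoped commutatorElement
open H16 (ifB ifB_eq)
open H27.Tl (frc frc_eq)

/-- the sum of the columns -/
noncomputable def lin (col : ℕ → ℕ) (m n : ℕ) : ℕ :=
  Nat.rec 0 (fun i a => ifB (m.testBit i) (Nat.xor a (col i)) a) n

/-- the action of a word -/
noncomputable def linW (col : ℕ → ℕ → ℕ) (n : ℕ) (u : List ℕ) (m : ℕ) : ℕ :=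
  List.rec m (fun l _ a => frc a fun a => lin (col l) a n) u

/-- the mask of a word -/
noncomputable def wm (u : List ℕ) : ℕ := List.rec 0 (fun l _ a => Nat.xor (2 ^ l) a) u

section
variable {G G' : Type} [Group G] [Group G']

/-- the product -/
def mv (f : ℕ → G) (m : ℕ) : ℕ → G
  | 0 => 1
  | n + 1 => mv f m n * if m.testBit n then f n else 1

/-- commuting involutions -/
def CI (f : ℕ → G) : Prop := (∀ i j, Commute (f i) (f j)) ∧ ∀ i, f i * f i = 1

theorem mv_mem {f : ℕ → G} {K : Subgroup G} {m : ℕ} : ∀ {n}, (∀ i < n, m.testBit i = true → f i ∈ K) → mv f m n ∈ K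
  | 0, _ => one_mem _
  | n + 1, h => mul_mem (mv_mem fun i hi => h i (by omega)) (by
      split_ifs with c
      exacts [h n (by omega) c, one_mem _])

theorem mv_congr {f f' : ℕ → G} {m : ℕ} (h : ∀ i, m.testBit i = true → f i = f' i) : ∀ n, mv f m n = mv f' m n
  | 0 => rfl
  | n + 1 => by
    rw [mv, mv, mv_congr h n]
    split_ifs with c
    exacts [by rw [h n c], rfl]

theorem mv_zero (f : ℕ → G) : ∀ n, mv f 0 n = 1
  | 0 => rfl
  | n + 1 => by simp [mv, mv_zero f n]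

theorem mv_two (f : ℕ → G) (i : ℕ) : ∀ n, mv f (2 ^ i) n = if i < n then f i else 1
  | 0 => rfl
  | n + 1 => by
    rw [mv, mv_two f i n, Nat.testBit_two_pow]
    rcases lt_trichotomy i n with h | rfl | h
    · simp [h, h.ne, h.le, Nat.lt_succ_iff]
    · simp
    · simp [h.ne', h.not_gt, h.not_ge, Nat.lt_succ_iff]

theorem mv_bit (f : ℕ → G) {i n : ℕ} (h : i < n) : mv f (2 ^ i) n = f i := (mv_two f i n).trans (if_pos h)

variable {f : ℕ → G} (hf : CI f)
include hf

theorem mv_xor (a b : ℕ) : ∀ n, mv f (Nat.xor a b) n = mv f a n * mv f b n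
  | 0 => (mul_one _).symm
  | n + 1 => by
    have c : f n * mv f b n = mv f b n * f n := (mem_centralizer_singleton_iff.1
      (mv_mem fun i _ _ => mem_centralizer_singleton_iff.2 (hf.1 i n))).symm
    rw [mv, mv, mv, mv_xor a b n, show (Nat.xor a b).testBit n = _ from Nat.testBit_xor a b n]
    cases a.testBit n <;> cases b.testBit n <;> simp [mul_assoc, c]
    rw [← mul_assoc, c, mul_assoc, hf.2, mul_one]

theorem mv_sq (a n : ℕ) : mv f a n * mv f a n = 1 := by
  rw [← mv_xor hf, show Nat.xor a a = 0 from Nat.xor_self a, mv_zero]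

theorem ev_wm {n : ℕ} (ht : ∀ i, n ≤ i → f i = 1) : ∀ u, ev f u = mv f (wm u) n
  | [] => (mv_zero f n).symm
  | l :: u => by
    rw [ev_cons, ev_wm ht u, show wm (l :: u) = Nat.xor (2 ^ l) (wm u) from rfl, mv_xor hf, mv_two]
    split_ifs with c
    exacts [rfl, by rw [ht l (by omega)]]

theorem map_mv {f' : ℕ → G'} (φ : G' →* G) {col : ℕ → ℕ} {n' m : ℕ} : ∀ {n}, (∀ i < n, φ (f' i) = mv f (col i) n') →
    φ (mv f' m n) = mv f (lin col m n) n'
  | 0, _ => (map_one φ).trans (mv_zero f n').symm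
  | n + 1, h => by
    rw [mv, map_mul, map_mv φ fun i hi => h i (by omega),
      show lin col m (n + 1) = ifB (m.testBit n) (Nat.xor (lin col m n) (col n)) (lin col m n) from rfl, ifB_eq]
    split_ifs
    exacts [by rw [mv_xor hf, h n (by omega)], by rw [map_one, mul_one]]

theorem lin_mem {K : Subgroup G} {col : ℕ → ℕ} {n' m n : ℕ} (h : ∀ i < n, mv f (col i) n' ∈ K) :
    mv f (lin col m n) n' ∈ K :=
  map_mv hf (f' := fun i => mv f (col i) n') (MonoidHom.id G) (fun _ _ => rfl) ▸ mv_mem fun i hi _ => h i hi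

theorem conj_mv {g : ℕ → G} {col : ℕ → ℕ → ℕ} {n : ℕ} (h : ∀ l, ∀ i < n, g l * f i * (g l)⁻¹ = mv f (col l i) n)
    (m : ℕ) : ∀ u, ev g u * mv f m n * (ev g u)⁻¹ = mv f (linW col n u m) n
  | [] => by simp [linW]
  | l :: u => by
    rw [show linW col n (l :: u) m = frc (linW col n u m) fun a => lin (col l) a n from rfl, frc_eq,
      ← map_mv hf (MulAut.conj (g l)).toMonoidHom (h l), ← conj_mv h m u, ev_cons]
    simp [mul_assoc]

/-- the columns of the letters `x`, `y`, `y⁻¹` -/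
theorem conj3 {x y : G} (hy : y * y * y = 1) {w n a b c : ℕ}
    (h0 : ∀ i < n, x * f i * x⁻¹ = mv f (H16.get w a i) n) (h1 : ∀ i < n, y * f i * y⁻¹ = mv f (H16.get w b i) n)
    (h2 : H16.allB n (fun i => Nat.beq (H16.get w c i) (lin (H16.get w b) (H16.get w b i) n)) = true) (l : ℕ) :
    ∀ i < n, H16.J4F.lt2 x y l * f i * (H16.J4F.lt2 x y l)⁻¹ =
      mv f (ifB (Nat.blt l 3) (H16.get w (nth 0 [a, b, c] l) i) (2 ^ i)) n := fun i hi => by
  rw [ifB_eq]
  by_cases hl : l < 3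
  · rw [if_pos (Nat.blt_eq.mpr hl)]
    interval_cases l
    exacts [h0 i hi, h1 i hi, by
      change y⁻¹ * f i * y⁻¹⁻¹ = mv f (H16.get w c i) n
      rw [Nat.eq_of_beq_eq_true (H16.allB_spec h2 i hi), ← map_mv hf (MulAut.conj y).toMonoidHom h1, ← h1 i hi,
        inv_inv]
      calc y⁻¹ * f i * y = y * y * f i * (y * y)⁻¹ := by rw [eq_inv_of_mul_eq_one_left hy, inv_inv]
        _ = _ := by simp [mul_assoc]]
  · rw [if_neg (mt Nat.blt_eq.mp hl), H16.J4F.lt2_triv _ _ _ (by omega), mv_bit f hi]; simp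

end

/-! ### the elementary abelian subgroup of the matrix group -/

open H16.J4G

theorem ciE : CI hE := ⟨fun i j => E_comm _ (hE_mem i) _ (hE_mem j), fun i => by
  by_cases hi : i < 11
  · exact H16.Mdl.isOne_spec (MG.R_mul (rE i) (rE i)) (H16.allB_spec sqB i hi)
  · rw [hE_triv i (by omega), mul_one]⟩

/-- the elements of `E` -/
noncomputable def e (m : ℕ) : Γ := mv hE m 11

theorem e_mem (m : ℕ) : e m ∈ E := mv_mem fun i _ _ => hE_mem i

/-- the columns -/
noncomputable def col (l i : ℕ) : ℕ := ifB (Nat.blt l 3) (H16.get 12 (nth 0 [nat_lit 0x568080040200100008004020010001002, nat_lit 0x6477ca4000100800ba040002008004001, nat_lit 0x10051b6470400100ec080004002008001] l) i) (2 ^ i)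

theorem yyy : y * y * y = 1 := by
  have := congrArg θ H16.J4F.rel_y
  rwa [map_pow, θ_let, map_one, pow_three'] at this

theorem cj (s : ℕ) (hs : s < 2) (i : ℕ) (hi : i < 11) : h3 s * hE i * (h3 s)⁻¹ = e (wm (nth [] CJ (11 * s + i))) := by
  have h1 := H16.allB_spec (H16.allB_spec cjB s hs) i hi
  rw [H16.force_eq] at h1
  rw [H16.Mdl.cjM_spec (r3 s) (rE i) (H16.Mdl.R_ev rE _) h1, ev_wm ciE hE_triv]
  rfl

theorem act1 : ∀ l, ∀ i < 11, h3 l * hE i * (h3 l)⁻¹ = e (col l i) :=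
  conj3 ciE yyy (fun i hi => (cj 0 (by decide) i hi).trans (congrArg e (by revert i; decide +kernel)))
    (fun i hi => (cj 1 (by decide) i hi).trans (congrArg e (by revert i; decide +kernel))) (by decide +kernel)

theorem act (u : List ℕ) (m : ℕ) : θ (ev H16.J4F.g u) * e m * (θ (ev H16.J4F.g u))⁻¹ = e (linW col 11 u m) :=
  θ_ev u ▸ conj_mv ciE act1 m u

theorem E_le_of {K : Subgroup Γ} (h : ∀ i < 11, hE i ∈ K) : E ≤ K := (closure_le _).2 fun a ha => by
  obtain ⟨i, hi, rfl⟩ := mem_lE.1 ha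
  exact h i hi

theorem lin_lt {col : ℕ → ℕ} {m k : ℕ} : ∀ {n}, (∀ i < n, col i < 2 ^ k) → lin col m n < 2 ^ k
  | 0, _ => Nat.two_pow_pos k
  | n + 1, h => by
    have := lin_lt (m := m) fun i (hi : i < n) => h i (by omega)
    rw [show lin col m (n + 1) = ifB (m.testBit n) (Nat.xor (lin col m n) (col n)) (lin col m n) from rfl, ifB_eq]
    split_ifs
    exacts [Nat.xor_lt_two_pow this (h n (by omega)), this]

theorem e_surj {v : Γ} (hv : v ∈ E) : ∃ m < 2048, v = e m := by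
  induction hv using closure_induction with
  | mem a ha =>
    obtain ⟨i, hi, rfl⟩ := mem_lE.1 ha
    exact ⟨2 ^ i, Nat.pow_lt_pow_right (n := 11) (by decide) hi, (mv_bit hE hi).symm⟩
  | one => exact ⟨0, by decide, (mv_zero _ _).symm⟩
  | mul a b _ _ ha hb =>
    obtain ⟨m, h1, rfl⟩ := ha
    obtain ⟨m', h2, rfl⟩ := hb
    exact ⟨_, Nat.xor_lt_two_pow (n := 11) h1 h2, (mv_xor ciE m m' 11).symm⟩
  | inv a _ ha =>
    obtain ⟨m, h1, rfl⟩ := ha
    exact ⟨m, h1, inv_eq_of_mul_eq_one_right (mv_sq ciE m 11)⟩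

/-- the commutators with the stabiliser of `hE 0` generate `E` -/
theorem span {K : Subgroup Γ} (h : ∀ s : H16.J4F.F, Commute (hE 0) (θ s) → ∀ v ∈ E, ⁅θ s, v⁆ ∈ K) : E ≤ K := by
  let P : ℕ → List ℕ := nth [] [[1], [0, 2, 0, 2, 0, 2, 0, 1, 0, 1, 0, 2, 0, 2, 0, 1, 0, 1, 0, 1, 0],
    [0, 1, 0, 2, 0, 2, 0, 2, 0, 1, 0, 2, 0, 1, 0, 1, 0, 1, 0, 2, 0]]
  refine E_le_of fun i hi => ?_
  have := lin_mem ciE (K := K) (col := fun j => Nat.xor (linW col 11 (P (j / 11)) (2 ^ (j % 11))) (2 ^ (j % 11))) (n' := 11)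
    (m := nth 0 [143412, 12580, 12582, 12578, 67182880, 67249206, 67182896, 67182854, 67187988, 67310854, 67187732] i)
    (n := 33) fun j hj => by
      have a := act (P (j / 11)) (2 ^ 0)
      rw [(by decide +kernel : ∀ j < 33, linW col 11 (P (j / 11)) (2 ^ 0) = 2 ^ 0) j hj, e, mv_bit hE (by decide),
        mul_inv_eq_iff_eq_mul] at a
      have := h _ a.symm _ (e_mem (2 ^ (j % 11)))
      rwa [commutatorElement_def, act, e, e, inv_eq_of_mul_eq_one_right (mv_sq ciE _ 11), ← mv_xor ciE] at this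
  rwa [(by decide +kernel : ∀ i < 11, lin (fun j => Nat.xor (linW col 11 (P (j / 11)) (2 ^ (j % 11))) (2 ^ (j % 11)))
    (nth 0 [143412, 12580, 12582, 12578, 67182880, 67249206, 67182896, 67182854, 67187988, 67310854, 67187732] i) 33 = 2 ^ i)
    i hi, mv_bit hE hi] at this

theorem conj0 (i : ℕ) (hi : i < 11) : ∃ s, θ s * hE 0 * (θ s)⁻¹ = hE i := by
  let P : ℕ → List ℕ := nth [] [[], [0], [1, 0], [2, 0], [0, 1, 0], [0, 2, 0], [1, 0, 1, 0], [2, 0, 1, 0], [0, 1, 0, 1, 0],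
    [0, 2, 0, 1, 0], [1, 0, 1, 0, 1, 0]]
  have a := act (P i) (2 ^ 0)
  rw [(by decide +kernel : ∀ i < 11, linW col 11 (P i) (2 ^ 0) = 2 ^ i) i hi, e, e, mv_bit hE (by decide), mv_bit hE hi] at a
  exact ⟨_, a⟩

end Cfsg.Agent.H17.JM
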