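import Cfsg.Agent.H27.JS2
import Cfsg.Agent.H16.M24g

/-! The elementary abelian subgroup of order `2 ^ 11` has no rival. -/

set_option autoImplicit false
set_option maxRecDepth 100000

namespace Cfsg.Agent.H17.JO1

open H27 Subgroup JM H16.J4G JS2
open H16 (ifB ifB_eq pk get_pk lbChain ptSet maskB2 pcS)
open H16.J4F (F g)
open H27.Tl (frc frc_eq)

instance : Finite F := finF
instance : Finite E := cardE.1

theorem cardE' : Nat.card E = 2048 := by
  have a := ((H16.cardLe_sup ⟨inferInstance, le_rfl⟩ cardN N_norm).mono H_le).2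
  have b := cardE.2
  rw [cardH] at a
  omega

theorem e_inj : H16.Inj e 2048 := fun i hi j hj h => by
  have s : Function.Surjective fun i : Fin 2048 => (⟨e i, e_mem i⟩ : E) := fun v => by
    obtain ⟨m, hm, a⟩ := e_surj v.2
    exact ⟨⟨m, hm⟩, Subtype.ext a.symm⟩
  exact congrArg Fin.val ((s.bijective_of_nat_card_le (by rw [cardE']; simp)).1 (a₁ := ⟨i, hi⟩) (a₂ := ⟨j, hj⟩) (Subtype.ext h))

theorem e_xor (a b : ℕ) : e (Nat.xor a b) = e a * e b := mv_xor ciE a b 11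
theorem e_inv (a : ℕ) : (e a)⁻¹ = e a := inv_eq_of_mul_eq_one_right (mv_sq ciE a 11)
theorem e_zero : e 0 = 1 := mv_zero _ _
theorem e_one : e 1 = hE 0 := mv_bit hE (i := 0) (by decide)

theorem col_lt (l i : ℕ) (hi : i < 11) : col l i < 2 ^ 11 := by
  by_cases hl : l < 3
  · exact (by decide +kernel : ∀ l < 3, ∀ i < 11, col l i < 2 ^ 11) l hl i hi
  · rw [col, ifB_eq, if_neg (mt Nat.blt_eq.mp hl)]
    exact Nat.pow_lt_pow_right (by decide) hi

theorem linW_lt {m : ℕ} (hm : m < 2048) : ∀ u, linW col 11 u m < 2048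
  | [] => hm
  | l :: u => (frc_eq (linW col 11 u m) fun a => lin (col l) a 11).trans_lt (lin_lt (k := 11) (col_lt l))

theorem cen {s : F} (h : ∀ v ∈ E, v * θ s = θ s * v) : s = 1 := by
  have := H16.J4F.simpleF
  have n : ((centralizer (E : Set Γ)).comap θ).Normal := ⟨fun n hn s v hv => by
    have := hn _ (conjE hv (inv_mem (θ_mem s)))
    simp only [map_mul, map_inv, inv_inv] at this ⊢
    calc v * (θ s * θ n * (θ s)⁻¹) = θ s * ((θ s)⁻¹ * v * θ s * θ n) * (θ s)⁻¹ := by group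
      _ = _ := by rw [this]; group⟩
  rcases n.eq_bot_or_eq_top with c | c
  · exact mem_bot.1 (c.le h)
  · have a := act [0] 1
    rw [← c.ge (mem_top _) _ (e_mem 1), mul_inv_cancel_right] at a
    exact absurd (e_inj _ (by decide) _ (linW_lt (by decide) _) a) (by decide +kernel)

theorem cj {a v : Γ} {s : F} (h : a * (θ s)⁻¹ ∈ E) (hv : v ∈ E) : a * v * a⁻¹ = θ s * v * (θ s)⁻¹ := by
  have := E_comm _ h _ (conjE hv (θ_mem s))
  calc a * v * a⁻¹ = a * (θ s)⁻¹ * (θ s * v * (θ s)⁻¹) * (a * (θ s)⁻¹)⁻¹ := by group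
    _ = _ := by rw [this, mul_inv_cancel_right]

theorem exπ : ∃ π : H →* F, ∀ h s, π h = s ↔ (h : Γ) * (θ s)⁻¹ ∈ E := by
  have a : ∀ h : H, ∃ s, (h : Γ) * (θ s)⁻¹ ∈ E := fun h => by
    have := H_le h.2
    rw [← SetLike.mem_coe, coe_mul_of_right_le_normalizer_left E _ N_norm] at this
    obtain ⟨v, hv, _, ⟨s, rfl⟩, c⟩ := this
    exact ⟨s, by rw [← c]; simpa using hv⟩
  choose p hp using a
  have b : ∀ h s, p h = s ↔ (h : Γ) * (θ s)⁻¹ ∈ E := fun h s => ⟨fun c => c ▸ hp h, fun c =>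
    mul_inv_eq_one.1 (cen fun v hv => E_comm _ hv _ (by simpa [mul_assoc] using mul_mem (inv_mem (hp h)) c))⟩
  refine ⟨MonoidHom.mk' p fun h k => (b _ _).2 ?_, b⟩
  simpa [mul_assoc] using mul_mem (conjE (hp k) h.2) (hp h)

/-- the quotient map -/
noncomputable def π : H →* F := exπ.choose
theorem π_iff (h : H) (s : F) : π h = s ↔ (h : Γ) * (θ s)⁻¹ ∈ E := exπ.choose_spec h s

/-- the group, with the action by conjugation -/
def Ω : Type := Γ
noncomputable instance : MulAction F Ω := MulAction.compHom Γ (MulAut.conj.comp θ)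

/-- the table of a word -/
noncomputable def tab (u : List ℕ) : ℕ :=
  frc (pk 11 11 fun i => linW col 11 u (2 ^ i)) fun c => pk 11 2048 fun m => lin (H16.get 11 c) m 11

theorem rep (u : List ℕ) : H16.Rep (Ω := Ω) e 2048 (ev g u) (H16.get 11 (tab u)) := fun m hm => by
  have a : ∀ i < 11, linW col 11 u (2 ^ i) < 2 ^ 11 := fun i hi => linW_lt (Nat.pow_lt_pow_right (n := 11) (by decide) hi) u
  rw [tab, frc_eq, get_pk (fun _ _ => lin_lt fun i _ => H16.get_lt ..) hm]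
  refine ⟨lin_lt (k := 11) fun i _ => H16.get_lt .., map_mv ciE (MulAut.conj (θ (ev g u))).toMonoidHom fun i hi => ?_⟩
  rw [get_pk a hi, ← mv_bit hE hi]
  exact act u _

theorem bnd {A : Subgroup F} {B : List ℕ} {W : List (List ℕ)} {k : ℕ} (h : forceL (W.map tab) (fun S =>
      band (H16.allL B fun b => Nat.blt b 2048) (Nat.ble 244823040 (Nat.mul (lbChain 11 2048 B S) k))) = true)
    (hf : ∀ a ∈ A, ∀ b ∈ B, θ a * e b * (θ a)⁻¹ = e b) : Nat.card A ≤ k := by
  rw [forceL_eq, band_true, Nat.ble_eq] at h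
  have a := LL.lbChain_mul_le' (Ω := Ω) (w := 11) e_inj B (fun b hb => by simpa using H16.allL_iff.1 h.1 b hb) ⊤
    (S := W.map tab) (fun p hp => by
      obtain ⟨u, -, rfl⟩ := List.mem_map.1 hp
      exact ⟨_, trivial, rep u⟩) A le_top hf
  rw [card_top, H16.J4F.cardF] at a
  have b : 244823040 ≤ lbChain 11 2048 B (W.map tab) * k := h.2
  exact Nat.le_of_mul_le_mul_left (a.trans b) (Nat.pos_of_ne_zero fun c => by rw [c] at b; omega)

/-- the fixed points of a word -/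
noncomputable def fx (u : List ℕ) : ℕ := frc (tab u) fun T => maskB2 32 64 fun m => Nat.beq (H16.get 11 T m) m

theorem core {D : Subgroup Γ} (hH : D ≤ H) (hc : Nat.card D = 2048) (cm : ∀ a ∈ D, ∀ b ∈ D, a * b = b * a)
    (hn : ∀ v ∈ E, ∀ a ∈ D, v * a * v⁻¹ ∈ D) {a : Γ} (ha : a ∈ D) {u : List ℕ} (hu : a * (θ (ev g u))⁻¹ ∈ E) :
    ∃ (A : Subgroup F) (W : Set Γ), Nat.card A * W.ncard = 2048 ∧ W ⊆ ptSet e 2048 (fx u) ∧
      (∀ m, e (Nat.xor (linW col 11 u m) m) ∈ W) ∧ ∀ s ∈ A, ∀ v ∈ W, θ s * v * (θ s)⁻¹ = v := by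
  let ρ : D →* F := π.comp (inclusion hH)
  have k : ∀ v, v ∈ ρ.ker.map D.subtype ↔ v ∈ D ∧ v ∈ E := fun v =>
    ⟨fun ⟨w, h1, h2⟩ => h2 ▸ ⟨w.2, by simpa using (π_iff _ _).1 h1⟩,
      fun h => ⟨⟨v, h.1⟩, (π_iff _ _).2 (by simpa using h.2), rfl⟩⟩
  have f : ∀ b ∈ D, ∀ s, b * (θ s)⁻¹ ∈ E → ∀ v ∈ ρ.ker.map D.subtype, θ s * v * (θ s)⁻¹ = v := fun b hb s hs v hv => by
    rw [← cj hs ((k v).1 hv).2, cm b hb v ((k v).1 hv).1, mul_inv_cancel_right]
  refine ⟨ρ.range, ρ.ker.map D.subtype, ?_, fun v hv => ?_, fun m => (k _).2 ⟨?_, e_mem _⟩, ?_⟩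
  · rw [← hc, ← ρ.ker.index_mul_card, index_ker, ← card_map_of_injective (K := ρ.ker) D.subtype_injective]; rfl
  · obtain ⟨m, hm, rfl⟩ := e_surj ((k v).1 hv).2
    refine ⟨m, hm, ?_, rfl⟩
    rw [fx, frc_eq, H16.testBit_maskB2, e_inj _ (rep u m hm).1 _ hm ((rep u m hm).2.symm.trans (f a ha _ hu _ hv))]
    simpa using hm
  · rw [e_xor, ← act, ← cj hu (e_mem m)]
    simpa [mul_assoc, e_inv] using mul_mem ha (hn _ (e_mem m) _ (inv_mem ha))
  · rintro _ ⟨b, rfl⟩
    exact f b b.2 _ ((π_iff (inclusion hH b) _).1 rfl)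

/-- an involution with fixed points -/
noncomputable def wa : List ℕ := unp 4 57 (nat_lit 0x201020202010101010101020101010202010101020201010101010101)
/-- an involution without fixed points -/
noncomputable def wb : List ℕ := unp 4 35 (nat_lit 0x20102020101020102010201020201010201)

theorem noA {A : Subgroup F} {W : Set Γ} (h1 : Nat.card A * W.ncard = 2048) (h2 : W ⊆ ptSet e 2048 (fx wa))
    (h3 : ∀ m, e (Nat.xor (linW col 11 wa m) m) ∈ W) (h4 : ∀ s ∈ A, ∀ v ∈ W, θ s * v * (θ s)⁻¹ = v) : False := by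
  have a : (ptSet e 2048 (fx wa)).ncard = 128 := (H16.ncard_ptSet e_inj _).trans (by decide +kernel)
  have b : Nat.card A ≤ 16 := bnd (B := [339, 514, 15, 1063]) (W := [[0],
      [1],
      unp 4 34 (nat_lit 0x201020202010102010101020101020101),
      unp 4 43 (nat_lit 0x1020201020101020202020202010101010102010101),
      unp 4 45 (nat_lit 0x102010102020202010101010102010101020202010101),
      unp 4 52 (nat_lit 0x1010201020202020201010202020101020102020201010201010)]) (by decide +kernel) fun s hs b hb => by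
    obtain ⟨m, -, rfl⟩ := (by decide +kernel : ∀ b ∈ [339, 514, 15, 1063], ∃ m ∈ [3, 35, 2, 17], Nat.xor (linW col 11 wa m) m = b) b hb
    exact h4 s hs _ (h3 m)
  have c := Set.eq_of_subset_of_ncard_le h2 (by nlinarith) (H16.ptSet_finite _)
  have d : Nat.card A ≤ 2 := bnd (B := [5, 97, 160]) (W := [[0],
      [1],
      unp 4 55 (nat_lit 0x202010201020102010202020201010101020202010102010101020),
      unp 4 56 (nat_lit 0x1020102020201010101020202010101020102010101020101020202),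
      unp 4 52 (nat_lit 0x102010101020201020102010102010101020101020202020101)]) (by decide +kernel) fun s hs b hb =>
    h4 s hs _ (c ▸ ⟨b, by revert b; decide, by revert b; decide +kernel, rfl⟩)
  rw [c, a] at h1
  omega

theorem noB {A : Subgroup F} {W : Set Γ} (h1 : Nat.card A * W.ncard = 2048) (h2 : W ⊆ ptSet e 2048 (fx wb))
    (h3 : ∀ m, e (Nat.xor (linW col 11 wb m) m) ∈ W) (h4 : ∀ s ∈ A, ∀ v ∈ W, θ s * v * (θ s)⁻¹ = v) : False := by
  have a : (ptSet e 2048 (fx wb)).ncard = 64 := (H16.ncard_ptSet e_inj _).trans (by decide +kernel)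
  have b : Nat.card A ≤ 8 := bnd (B := [87, 260, 139]) (W := [[0],
      [1],
      unp 4 37 (nat_lit 0x201010202020201010101020101020101010),
      unp 4 56 (nat_lit 0x20201020101010102010202020202020101010201010102020201010),
      unp 4 49 (nat_lit 0x2020102010201010102010102020101010202010101020101)]) (by decide +kernel) fun s hs b hb => by
    obtain ⟨m, -, rfl⟩ := (by decide +kernel : ∀ b ∈ [87, 260, 139], ∃ m ∈ [17, 51, 4], Nat.xor (linW col 11 wb m) m = b) b hb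
    exact h4 s hs _ (h3 m)
  have c := Set.ncard_le_ncard h2 (H16.ptSet_finite _)
  nlinarith

theorem cls {s : F} (h : orderOf s = 2) : ∃ c : F, c * s * c⁻¹ = ev g wa ∨ c * s * c⁻¹ = ev g wb := by
  obtain ⟨c, hc⟩ := H16.class2 (x := H16.J4F.iso s) (by rwa [MulEquiv.orderOf_eq])
  obtain ⟨c, rfl⟩ := H16.J4F.iso.surjective c
  have a : H16.J4F.iso (ev g wa) = H16.t2A :=
    (H16.J4F.rep_φ wa).M24_eq (H16.rep2A.congr (by decide +kernel))
  have b : H16.J4F.iso (ev g wb) = H16.t2B :=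
    (H16.J4F.rep_φ wb).M24_eq (H16.rep2B.congr (by decide +kernel))
  rw [← a, ← b, ← map_mul, ← map_mul, ← map_inv, ← map_mul, ← map_mul, EmbeddingLike.apply_eq_iff_eq,
    EmbeddingLike.apply_eq_iff_eq] at hc
  exact ⟨c⁻¹, hc.imp (fun h => by rw [h]; group) fun h => by rw [h]; group⟩

theorem uniq {D : Subgroup Γ} (hH : D ≤ H) (hc : Nat.card D = 2048) (cm : ∀ a ∈ D, ∀ b ∈ D, a * b = b * a)
    (hn : ∀ v ∈ E, ∀ a ∈ D, v * a * v⁻¹ ∈ D) (h2 : ∀ a ∈ D, a * a = 1) : D = E := by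
  refine eq_of_le_of_card_ge (fun a ha => by_contra fun c => ?_) (by rw [hc, cardE'])
  have : Fact (Nat.Prime 2) := ⟨by decide⟩
  obtain ⟨c, hc'⟩ := cls (s := π ⟨a, hH ha⟩) (orderOf_eq_prime (by
    rw [pow_two, ← map_mul, show (⟨a, hH ha⟩ : H) * ⟨a, hH ha⟩ = 1 from Subtype.ext (h2 a ha), map_one])
    fun h => c (by simpa using (π_iff _ _).1 h))
  have k := fun u => core (D := D.map (MulAut.conj (θ c)).toMonoidHom) (a := θ c * a * (θ c)⁻¹) (u := u)
    (by rintro _ ⟨b, hb, rfl⟩; exact mul_mem (mul_mem (θ_mem c) (hH hb)) (inv_mem (θ_mem c)))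
    (by rw [card_map_of_injective (MulEquiv.injective _), hc])
    (by rintro _ ⟨b, hb, rfl⟩ _ ⟨b', hb', rfl⟩; rw [← map_mul, cm b hb b' hb', map_mul])
    (by rintro v hv _ ⟨b, hb, rfl⟩
        exact ⟨_, hn _ (conjE hv (inv_mem (θ_mem c))) b hb, by simp [mul_assoc]⟩) ⟨a, ha, rfl⟩
  have m := conjE ((π_iff ⟨a, hH ha⟩ _).1 rfl) (θ_mem c)
  rcases hc' with h | h
  · obtain ⟨A, W, h1, h2, h3, h4⟩ := k wa (by simpa [← h, mul_assoc] using m)
    exact noA h1 h2 h3 h4
  · obtain ⟨A, W, h1, h2, h3, h4⟩ := k wb (by simpa [← h, mul_assoc] using m)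
    exact noB h1 h2 h3 h4

end Cfsg.Agent.H17.JO1
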