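import Cfsg.Agent.H27.JO1
import Cfsg.Agent.S2064

/-! Every automorphism is inner. -/

set_option autoImplicit false
set_option maxRecDepth 100000

namespace Cfsg.Agent.H17.JO2

open H27 Subgroup MulAction JM H16.J4G JS2 JO1
open H16 (ifB ifB_eq xs tb plv gmat dcs oW evM orN bit)
open H16.J4F (F g)
open H16.J4M (cX cY cYi cT)
open H27.Tl (frc frc_eq)
open scoped Pointwise Matrix

theorem mul_plv {n m a i : ℕ} {P : List ℕ} (hn : n ≤ 128) (hm : m ≤ n) (hP : P.length ≤ m) (j : Fin n) :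
    (gmat n a *ᵥ plv n P i) j = if (xs m fun k => ifB (tb a (Nat.add (Nat.mul 128 k) j)) (nth 0 P k) 0).testBit i = true
      then 1 else 0 := by
  rw [H16.xs_bit]
  have : ∀ k : Fin n, gmat n a j k * plv n P i k = (fun k : ℕ => if (ifB (tb a (Nat.add (Nat.mul 128 k) j))
      (nth 0 P k) 0).testBit i = true then (1 : ZMod 2) else 0) k := fun k => by
    have e2 : gmat n a j k = if a.testBit (128 * k + j) = true then 1 else 0 := by
      change ((H16.get 1 (H16.get 128 a k) j : ℕ) : ZMod 2) = _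
      rw [H16.get_eq, one_mul, pow_one, Nat.shiftRight_eq_div_pow, ← Nat.toNat_testBit, H16.testBit_get,
        decide_eq_true (show (j : ℕ) < 128 by omega), Bool.true_and]
      cases a.testBit (128 * k + j) <;> simp
    rw [e2, plv]
    beta_reduce
    rw [ifB_eq, H16.tb_eq]
    change _ = if (if a.testBit (128 * k + j) = true then _ else 0).testBit i = true then (1 : ZMod 2) else 0
    cases a.testBit (128 * k + j) <;> simp
  rw [Matrix.mulVec, dotProduct, Finset.sum_congr rfl fun k _ => this k]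
  refine (Fin.sum_univ_eq_sum_range (fun k : ℕ => if (ifB (tb a (Nat.add (Nat.mul 128 k) j))
      (nth 0 P k) 0).testBit i = true then (1 : ZMod 2) else 0) n).trans
    (Finset.sum_subset (Finset.range_mono hm) fun k _ hk => ?_).symm
  rw [nth_of_ge _ (hP.trans (by simpa using hk)), ifB_eq]
  simp

/-- the labels that are moved -/
noncomputable def mvd (a : ℕ) : ℕ := frc a fun a => orN 56 fun j =>
  Nat.xor (xs 56 fun k => ifB (tb a (Nat.add (Nat.mul 128 k) j)) (nth 0 H16.J4T1.P k) 0) (nth 0 H16.J4T1.P j)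

theorem mvd_fix {a i : ℕ} {s : Γ} (r : MG.R a s) (h : s • plv 112 H16.J4T1.P i = plv 112 H16.J4T1.P i) :
    (mvd a).testBit i = false := by
  rw [mvd, frc_eq, ← Bool.not_eq_true, H16.testBit_orN]
  rintro ⟨j, hj, c⟩
  have := congrFun h ⟨j, by omega⟩
  rw [MG_mat r, mul_plv (m := 56) (by decide) (by decide) le_rfl, plv] at this
  rw [show ∀ a b : ℕ, (Nat.xor a b).testBit i = _ from fun a b => Nat.testBit_xor a b i] at c
  revert this c
  generalize Nat.testBit (xs 56 _) i = p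
  generalize Nat.testBit (nth 0 H16.J4T1.P j) i = q
  revert p q; decide

/-- words for elements that commute with `t` -/
noncomputable def K : List (List ℕ) := [unp 4 49 (nat_lit 0x2010102010102020201020102020201010202020201020201),
  unp 4 35 (nat_lit 0x1010201020102010102010101010102010),
  unp 4 46 (nat_lit 0x102020202010202010101020201010101020202020102)]
/-- the elements -/
noncomputable def k (j : ℕ) : Γ := θ (ev g (nth [] K j))
theorem rk (j : ℕ) : MG.R (evM oW S3 (nth [] K j)) (k j) := by rw [k, θ_ev]; exact H16.Mdl.R_ev r3 _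
theorem K3 (j : ℕ) (h : 3 ≤ j) : nth [] K j = [] := nth_of_ge _ h
theorem kt (j : ℕ) : k j * t = t * k j := by
  by_cases hj : j < 3
  · exact mul_inv_eq_iff_eq_mul.1 (H16.Mdl.cjM_spec (rk j) rt rt ((frc_eq _ fun a => H16.cjM oW a cT cT).symm.trans
      (H16.allB_spec (n := 3) (f := fun j => frc (evM oW S3 (nth [] K j)) fun a => H16.cjM oW a cT cT) (by decide +kernel) j hj)))
  · simp [k, K3 j (by omega)]

theorem fixP {i : ℕ} (hi : i < 15180) (h : ∀ j, k j • plv 112 H16.J4T1.P i = plv 112 H16.J4T1.P i) : i = 0 ∨ i = 5342 := by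
  have a : (mvd (evM oW S3 (nth [] K 0)) ||| mvd (evM oW S3 (nth [] K 1)) ||| mvd (evM oW S3 (nth [] K 2)) ||| bit 0 |||
      bit 5342).testBit i = true := by
    rw [Nat.eq_of_beq_eq_true (by decide +kernel : Nat.beq (mvd (evM oW S3 (nth [] K 0)) ||| mvd (evM oW S3 (nth [] K 1)) |||
      mvd (evM oW S3 (nth [] K 2)) ||| bit 0 ||| bit 5342) (ones 15180) = true), testBit_ones]
    exact decide_eq_true hi
  rwa [Nat.testBit_or, Nat.testBit_or, Nat.testBit_or, Nat.testBit_or, mvd_fix (rk 0) (h 0), mvd_fix (rk 1) (h 1),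
    mvd_fix (rk 2) (h 2), Bool.false_or, Bool.false_or, Bool.false_or, Bool.or_eq_true, H16.testBit_bit, H16.testBit_bit] at a

theorem cenK {h : Γ} (hh : h ∈ H) (c : ∀ j, k j * h = h * k j) : h = 1 := by
  have kc : ∀ j, k j ∈ centralizer {h} := fun j => mem_centralizer_singleton_iff.2 (c j)
  obtain ⟨m, hm, a⟩ := e_surj (conjE (e_mem 1842) hh)
  have f : ∀ j < 2, linW col 11 (nth [] K j) m = m := fun j hj => e_inj _ (linW_lt hm _) _ hm (by
    have b := act (nth [] K j) 1842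
    rw [(by decide +kernel : ∀ j < 2, linW col 11 (nth [] K j) 1842 = 1842) j hj] at b
    rw [← act, ← a]
    conv_rhs => rw [← b]
    change k j * _ * (k j)⁻¹ = h * (k j * _ * (k j)⁻¹) * _
    calc _ = k j * h * e 1842 * (k j * h)⁻¹ := by group
      _ = _ := by rw [c]; group)
  have := H16.allB_spec (n := 2048) (f := fun m => ifB (Nat.beq (linW col 11 (nth [] K 0) m) m)
    (ifB (Nat.beq (linW col 11 (nth [] K 1) m) m) (Nat.beq m 0 || Nat.beq m 1842) true) true) (by decide +kernel) m hm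
  rw [f 0 (by decide), f 1 (by decide), Nat.beq_refl, ifB_eq, ifB_eq] at this
  obtain rfl | rfl : m = 0 ∨ m = 1842 := by simpa using this
  · rw [e_zero, mul_inv_eq_one, mul_eq_left, ← e_zero] at a
    exact absurd (e_inj _ (by decide) _ (by decide) a) (by decide)
  let W : ℕ → List ℕ := nth [] [[], [2], [0, 2], [1, 2], [2, 2], [0, 0, 2], [1, 0, 2], [2, 0, 2], [0, 1, 2], [1, 0, 0, 2],
    [2, 0, 0, 2]]
  have l : E ≤ centralizer {h} := E_le_of fun i hi => by
    have := lin_mem ciE (K := centralizer {h}) (col := fun j => linW col 11 (substW K (W j)) 1842) (n' := 11) (n := 11)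
      (m := nth 0 [1743, 1358, 1109, 2036, 1882, 839, 1730, 2026, 1679, 489, 1588] i) fun j _ => by
        have b : θ (ev g (substW K (W j))) ∈ centralizer {h} := by
          rw [← ev_sub, map_ev' θ (g := sub K g) (h := k) fun _ => rfl]
          exact ev_mem fun j _ => kc j
        exact (act _ _).subst (motive := (· ∈ centralizer {h})) <| mul_mem (mul_mem b (mem_centralizer_singleton_iff.2 (mul_inv_eq_iff_eq_mul.1 a).symm)) (inv_mem b)
    rwa [(by decide +kernel : ∀ i < 11, lin (fun j => linW col 11 (substW K (W j)) 1842)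
      (nth 0 [1743, 1358, 1109, 2036, 1882, 839, 1730, 2026, 1679, 489, 1588] i) 11 = 2 ^ i) i hi, mv_bit hE hi] at this
  have p := (π_iff ⟨h, hh⟩ _).1 rfl
  rw [show π ⟨h, hh⟩ = 1 from cen fun v hv => by
    have := cj p hv
    rw [← mem_centralizer_singleton_iff.1 (l hv), mul_inv_cancel_right, eq_mul_inv_iff_mul_eq] at this
    exact this, map_one, inv_one, mul_one] at p
  obtain ⟨m, hm, rfl⟩ := e_surj p
  have f : ∀ j, linW col 11 (nth [] K j) m = m := fun j => e_inj _ (linW_lt hm _) _ hm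
    ((act _ _).symm.trans (mul_inv_eq_iff_eq_mul.2 (c j)))
  have := H16.allB_spec (n := 2048) (f := fun m => ifB (Nat.beq (linW col 11 (nth [] K 0) m) m)
    (ifB (Nat.beq (linW col 11 (nth [] K 1) m) m) (ifB (Nat.beq (linW col 11 (nth [] K 2) m) m) (Nat.beq m 0) true) true) true)
    (by decide +kernel) m hm
  simp only [f, Nat.beq_refl, ifB_eq, if_true, Nat.beq_eq] at this
  rw [this, e_zero]

theorem t_not : t • H16.wv 1 ≠ H16.wv 1 := fun c => by
  have a := MG_smul rt (v := 1) (by norm_num)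
  exact absurd (H16.wv_crd.inj _ _ a.1 (by norm_num) (a.2.symm.trans c)) (by decide +kernel)

theorem stab {a : Γ} (h : a • H16.wv 1 = H16.wv 1) : a ∈ H :=
  (H_max _ H_fix).elim (fun c => c.le h) fun c => absurd (c.ge (mem_top t)) t_not

theorem dc1 {β : MulAut Γ} (hβ : H.map β.toMonoidHom = H) : β t ∈ dcs H t := by
  obtain ⟨j, h1, m1, h2, m2, c⟩ := cover (β t)
  have f := dcs_le 1
  have a : dcs H (hG j) ⊆ β '' dcs H t := by
    rintro _ ⟨u, hu, v, hv, rfl⟩
    obtain ⟨u', hu', e1⟩ := hβ.ge (mul_mem hu (inv_mem m1))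
    obtain ⟨v', hv', e2⟩ := hβ.ge (mul_mem (inv_mem m2) hv)
    refine ⟨_, ⟨u', hu', v', hv', rfl⟩, ?_⟩
    rw [map_mul, map_mul, c, show β u' = _ from e1, show β v' = _ from e2]; group
  have b := (Set.ncard_le_ncard a (f.1.image _)).trans ((Set.ncard_image_le f.1).trans f.2)
  have d := H16.ncard_cover (fun j : Fin 7 => dcs H (hG j)) _ dcs_le (Finset.univ.erase j)
  have e1 : (Set.univ : Set Γ) ⊆ dcs H (hG j) ∪ ⋃ i ∈ Finset.univ.erase j, dcs H (hG i) := fun w _ => by
    obtain ⟨i, hi⟩ := cover w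
    by_cases e : i = j
    · exact .inl (e ▸ hi)
    · exact .inr (Set.mem_biUnion (Finset.mem_erase.2 ⟨e, Finset.mem_univ _⟩) hi)
  have e2 := ((Set.ncard_le_ncard e1).trans (Set.ncard_union_le _ _)).trans (Nat.add_le_add b d.2)
  rw [Set.ncard_univ, cardΓ] at e2
  obtain rfl | rfl := (by decide +kernel : ∀ j : Fin 7, 86775571046077562880 ≤ nn 1 * 501397585920 +
    ∑ i ∈ Finset.univ.erase j, nn i * 501397585920 → j = 0 ∨ j = 1) j e2
  · obtain ⟨u, hu, e3⟩ : β t ∈ H.map β.toMonoidHom := hβ.symm ▸ c ▸ mul_mem (mul_mem m1 (one_mem _)) m2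
    exact absurd (H_fix (β.injective e3 ▸ hu)) t_not
  · exact ⟨h1, m1, h2, m2, c⟩

/-- the cocycle -/
noncomputable def cz (v : ℕ) (u : List ℕ) : ℕ :=
  List.rec 0 (fun l _ a => frc a fun a => Nat.xor (ifB (Nat.beq l 0) v 0) (lin (col l) a 11)) u

theorem evc {β : MulAut Γ} {v : ℕ} (hE : ∀ w ∈ E, β w = w) (hx : β x = e v * x) (hy : β y = y) :
    ∀ u, β (ev h3 u) = e (cz v u) * ev h3 u
  | [] => by simp [cz, e_zero]
  | l :: u => by
    have a : β (h3 l) = e (ifB (Nat.beq l 0) v 0) * h3 l := by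
      simp only [ifB_eq, Nat.beq_eq, h3, H16.J4F.lt2]
      split_ifs
      exacts [hx, by rw [hy, e_zero, one_mul], by rw [map_inv, hy, e_zero, one_mul], by rw [map_one, e_zero, one_mul]]
    have b : h3 l * e (cz v u) * (h3 l)⁻¹ = e (lin (col l) (cz v u) 11) := map_mv ciE (MulAut.conj (h3 l)).toMonoidHom (act1 l)
    rw [ev_cons, map_mul, evc hE hx hy u, a, show cz v (l :: u) = frc (cz v u) fun a =>
      Nat.xor (ifB (Nat.beq l 0) v 0) (lin (col l) a 11) from rfl, frc_eq, e_xor, ← b]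
    group

theorem e_ev (u : List ℕ) : MG.R (evM oW CE u) (e (wm u)) := by
  rw [e, ← ev_wm ciE hE_triv]; exact H16.Mdl.R_ev rE u

/-- a word for an element of the stabiliser of a point -/
noncomputable def w0 : List ℕ := unp 4 45 (nat_lit 0x102010101020201010101010202020202010102010102)

theorem fin {β : MulAut Γ} {v : ℕ} (hv : v = 0 ∨ v = 1119) (hE : ∀ w ∈ E, β w = w) (hx : β x = e v * x) (hy : β y = y) :
    β = 1 := by
  have ev0 : ∀ u, cz v u = 0 → β (θ (ev g u)) = θ (ev g u) := fun u h => by rw [θ_ev, evc hE hx hy, h, e_zero, one_mul]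
  have hH : H.map β.toMonoidHom = H := eq_of_le_of_card_ge (by
    rintro _ ⟨h, hh, rfl⟩
    obtain ⟨u, hu⟩ := H16.J4F.pres.surj (π ⟨h, hh⟩)
    have p := (π_iff _ _).1 hu.symm
    rw [← inv_mul_cancel_right h (θ (ev g u))]
    change β _ ∈ _
    rw [map_mul, hE _ p, θ_ev, evc hE hx hy, ← θ_ev]
    exact mul_mem (E_le p) (mul_mem (E_le (e_mem _)) (θ_mem _))) (card_map_of_injective β.injective).ge
  have bk : ∀ j, β (k j) = k j := fun j => ev0 _ (by
    by_cases hj : j < 3
    · rcases hv with rfl | rfl <;> revert j <;> decide +kernel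
    · rw [K3 j (by omega)]; rfl)
  have c : ∀ j, k j * β t = β t * k j := fun j => by rw [← bk, ← map_mul, kt, map_mul]
  obtain ⟨h1, m1, h2, m2, d⟩ := dc1 hH
  obtain ⟨φ, hr, e1, -⟩ := ex1
  have l : β t • H16.wv 1 = plv 112 H16.J4T1.P (φ ⟨h1, m1⟩ 0) := by
    rw [d, mul_smul, mul_smul, H_fix m2, ← lab0, ← e1 _ 0 (by decide)]; rfl
  have bt : β t = t := by
    rcases fixP (i := φ ⟨h1, m1⟩ 0) (by
        obtain ⟨u, hu⟩ := gensH.surj ⟨h1, m1⟩
        rw [← hu, hr.map_ev]
        exact H16.J4T1.good.ev_lt' u (by decide))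
      (fun j => by rw [← l, ← mul_smul, c, mul_smul, show k j • _ = _ from H_fix (θ_mem _)]) with i | i <;> rw [i] at l
    · refine (inv_mul_eq_one.1 (cenK (stab (by rw [mul_smul, l, lab0, inv_smul_smul])) fun j => ?_)).symm
      rw [mul_assoc, ← c, ← mul_assoc, ← mul_assoc, t_inv, kt]
    · have r0 := e_ev [0]
      have ru := e_ev [4, 6, 7]
      have a : plv 112 H16.J4T1.P 5342 = (e (wm [0]) * t) • H16.wv 1 :=
        (H16.plv_eq (by decide +kernel)).trans (MG_smul (MG.R_mul r0 rt) (by norm_num)).2.symm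
      have m : (e (wm [0]) * t)⁻¹ * β t ∈ H := stab (by rw [mul_smul, l, a, inv_smul_smul])
      have r : t * (e (wm [4, 6, 7]) * t) = e (wm [4, 6, 7]) * (1 * θ (ev g w0)) :=
        MG.eq_of (H16.Mdl.R_m3 rt ru rt) (H16.Mdl.R_m3 ru MG.R_one ((θ_ev _).symm ▸ H16.Mdl.R_ev r3 w0)) (by decide +kernel)
      have s := congrArg β r
      rw [map_mul β (e _), one_mul, ev0 w0 (by rcases hv with rfl | rfl <;> decide +kernel), hE _ (e_mem _),
        ← one_mul (θ _), ← r, map_mul, map_mul, hE _ (e_mem _)] at s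
      have z := conjE (e_mem (wm [4, 6, 7])) m
      rw [show ∀ a b u : Γ, a⁻¹ * b * u * (a⁻¹ * b)⁻¹ = a⁻¹ * (b * (u * b⁻¹)) * a from fun _ _ _ => by group,
        ← map_inv, t_inv, s, mul_inv_rev, t_inv, e_inv] at z
      obtain ⟨n, -, hn⟩ := e_surj (mul_mem z (e_mem (wm [0])))
      have q := MG.R_mul (MG.R_mul (MG.R_mul (MG.R_mul rt r0) (H16.Mdl.R_m3 rt ru rt)) (MG.R_mul r0 rt)) r0
      refine absurd ?_ (MG_ne (H16.Mdl.R_pow q 2) (v := 4) (by norm_num) (by decide +kernel))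
      rw [hn, pow_two]
      exact mv_sq ciE n 11
  rcases hv with rfl | rfl
  · rw [e_zero, one_mul] at hx
    ext1 a
    obtain ⟨u, rfl⟩ := surj4 a
    exact map_ev' β.toMonoidHom (h4_cases (P := fun a => β a = a) (map_one β) hx bt hy (by rw [map_inv, hy])) u
  · have a : x * t = t * x := mul_inv_eq_iff_eq_mul.1 (H16.Mdl.cjM_spec rx rt rt (by decide +kernel))
    have b := congrArg β a
    rw [map_mul, map_mul, bt, hx, mul_assoc, a, ← mul_assoc, ← mul_assoc, mul_left_inj,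
      (by decide +kernel : 1119 = wm [0, 1, 2, 3, 4, 6, 10])] at b
    refine absurd ?_ (MG_ne (H16.Mdl.R_pow (MG.R_mul (e_ev [0, 1, 2, 3, 4, 6, 10]) rt) 2) (v := 2) (by norm_num)
      (by decide +kernel))
    rw [(show Commute _ _ from b).mul_pow, pow_two, pow_two, mul_eq_one_iff_eq_inv.2 t_inv.symm,
      mul_eq_one_iff_eq_inv.2 (e_inv _).symm, mul_one]

/-- the automorphism is inner -/
def P (α : MulAut Γ) : Prop := ∃ u, MulAut.conj u * α = 1

theorem P.of {α : MulAut Γ} (u : Γ) (h : P (MulAut.conj u * α)) : P α :=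
  let ⟨v, hv⟩ := h; ⟨v * u, by rw [map_mul, mul_assoc, hv]⟩

theorem stepD {β : MulAut Γ} (hE : ∀ w ∈ E, β w = w) (hx : β x * x⁻¹ ∈ E) (hy : β y = y) : P β := by
  obtain ⟨v, hv, a⟩ := e_surj hx
  rw [mul_inv_eq_iff_eq_mul] at a
  have ax : ∀ m, x * e m * x⁻¹ = e (lin (col 0) m 11) := fun m => map_mv ciE (MulAut.conj x).toMonoidHom (act1 0)
  have ay : ∀ m, y * e m * y⁻¹ = e (lin (col 1) m 11) := fun m => map_mv ciE (MulAut.conj y).toMonoidHom (act1 1)
  have b : lin (col 0) v 11 = v := e_inj _ (lin_lt (k := 11) (col_lt 0)) _ hv (by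
    have := congrArg β x_inv
    rw [map_inv, a, mul_inv_rev, e_inv] at this
    rw [← ax, ← x_inv, inv_inv, this, mul_assoc, mul_eq_one_iff_eq_inv.2 x_inv.symm, mul_one])
  have := H16.allB_spec (n := 2048) (f := fun v => ifB (Nat.beq (lin (col 0) v 11) v) ([0, 1, 14, 15, 118, 119, 120, 121, 166, 167, 168, 169, 208, 209, 222, 223, 816, 817, 830, 831, 838, 839, 840, 841, 918, 919, 920, 921, 992, 993, 1006, 1007].any fun c =>
    Nat.beq (lin (col 1) c 11) c && frc (Nat.xor (Nat.xor c v) (lin (col 0) c 11)) fun z => Nat.beq z 0 || Nat.beq z 1119) true)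
    (by decide +kernel) v hv
  rw [b, Nat.beq_refl, ifB_eq, if_pos rfl, List.any_eq_true] at this
  obtain ⟨c, -, h⟩ := this
  simp only [frc_eq, Bool.and_eq_true, Bool.or_eq_true, Nat.beq_eq] at h
  refine ⟨e c, fin h.2 (fun w hw => ?_) ?_ ?_⟩ <;> simp only [MulAut.mul_apply, MulAut.conj_apply]
  · rw [hE w hw, E_comm _ (e_mem c) w hw, mul_inv_cancel_right]
  · rw [a, e_xor, e_xor, ← ax, e_inv]; group
  · rw [hy, mul_inv_eq_iff_eq_mul, mul_inv_eq_iff_eq_mul.1 (ay c), h.1]

theorem stepC {β : MulAut Γ} (h1 : ∀ w ∈ E, β w ∈ E) (h2 : ∀ s, β (θ s) * (θ s)⁻¹ ∈ E) : P β := by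
  have h0 : β (hE 0) = hE 0 := by
    obtain ⟨m, hm, a⟩ := e_surj (h1 _ (hE_mem 0))
    have f : ∀ u, linW col 11 u 1 = 1 → linW col 11 u m = m := fun u hu => e_inj _ (linW_lt hm _) _ hm (by
      have := congrArg β (act u 1)
      rwa [hu, e_one, map_mul, map_mul, map_inv, a, cj (h2 _) (e_mem m), act] at this)
    have := H16.allB_spec (n := 2048) (f := fun m => ifB (Nat.beq (linW col 11 [1] m) m)
      (ifB (Nat.beq (linW col 11 [0, 2, 0, 2, 0, 2, 0, 1, 0, 1, 0, 2, 0, 2, 0, 1, 0, 1, 0, 1, 0] m) m)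
        (ifB (Nat.beq (linW col 11 [0, 1, 0, 2, 0, 2, 0, 2, 0, 1, 0, 2, 0, 1, 0, 1, 0, 1, 0, 2, 0] m) m)
          (Nat.beq m 0 || Nat.beq m 1) true) true) true) (by decide +kernel) m hm
    rw [f _ (by decide +kernel), f _ (by decide +kernel), f _ (by decide +kernel)] at this
    obtain rfl | rfl : m = 0 ∨ m = 1 := by simpa [ifB_eq] using this
    · rw [e_zero, EmbeddingLike.map_eq_one_iff, ← e_one, ← e_zero] at a
      exact absurd (e_inj _ (by decide) _ (by decide) a) (by decide)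
    · rw [a, e_one]
  have hE' : ∀ w ∈ E, β w = w := fun w hw => E_le_of (K := β.toMonoidHom.eqLocus (MonoidHom.id Γ)) (fun i hi => by
    obtain ⟨s, hs⟩ := conj0 i hi
    change β _ = _
    rw [← hs, map_mul, map_mul, map_inv, h0, cj (h2 s) (hE_mem 0)]; rfl) hw
  have sq : ∀ w ∈ E, w⁻¹ = w := fun w hw => let ⟨m, _, a⟩ := e_surj hw; a ▸ e_inv m
  have a : β y * y⁻¹ ∈ E := (θ_let 1 ▸ h2 (g 1) : β (h3 1) * (h3 1)⁻¹ ∈ E)
  have b := conjE a y_mem
  have c := conjE b y_mem
  refine .of (y * (β y * y⁻¹) * y⁻¹) (stepD (fun w hw => ?_) ?_ ?_) <;> simp only [MulAut.mul_apply, MulAut.conj_apply]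
  · rw [hE' w hw, E_comm _ b w hw, mul_inv_cancel_right]
  · have a : β x * x⁻¹ ∈ E := (θ_let 0 ▸ h2 (g 0) : β (h3 0) * (h3 0)⁻¹ ∈ E)
    simpa only [mul_assoc, inv_mul_cancel_left] using mul_mem (mul_mem b a) (conjE (inv_mem b) x_mem)
  · have d := congrArg β yyy
    rw [map_mul, map_mul, map_one] at d
    have f : y * (β y * y⁻¹) * y⁻¹ * (β y * y⁻¹) * (y * (y * (β y * y⁻¹) * y⁻¹) * y⁻¹) = 1 := by
      rw [← E_comm _ a _ b]
      calc _ = β y * β y * β y * (y * y * y)⁻¹ := by group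
        _ = 1 := by rw [d, yyy, inv_one, mul_one]
    generalize y * (β y * y⁻¹) * y⁻¹ = w at b c f
    calc _ = w * (β y * y⁻¹) * (y * w * y⁻¹)⁻¹ * y := by group
      _ = y := by rw [sq _ c, f, one_mul]

theorem stepB {β : MulAut Γ} (h : E.map β.toMonoidHom = E) : P β := by
  have n : ∀ a ∈ H, β a ∈ H := fun a ha => ((H_max _ H_norm).resolve_right fun c => by
      have := cardE'
      rw [H16.J4G.core E (normalizer_eq_top_iff.1 c) E_le, card_bot] at this
      omega).le (mem_normalizer_fintype fun v hv => by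
    obtain ⟨w, hw, rfl⟩ := h.ge hv
    exact h.le ⟨_, conjE hw ha, by simp⟩)
  let γ : F →* F := π.comp ((β.toMonoidHom.comp θ).codRestrict H fun s => n _ (θ_mem s))
  have i : Function.Injective γ := (injective_iff_map_eq_one γ).2 fun s hs => by
    obtain ⟨w, hw, a⟩ := h.ge (show β (θ s) ∈ E by simpa using (π_iff _ _).1 hs)
    exact cen fun v hv => E_comm _ hv _ (β.injective a ▸ hw)
  obtain ⟨c, hc⟩ : MulEquiv.ofBijective γ i.bijective_of_finite ∈ Inn F :=
    (index_eq_one.1 ((H16.card_out_congr H16.J4F.iso).trans S2064.result)).ge (mem_top _)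
  refine .of (θ c)⁻¹ (stepC (fun w hw => conjE (h.le ⟨w, hw, rfl⟩) (inv_mem (θ_mem c))) fun s => ?_)
  have := conjE ((π_iff _ _).1 (DFunLike.congr_fun hc s).symm) (inv_mem (θ_mem c))
  simpa [mul_assoc] using this

theorem all (α : MulAut Γ) : P α := by
  have : Fact (Nat.Prime 2) := ⟨by decide⟩
  obtain ⟨Q, hQ⟩ := ((IsPGroup.of_card (p := 2) (n := 11) cardE').comap_subtype (K := H)).exists_le_sylow
  let S : Sylow 2 Γ := (Q.isPGroup'.map H.subtype).toSylow (by
    have := H.index_mul_card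
    rw [cardH, cardΓ] at this
    rw [index_map_subtype, Nat.prime_two.dvd_mul, not_or]
    exact ⟨Q.not_dvd_index, by omega⟩)
  have s1 : E ≤ S := fun v hv => ⟨⟨v, E_le hv⟩, hQ hv, rfl⟩
  have s2 : (S : Subgroup Γ) ≤ H := map_subtype_le _
  obtain ⟨u, hu⟩ := exists_smul_eq Γ (S.mapSurjective (f := α.toMonoidHom) α.surjective) S
  have s3 : (S : Subgroup Γ).map (MulAut.conj u * α).toMonoidHom = S := by
    have := congrArg (fun P : Sylow 2 Γ => (P : Subgroup Γ)) hu
    exact (map_map _ (MulAut.conj u).toMonoidHom α.toMonoidHom).symm.trans this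
  refine .of u (stepB ?_)
  generalize MulAut.conj u * α = β at s3
  refine uniq (((map_mono s1).trans s3.le).trans s2) (by rw [card_map_of_injective β.injective, cardE']) ?_ ?_ ?_
  · rintro _ ⟨a, ha, rfl⟩ _ ⟨b, hb, rfl⟩
    rw [← map_mul, E_comm a ha b hb, map_mul]
  · rintro v hv _ ⟨a, ha, rfl⟩
    obtain ⟨w, hw, rfl⟩ := s3.ge (s1 hv)
    exact ⟨_, conjE ha (s2 hw), by simp⟩
  · rintro _ ⟨a, ha, rfl⟩
    obtain ⟨m, -, rfl⟩ := e_surj ha
    rw [← map_mul, show e m * e m = 1 from mv_sq ciE m 11, map_one]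

theorem out : Nat.card (Out JA2.G) = 1 :=
  (H16.card_out_congr JB3.iso).trans (index_eq_one.2 (eq_top_iff.2 fun α _ =>
    let ⟨u, h⟩ := all α; ⟨u⁻¹, by rw [map_inv]; exact inv_eq_of_mul_eq_one_right h⟩))

end Cfsg.Agent.H17.JO2
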