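import Cfsg.Agent.H27.JB3
import Cfsg.Agent.H27.Schur

/-! The odd part of the Schur multiplier is trivial. -/

set_option autoImplicit false
set_option maxRecDepth 100000

namespace Cfsg.Agent.H17.JS1

open H27 H27.DC Subgroup JA1 JA2

theorem closedF {r : ℕ} (hr : r.Prime) : ClosedAt r H :=
  closedAt_of_hasSchur (hasSchur_congr S2038.result H16.J4F.iso.symm) (by simpa using hr.one_lt.ne')

/-- the normal forms agree -/
noncomputable def sameB (u v : List ℕ) : Bool :=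
  comp C (nth 0 [2, 1, 4, 6]) (fun A r => comp C (nth 0 [2, 1, 4, 6]) (fun A' r' => band (weq A A') (C.eqB r r')) v [] []) u [] []

theorem odd {r : ℕ} (hr : r.Prime) (h2 : r ≠ 2) : ClosedAt r G := closedAt_of hr fun Γ _ _ σ hσ _ hz => by
  obtain ⟨κ, hκ⟩ := exists_lift_of_closed H16.J4F.perfect hσ.1 hσ.2.1 (fun r hr _ => closedF hr) ι
  have hκ : ∀ k, σ (κ k) = ι k := DFunLike.congr_fun hκ
  obtain ⟨m, rfl⟩ := hr.odd_of_ne_two h2
  have sq : ∀ c, σ c = 1 → c * c = 1 → c = 1 := fun c h1 h2 => by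
    simpa [pow_succ, pow_mul, pow_two, h2] using hz c h1
  have f2 : f 1 * f 1 = 1 := T0 ▸ tt
  obtain ⟨t0, ht0⟩ := hσ.1 (f 1)
  obtain ⟨t, ht, t2⟩ : ∃ t, σ t = f 1 ∧ t * t = 1 :=
    ⟨t0 ^ (2 * m + 1), by simp [ht0, pow_succ, pow_mul, f2], by
      rw [← (Commute.refl t0).mul_pow]; exact hz _ (by rw [map_mul, ht0, f2])⟩
  obtain ⟨T, T0, hT⟩ := exists_T κ (t := t) (ω := pt 0) fun a ha => by
    have k : κ a * t * (κ a)⁻¹ * t⁻¹ ∈ σ.ker := by simp [hκ, ht, comm_t a ha]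
    have c := mem_center_iff.1 (hσ.2.1 k)
    have := sq _ k (by
      generalize he : κ a * t * (κ a)⁻¹ * t⁻¹ = e at c
      have e1 : e * t * (e * t) = 1 := by
        rw [← he, inv_mul_cancel_right, ← pow_two, conj_pow, pow_two, t2, mul_one, mul_inv_cancel]
      rwa [mul_assoc, ← mul_assoc t, c t, mul_assoc e t, t2, mul_one] at e1)
    rwa [mul_inv_eq_one, mul_inv_eq_iff_eq_mul] at this
  let F : ℕ → Γ := nth 1 [κ (g 1), t, κ (g 2), κ (g 3)]
  have tr : ∀ l, 4 ≤ l → F l = 1 := fun l hl => nth_of_ge _ hl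
  have hm : Lets g pt κ T (nth 0 [2, 1, 4, 6]) F := lets_of tr fun a ha => by
    change a < 4 at ha
    interval_cases a
    exacts [.inl ⟨1, by decide, by decide, rfl, rfl⟩, .inr ⟨0, rfl, T0.symm⟩,
      .inl ⟨2, by decide, by decide, rfl, rfl⟩, .inl ⟨3, by decide, by decide, rfl, rfl⟩]
  have same : ∀ u v, sameB u v = true → ev F u = ev F v := fun u v h => by
    obtain ⟨A, r, h1, e1⟩ := comp_sound ok hT hm _ _ _ h
    obtain ⟨A', r', h2, e2⟩ := comp_sound ok hT hm _ _ _ h1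
    rw [band_true] at h2
    rw [eq_of_weq h2.1, ok.eqB h2.2, ← e2] at e1
    exact mul_left_cancel e1
  have tt : ev F [1, 1] = 1 := (congrArg (t * ·) (mul_one t)).trans t2
  have sF : ∀ l, σ (F l) = f l := fun l => by
    by_cases hl : l < 4
    · interval_cases l
      exacts [(hκ _).trans ι_g.1, ht, (hκ _).trans ι_g.2.1, (hκ _).trans ι_g.2.2]
    · rw [tr l (by omega), map_one, pres.triv l (by omega)]
  have I : Inv 2 F := inv_of_sat (nc := 4) rfl (by decide) tr fun u hu =>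
    ((by decide +kernel : ∀ u ∈ invWords 2 4, sameB u [] = true ∨ u = [1, 1]) u hu).elim (same _ _) (· ▸ tt)
  have key : ∀ n u v : List ℕ, u ++ v ∈ H16.J4M.R0 → sameB (n ++ (u ++ v)) (mulInvL 2 (v ++ u) n) = true →
      ev F (u ++ v) = 1 := fun n u v h1 h2 => by
    have k : σ (ev F (u ++ v)) = 1 := (map_ev' σ sF _).trans (pres.sat _ h1)
    have c := mem_center_iff.1 (hσ.2.1 k)
    have e := same _ _ h2
    rw [ev_append, ev_mulInvL I, c, mul_left_inj, ev_append F v u, eq_inv_iff_mul_eq_one] at e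
    refine sq _ k ?_
    have := c (ev F u)
    rw [ev_append, mul_assoc, mul_right_inj] at this
    rwa [← this, ← ev_append] at e
  obtain ⟨τ, hτ⟩ := pres.lift Γ F I tr fun u hu => by
    rcases (by decide +kernel : ∀ u ∈ H16.J4M.R0, sameB u [] = true ∨ sameB u [1, 1] = true ∨
      sameB ([0, 2, 0, 3, 0, 2, 2, 0, 3, 0, 3, 0, 2, 0, 2, 0, 2, 2, 0, 2, 0, 3, 0, 3, 0, 2, 0, 2, 0, 2, 2, 0, 3, 0, 2, 0, 3, 0, 3] ++
        ([] ++ u)) (mulInvL 2 (u ++ []) [0, 2, 0, 3, 0, 2, 2, 0, 3, 0, 3, 0, 2, 0, 2, 0, 2, 2, 0, 2, 0, 3, 0, 3, 0, 2, 0, 2, 0, 2,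
          2, 0, 3, 0, 2, 0, 3, 0, 3]) = true ∨
      sameB ([] ++ (u.take 22 ++ u.drop 22)) (mulInvL 2 (u.drop 22 ++ u.take 22) []) = true) u hu with h | h | h | h
    exacts [same _ _ h, (same _ _ h).trans tt, key _ [] u hu h,
      List.take_append_drop 22 u ▸ key _ _ _ ((List.take_append_drop 22 u).symm ▸ hu) h]
  have s : ∀ a, σ (τ a) = a := fun a => by
    obtain ⟨u, rfl⟩ := pres.surj a
    rw [map_ev' τ hτ, map_ev' σ sF]
  intro c hc
  obtain ⟨a, rfl⟩ : c ∈ τ.range := eq_top_of_stem hσ (H := τ.range) (fun a => ⟨τ (σ a), ⟨_, rfl⟩, s _⟩) ▸ mem_top c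
  rw [(s a).symm.trans hc, map_one]

end Cfsg.Agent.H17.JS1
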