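import Cfsg.Agent.H27.JM
import Cfsg.Agent.H27.JS1

/-! The Schur multiplier is trivial. -/

set_option autoImplicit false
set_option maxRecDepth 100000

namespace Cfsg.Agent.H17.JS2

open H27 Subgroup JM H16.J4G
open scoped commutatorElement
open H16 (ifB ifB_eq)
open H16.J4F (F g lt2)

theorem θ_mem (s : F) : θ s ∈ H := by
  obtain ⟨u, rfl⟩ := H16.J4F.pres.surj s
  rw [θ_ev]
  refine ev_mem fun i _ => h3_eq i ▸ nth_prop (P := fun a => a ∈ H) (one_mem _) (fun a ha => ?_) i
  simp only [List.mem_cons, List.not_mem_nil, or_false] at ha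
  rcases ha with rfl | rfl | rfl
  exacts [x_mem, y_mem, inv_mem y_mem]

theorem conjE {v : Γ} (hv : v ∈ E) {s : Γ} (hs : s ∈ H) : s * v * s⁻¹ ∈ E := (mem_normalizer_iff.1 (H_norm hs) v).1 hv

/-- the columns with the central factors -/
noncomputable def tc (l i : ℕ) : ℕ := ifB (Nat.blt l 3) (H16.get 36 (nth 0 [nat_lit 0x100000000080000000040000000020000000010000000008000000004000000002000000001000000000800000000400000000200000000100000000080000000040000000020000000010000000008000000004000000002000000001000000000800000200568000100080000080040000040200000020100000010008000008004000004020000002010000001001000000802, nat_lit 0x1000000000800000000400000000200000000100000000080000000040000000020000000010000000008000000004000000002000000001000000000800000000400000000200000000100000000080000000040000000020000000010000000008001000006470800007ca0400004000200000100100000800080000ba004000040002000002001000008000800004000400001, nat_lit 0x100000000080000000040000000020000000010000000008000000004000000002000000001000000000800000000400000000200000000100000000080000000040000000020000000010000000008000000004000000002000000001000000000800091c0010017280051b1400006470240000400300000100268000ec014000080002800004003000002001800008000000001]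 l) i) (2 ^ i)
/-- the new basis and the relations -/
noncomputable def gn (j : ℕ) : ℕ :=
  ifB (Nat.blt j 11) (nth 0 [4513333249, 4513335298, 4521723908, 4504946696, 4521732112, 4504963104, 4454623296, 4362348672,
    4454754560, 4362086912, 5528497152] j)
    (Nat.xor (linW tc 33 (nth [] ([0, 0] :: H16.J4F.base) (nth 5 [0, 0, 0, 0, 0, 1, 1, 1, 1, 1] (j - 11)))
      (2 ^ nth 0 [0, 2, 3, 6, 7, 0, 1, 4, 5, 8] (j - 11))) (2 ^ nth 0 [0, 2, 3, 6, 7, 0, 1, 4, 5, 8] (j - 11)))

theorem closedH : ClosedAt 2 H := fun X _ _ σ hσ hk => by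
  obtain ⟨κ, hκ⟩ := exists_lift_of_closed H16.J4F.perfect hσ.1 hσ.2.1 (fun r hr _ => JS1.closedF hr) (θ.codRestrict H θ_mem)
  let p : X →* Γ := H.subtype.comp σ
  have hκ : ∀ k, p (κ k) = θ k := fun k => congrArg Subtype.val (DFunLike.congr_fun hκ k)
  have pk : p.ker = σ.ker := by ext; simp [p]
  have hc : p.ker ≤ center X := pk ▸ hσ.2.1
  have z2 : ∀ z, p z = 1 → z * z = 1 := fun z hz => by
    have := pow_card_eq_one' (x := (⟨z, pk ▸ hz⟩ : σ.ker))
    rw [hk, pow_two] at this
    exact congrArg Subtype.val this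
  have up : ∀ v ∈ H, ∃ a, p a = v := fun v hv => (hσ.1 ⟨v, hv⟩).imp fun _ h => congrArg Subtype.val h
  have dn : ∀ {K : Subgroup X} {a}, p.ker ≤ K → p a ∈ K.map p → a ∈ K := fun h ha => by
    rwa [← mem_comap, comap_map_eq, sup_eq_left.2 h] at ha
  have zc : ∀ a, p.ker ≤ centralizer {a} := fun a => hc.trans (center_le_centralizer _)
  have c0 : ∀ a b, p a = hE 0 → p b ∈ E → Commute b a := fun a b ha hb =>
    mem_centralizer_singleton_iff.1 (dn (zc a) (span (fun s hs v hv => by
      obtain ⟨w, rfl⟩ := up v (E_le hv)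
      exact ⟨⁅κ s, w⁆, mem_centralizer_singleton_iff.2 (commute_comm_of_ker hc (by rwa [ha, hκ])
        (ha ▸ E_comm _ (hE_mem 0) _ hv)).symm, by rw [map_commutatorElement, hκ]⟩) hb))
  have cm : ∀ a b, p a ∈ E → p b ∈ E → Commute a b := fun a b ha hb =>
    mem_centralizer_singleton_iff.1 (dn (zc b) (E_le_of (fun i hi => by
      obtain ⟨s, hs⟩ := conj0 i hi
      obtain ⟨w, hw⟩ := up _ (E_le (hE_mem 0))
      refine ⟨κ s * w * (κ s)⁻¹, mem_centralizer_singleton_iff.2 ?_, by simp [hκ, hw, hs]⟩
      have := (c0 w ((κ s)⁻¹ * b * (κ s)⁻¹⁻¹) hw (by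
        simpa only [map_mul, map_inv, hκ] using conjE hb (inv_mem (θ_mem s)))).map (MulAut.conj (κ s))
      simpa [mul_assoc] using this.symm.eq) ha))
  let Q : Subgroup X := ⟨⟨⟨{a | p a ∈ E ∧ a * a = 1}, fun {a b} ha hb => ⟨map_mul p a b ▸ mul_mem ha.1 hb.1, by
      rw [← pow_two, (cm a b ha.1 hb.1).mul_pow, pow_two, pow_two, ha.2, hb.2, mul_one]⟩⟩, by simp⟩,
    fun {a} ha => ⟨map_inv p a ▸ inv_mem ha.1, by rw [← mul_inv_rev, ha.2, inv_one]⟩⟩
  have sq : ∀ a, p a ∈ E → a * a = 1 := fun a ha =>
    (dn (K := Q) (fun z hz => ⟨hz.symm ▸ one_mem _, z2 z hz⟩) (span (fun s _ v hv => by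
      obtain ⟨w, rfl⟩ := up v (E_le hv)
      have m : p (κ s * w * (κ s)⁻¹) ∈ E := by simpa only [map_mul, map_inv, hκ] using conjE hv (θ_mem s)
      have k : w * w ∈ center X := hc (by
        obtain ⟨m, -, e⟩ := e_surj hv
        rw [MonoidHom.mem_ker, map_mul, e]; exact mv_sq ciE m 11)
      refine ⟨⁅κ s, w⁆, ⟨map_mul p _ _ ▸ mul_mem m (map_inv p w ▸ inv_mem hv), ?_⟩, by rw [map_commutatorElement, hκ]⟩
      rw [commutatorElement_def, ← pow_two, (cm _ _ m hv).inv_right.mul_pow, conj_pow, inv_pow, pow_two,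
        mem_center_iff.1 k, mul_inv_cancel_right, mul_inv_cancel]) ha)).2
  choose l hl using fun i => up _ (E_le (hE_mem i))
  have pl : ∀ m, p (mv l m 11) = e (lin (2 ^ ·) m 11) := fun m =>
    map_mv ciE p fun i hi => (hl i).trans (mv_bit hE hi).symm
  let a (s i : ℕ) : X := κ (g s) * l i * (κ (g s))⁻¹ * (mv l (col s i) 11)⁻¹
  have pa : ∀ s < 2, ∀ i < 11, p (a s i) = 1 := fun s hs i hi => by
    simp only [a, map_mul, map_inv, hκ, θ_let, hl, pl, act1 s i hi]
    rw [(by decide +kernel : ∀ s < 2, ∀ i < 11, lin (2 ^ ·) (col s i) 11 = col s i) s hs i hi, mul_inv_cancel]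
  let f (i : ℕ) : X := if i < 11 then l i else if i < 22 then a 0 (i - 11) else if i < 33 then a 1 (i - 22) else 1
  have pf : ∀ i, p (f i) = e (if i < 11 then 2 ^ i else 0) := fun i => by
    simp only [f]
    split_ifs
    exacts [(hl i).trans (mv_bit hE ‹_›).symm, (pa 0 (by decide) _ (by omega)).trans (mv_zero _ _).symm,
      (pa 1 (by decide) _ (by omega)).trans (mv_zero _ _).symm, (map_one p).trans (mv_zero _ _).symm]
  have ci : CI f := ⟨fun i j => cm _ _ (pf i ▸ e_mem _) (pf j ▸ e_mem _), fun i => sq _ (pf i ▸ e_mem _)⟩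
  have ac : ∀ s < 2, ∀ i < 33, κ (g s) * f i * (κ (g s))⁻¹ = mv f (tc s i) 33 := fun s hs i hi => by
    by_cases c : i < 11
    · have e1 : mv f (col s i) 33 = mv l (col s i) 11 := by
        rw [← (by decide +kernel : ∀ s < 2, ∀ i < 11, lin (2 ^ ·) (col s i) 11 = col s i) s hs i c,
          ← map_mv ci (MonoidHom.id X) (f' := l) fun j hj => (if_pos hj).symm.trans (mv_bit f (by omega)).symm,
          (by decide +kernel : ∀ s < 2, ∀ i < 11, lin (2 ^ ·) (col s i) 11 = col s i) s hs i c]
        rfl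
      rw [(by decide +kernel : ∀ s < 2, ∀ i < 11, tc s i = Nat.xor (2 ^ (11 * s + 11 + i)) (col s i)) s hs i c, mv_xor ci, e1,
        mv_bit f (by omega), show f i = l i from if_pos c, show f (11 * s + 11 + i) = a s i by
          interval_cases s
          · exact (if_neg (by omega)).trans ((if_pos (by omega)).trans (congrArg (a 0) (by omega)))
          · exact (if_neg (by omega)).trans ((if_neg (by omega)).trans ((if_pos (by omega)).trans (congrArg (a 1) (by omega))))]
      exact (inv_mul_cancel_right _ _).symm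
    · rw [(by decide +kernel : ∀ s < 2, ∀ i < 33, ¬i < 11 → tc s i = 2 ^ i) s hs i hi c, mv_bit f hi,
        mem_center_iff.1 (hc (show p (f i) = 1 by rw [pf, if_neg c]; exact mv_zero _ _)), mul_inv_cancel_right]
  have gl : ∀ s, κ (g s) = lt2 (κ (g 0)) (κ (g 1)) s := fun s => by
    by_cases hs : s < 3
    · interval_cases s
      exacts [rfl, rfl, by rw [← H16.J4F.inv1, H16.J4F.pres.inv, map_inv]; rfl]
    · rw [H16.J4F.lt2_triv _ _ _ (by omega), H16.J4F.pres.triv s (by omega), map_one]
  have ac3 : ∀ s, ∀ i < 33, κ (g s) * f i * (κ (g s))⁻¹ = mv f (tc s i) 33 := fun s => gl s ▸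
    conj3 ci (by rw [← map_mul, ← map_mul, ← pow_three', H16.J4F.rel_y, map_one]) 
      (fun i hi => (ac 0 (by decide) i hi).trans (congrArg (mv f · 33) (by clear * - hi; revert i; decide +kernel)))
      (fun i hi => (ac 1 (by decide) i hi).trans (congrArg (mv f · 33) (by clear * - hi; revert i; decide +kernel)))
      (by decide +kernel) s
  let L : List X := (List.range 11).map fun j => mv f (gn j) 33
  let W : Subgroup X := closure {a | a ∈ L}
  have mE : ∀ m, mv f m 33 ∈ E.comap p := fun m => mv_mem fun i _ _ => (pf i ▸ e_mem _ : p (f i) ∈ E)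
  have cW : CardLe W (2 ^ L.length) := H16.elab_le L (fun a ha b hb => by
    obtain ⟨_, -, rfl⟩ := List.mem_map.1 ha
    obtain ⟨_, -, rfl⟩ := List.mem_map.1 hb
    exact cm _ _ (mE _) (mE _)) fun a ha => by
      obtain ⟨_, -, rfl⟩ := List.mem_map.1 ha
      exact mv_sq ci _ _
  have gW : ∀ j < 22, mv f (gn j) 33 ∈ W := fun j hj => by
    by_cases c : j < 11
    · exact subset_closure (List.mem_map.2 ⟨j, List.mem_range.2 c, rfl⟩)
    · rw [gn, ifB_eq, if_neg (mt Nat.blt_eq.mp c), mv_xor ci, ← conj_mv ci ac3, ← map_ev' κ (fun _ => rfl),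
        show ev g _ = 1 from ?_, map_one, one_mul, inv_one, mul_one, mv_sq ci]
      · exact one_mem _
      · rcases (by decide +kernel : ∀ k < 6, nth [] ([0, 0] :: H16.J4F.base) k = [0, 0] ∨
          nth [] ([0, 0] :: H16.J4F.base) k ∈ H16.J4F.base) _
          ((by decide +kernel : ∀ j < 22, nth 5 [0, 0, 0, 0, 0, 1, 1, 1, 1, 1] (j - 11) < 6) j hj) with h | h
        · rw [h]; simpa [pow_two] using H16.J4F.rel_x
        · exact H16.J4F.pres.sat _ h
  have := cW.1
  have nW : κ.range ≤ normalizer W := by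
    rw [MonoidHom.range_eq_map, map_le_iff_le_comap]
    have k : ∀ s < 2, g s ∈ (normalizer (W : Set X)).comap κ := fun s hs => mem_normalizer_fintype fun n hn =>
      conj_clo (fun a ha => by
        obtain ⟨j, hj, rfl⟩ := List.mem_map.1 ha
        have := map_mv ci (MulAut.conj (κ (g s))).toMonoidHom (m := gn j) (ac s hs)
        rw [(by decide +kernel : ∀ s < 2, ∀ j < 11, lin (tc s) (gn j) 33 = lin gn (nth 0 [2, 2049, 16, 32, 4100, 8200, 256, 512,
          16448, 32896, 2665832, 65537, 4, 8, 131074, 64, 186, 524416, 786448, 1024, 1640394, 1607] (11 * s + j)) 22)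
          s hs j (List.mem_range.1 hj)] at this
        exact (show κ (g s) * _ * _ = _ from this).symm ▸ lin_mem ci gW) hn
    exact (H16.J4F.eq_top_of (k 0 (by decide)) (k 1 (by decide))).ge
  have := finF
  have c := H16.cardLe_sup cW (b := 244823040) ⟨Finite.of_surjective _ κ.rangeRestrict_surjective,
    H16.J4F.cardF ▸ Nat.card_le_card_of_surjective _ κ.rangeRestrict_surjective⟩ nW
  rw [eq_top_of_stem hσ (H := W ⊔ κ.range) fun b => by
    obtain ⟨c, hc, e⟩ : p b ∈ (W ⊔ κ.range).map p := by
      refine (H_le.trans (sup_le (c := (W ⊔ κ.range).map p)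
        (E_le_of fun i hi => ⟨_, mem_sup_left (gW i (by omega)), ?_⟩) ?_)) (σ b).2
      · rw [map_mv ciE p fun i _ => pf i,
          (by decide +kernel : ∀ i < 11, lin (fun i => if i < 11 then 2 ^ i else 0) (gn i) 33 = 2 ^ i) i hi, mv_bit hE hi]
      · rintro _ ⟨s, rfl⟩
        exact ⟨_, mem_sup_right ⟨s, rfl⟩, hκ s⟩
    exact ⟨c, hc, Subtype.ext e⟩] at c
  have d := H16.card_ker_mul σ hσ.1
  have c2 := c.2
  rw [hk, cardH] at d
  rw [card_top, List.length_map, List.length_range] at c2
  omega

theorem closed {r : ℕ} (hr : r.Prime) : ClosedAt r JA2.G := by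
  by_cases h : r = 2
  · subst h
    refine (closedAt_of_index hr H (fun h => ?_) closedH).congr JB3.iso.symm
    have := H.index_mul_card
    rw [cardH, cardΓ] at this
    omega
  · exact JS1.odd hr h

end Cfsg.Agent.H17.JS2
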