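import Cfsg.Agent.H27.Ly111
import Cfsg.Agent.H27.LyP
import Cfsg.Agent.H27.Cl
import Cfsg.Agent.H27.Mono
import Cfsg.Agent.H17.MatG
import Cfsg.Agent.S1059

/-! The subgroup `G₂(5)` of the presented Lyons group. -/

set_option autoImplicit false
set_option maxRecDepth 100000
set_option linter.style.haveILetI false

namespace Cfsg.Agent.H27.LyG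

open H17 Cfsg.Spor

instance fact5 : Fact (Nat.Prime 5) := ⟨Nat.prime_five⟩

/-- the arithmetic -/
noncomputable def A : Ar (ZMod 5) := arZ 5 3 17608

def Rs : List (List (List ℕ)) := [[[1, 0, 0, 0, 0, 0, 0, 0, 0, 0, 0, 0, 0, 4], [0, 1, 0, 0, 0, 0, 0, 0, 0, 0, 0, 0, 0, 3], [0, 1, 1, 0, 0, 0, 0, 0, 0, 0, 0, 0, 0, 4], [0, 0, 0, 1, 0, 0, 0, 0, 1, 0, 0, 0, 0, 0], [0, 0, 0, 0, 1, 0, 0, 0, 0, 0, 1, 0, 0, 0], [0, 0, 0, 0, 0, 1, 0, 0, 0, 0, 0, 4, 0, 0], [0, 0, 0, 0, 0, 0, 1, 0, 0, 0, 0, 0, 0, 0], [0, 0, 0, 0, 0, 0, 0, 1, 0, 0, 0, 0, 4, 0], [0, 0, 0, 0, 0, 0, 0, 0, 1, 0, 0, 0, 0, 0], [0, 0, 0, 0, 0, 0, 0, 0, 0, 1, 0, 0, 0, 0], [0, 0, 0, 0, 0, 0, 0, 0, 0, 0, 1, 0, 0, 0], [0, 0, 0,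 0, 0, 0, 0, 0, 0, 0, 0, 1, 0, 0], [0, 0, 0, 0, 0, 0, 0, 0, 0, 0, 0, 0, 1, 0], [0, 0, 0, 0, 0, 0, 0, 0, 0, 0, 0, 0, 0, 1]],
  [[1, 0, 0, 0, 0, 0, 0, 0, 0, 0, 0, 0, 4, 0], [0, 1, 0, 0, 0, 0, 0, 0, 0, 0, 0, 0, 4, 0], [0, 0, 1, 0, 0, 0, 0, 1, 0, 0, 0, 0, 0, 0], [3, 4, 0, 1, 0, 0, 0, 0, 0, 0, 0, 0, 4, 0], [0, 0, 0, 0, 1, 0, 0, 0, 0, 1, 0, 0, 0, 0], [0, 0, 0, 0, 0, 1, 0, 0, 0, 0, 0, 0, 0, 0], [0, 0, 0, 0, 0, 0, 1, 0, 0, 0, 0, 4, 0, 0], [0, 0, 0, 0, 0, 0, 0, 1, 0, 0, 0, 0, 0, 0], [0, 0, 0, 0, 0, 0, 0, 0, 1, 0, 0, 0, 0, 4], [0, 0, 0, 0, 0, 0, 0, 0, 0, 1, 0, 0, 0, 0], [0, 0, 0, 0, 0, 0, 0, 0, 0, 0, 1, 0, 0, 0], [0, 0, 0, 0, 0, 0, 0, 0, 0, 0, 0, 1, 0, 0], [0, 0, 0, 0, 0, 0, 0, 0, 0,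 0, 0, 0, 1, 0], [0, 0, 0, 0, 0, 0, 0, 0, 0, 0, 0, 0, 0, 1]],
  [[1, 0, 0, 0, 0, 0, 0, 0, 0, 0, 0, 3, 0, 0], [0, 1, 0, 0, 0, 0, 0, 0, 0, 0, 0, 2, 0, 0], [0, 0, 1, 0, 0, 3, 0, 0, 0, 2, 0, 0, 1, 0], [0, 0, 0, 1, 0, 0, 3, 0, 0, 0, 3, 0, 0, 4], [1, 0, 0, 0, 1, 0, 0, 0, 0, 0, 0, 4, 0, 0], [0, 0, 0, 0, 0, 1, 0, 0, 0, 3, 0, 0, 1, 0], [0, 0, 0, 0, 0, 0, 1, 0, 0, 0, 2, 0, 0, 4], [0, 0, 0, 0, 0, 0, 0, 1, 0, 0, 0, 0, 0, 0], [0, 0, 0, 0, 0, 0, 0, 0, 1, 0, 0, 0, 0, 0], [0, 0, 0, 0, 0, 0, 0, 0, 0, 1, 0, 0, 4, 0], [0, 0, 0, 0, 0, 0, 0, 0, 0, 0, 1, 0, 0, 4], [0, 0, 0, 0, 0, 0, 0, 0, 0, 0, 0, 1, 0, 0], [0, 0, 0, 0, 0, 0, 0, 0, 0, 0, 0, 0, 1, 0], [0, 0, 0, 0, 0, 0, 0, 0, 0, 0, 0, 0, 0, 1]],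
  [[1, 0, 0, 0, 0, 0, 0, 0, 0, 0, 4, 0, 0, 0], [0, 1, 0, 0, 0, 0, 0, 0, 0, 0, 2, 0, 0, 0], [0, 0, 1, 0, 2, 0, 3, 0, 1, 0, 0, 0, 0, 0], [0, 0, 0, 1, 0, 0, 0, 0, 0, 0, 0, 0, 0, 0], [0, 0, 0, 0, 1, 0, 3, 0, 4, 0, 0, 0, 0, 0], [4, 1, 0, 0, 0, 1, 0, 0, 0, 0, 4, 0, 0, 0], [0, 0, 0, 0, 0, 0, 1, 0, 1, 0, 0, 0, 0, 0], [0, 0, 0, 0, 0, 0, 0, 1, 0, 2, 0, 2, 0, 4], [0, 0, 0, 0, 0, 0, 0, 0, 1, 0, 0, 0, 0, 0], [0, 0, 0, 0, 0, 0, 0, 0, 0, 1, 0, 2, 0, 1], [0, 0, 0, 0, 0, 0, 0, 0, 0, 0, 1, 0, 0, 0], [0, 0, 0, 0, 0, 0, 0, 0, 0, 0, 0, 1, 0, 1], [0, 0, 0, 0, 0, 0, 0, 0, 0, 0, 0, 0, 1, 0], [0, 0, 0, 0, 0, 0, 0, 0, 0, 0, 0, 0, 0, 1]],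
  [[1, 0, 0, 0, 0, 0, 0, 0, 0, 4, 0, 0, 0, 0], [0, 1, 0, 0, 0, 0, 0, 0, 0, 0, 0, 0, 0, 0], [0, 0, 1, 0, 0, 0, 0, 0, 0, 0, 0, 0, 0, 0], [0, 0, 0, 1, 2, 2, 0, 4, 0, 0, 0, 0, 0, 0], [0, 0, 0, 0, 1, 2, 0, 1, 0, 0, 0, 0, 0, 0], [0, 0, 0, 0, 0, 1, 0, 1, 0, 0, 0, 0, 0, 0], [2, 4, 0, 0, 0, 0, 1, 0, 0, 4, 0, 0, 0, 0], [0, 0, 0, 0, 0, 0, 0, 1, 0, 0, 0, 0, 0, 0], [0, 0, 0, 0, 0, 0, 0, 0, 1, 0, 2, 3, 1, 0], [0, 0, 0, 0, 0, 0, 0, 0, 0, 1, 0, 0, 0, 0], [0, 0, 0, 0, 0, 0, 0, 0, 0, 0, 1, 3, 4, 0], [0, 0, 0, 0, 0, 0, 0, 0, 0, 0, 0, 1, 1, 0], [0, 0, 0, 0, 0, 0, 0, 0, 0, 0, 0, 0, 1, 0], [0, 0, 0, 0, 0, 0, 0, 0, 0, 0, 0, 0, 0, 1]],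
  [[1, 0, 0, 0, 0, 0, 0, 0, 0, 0, 0, 0, 0, 0], [0, 1, 0, 0, 0, 0, 0, 0, 4, 0, 0, 0, 0, 0], [0, 0, 1, 4, 0, 0, 0, 0, 0, 0, 0, 0, 0, 0], [0, 0, 0, 1, 0, 0, 0, 0, 0, 0, 0, 0, 0, 0], [0, 0, 0, 0, 1, 0, 0, 0, 0, 0, 0, 0, 0, 0], [0, 0, 0, 0, 0, 1, 4, 0, 0, 0, 0, 0, 0, 0], [0, 0, 0, 0, 0, 0, 1, 0, 0, 0, 0, 0, 0, 0], [2, 2, 0, 0, 0, 0, 0, 1, 4, 0, 0, 0, 0, 0], [0, 0, 0, 0, 0, 0, 0, 0, 1, 0, 0, 0, 0, 0], [0, 0, 0, 0, 0, 0, 0, 0, 0, 1, 1, 0, 0, 0], [0, 0, 0, 0, 0, 0, 0, 0, 0, 0, 1, 0, 0, 0], [0, 0, 0, 0, 0, 0, 0, 0, 0, 0, 0, 1, 0, 0], [0, 0, 0, 0, 0, 0, 0, 0, 0, 0, 0, 0, 1, 1], [0, 0, 0, 0, 0, 0, 0, 0, 0, 0, 0, 0, 0, 1]],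
  [[1, 0, 0, 0, 0, 0, 0, 0, 0, 0, 0, 0, 0, 0], [0, 1, 0, 0, 0, 0, 0, 1, 0, 0, 0, 0, 0, 0], [0, 0, 1, 0, 0, 0, 0, 0, 0, 0, 0, 0, 0, 0], [0, 0, 4, 1, 0, 0, 0, 0, 0, 0, 0, 0, 0, 0], [0, 0, 0, 0, 1, 0, 0, 0, 0, 0, 0, 0, 0, 0], [0, 0, 0, 0, 0, 1, 0, 0, 0, 0, 0, 0, 0, 0], [0, 0, 0, 0, 0, 4, 1, 0, 0, 0, 0, 0, 0, 0], [0, 0, 0, 0, 0, 0, 0, 1, 0, 0, 0, 0, 0, 0], [3, 3, 0, 0, 0, 0, 0, 4, 1, 0, 0, 0, 0, 0], [0, 0, 0, 0, 0, 0, 0, 0, 0, 1, 0, 0, 0, 0], [0, 0, 0, 0, 0, 0, 0, 0, 0, 1, 1, 0, 0, 0], [0, 0, 0, 0, 0, 0, 0, 0, 0, 0, 0, 1, 0, 0], [0, 0, 0, 0, 0, 0, 0, 0, 0, 0, 0, 0, 1, 0], [0, 0, 0, 0, 0, 0, 0, 0, 0, 0, 0, 0, 1, 1]],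
  [[1, 0, 0, 0, 0, 0, 1, 0, 0, 0, 0, 0, 0, 0], [0, 1, 0, 0, 0, 0, 0, 0, 0, 0, 0, 0, 0, 0], [0, 0, 1, 0, 0, 0, 0, 0, 0, 0, 0, 0, 0, 0], [0, 0, 0, 1, 0, 0, 0, 0, 0, 0, 0, 0, 0, 0], [0, 0, 0, 4, 1, 0, 0, 0, 0, 0, 0, 0, 0, 0], [0, 0, 0, 4, 2, 1, 0, 0, 0, 0, 0, 0, 0, 0], [0, 0, 0, 0, 0, 0, 1, 0, 0, 0, 0, 0, 0, 0], [0, 0, 0, 4, 3, 3, 0, 1, 0, 0, 0, 0, 0, 0], [0, 0, 0, 0, 0, 0, 0, 0, 1, 0, 0, 0, 0, 0], [3, 1, 0, 0, 0, 0, 4, 0, 0, 1, 0, 0, 0, 0], [0, 0, 0, 0, 0, 0, 0, 0, 4, 0, 1, 0, 0, 0], [0, 0, 0, 0, 0, 0, 0, 0, 1, 0, 3, 1, 0, 0], [0, 0, 0, 0, 0, 0, 0, 0, 1, 0, 2, 3, 1, 0], [0, 0, 0, 0, 0, 0, 0, 0, 0, 0, 0, 0, 0, 1]],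
  [[1, 0, 0, 0, 0, 1, 0, 0, 0, 0, 0, 0, 0, 0], [0, 1, 0, 0, 0, 3, 0, 0, 0, 0, 0, 0, 0, 0], [0, 0, 1, 0, 0, 0, 0, 0, 0, 0, 0, 0, 0, 0], [0, 0, 0, 1, 0, 0, 0, 0, 0, 0, 0, 0, 0, 0], [0, 0, 4, 0, 1, 0, 0, 0, 0, 0, 0, 0, 0, 0], [0, 0, 0, 0, 0, 1, 0, 0, 0, 0, 0, 0, 0, 0], [0, 0, 1, 0, 3, 0, 1, 0, 0, 0, 0, 0, 0, 0], [0, 0, 0, 0, 0, 0, 0, 1, 0, 0, 0, 0, 0, 0], [0, 0, 1, 0, 2, 0, 3, 0, 1, 0, 0, 0, 0, 0], [0, 0, 0, 0, 0, 0, 0, 4, 0, 1, 0, 0, 0, 0], [1, 4, 0, 0, 0, 4, 0, 0, 0, 0, 1, 0, 0, 0], [0, 0, 0, 0, 0, 0, 0, 4, 0, 2, 0, 1, 0, 0], [0, 0, 0, 0, 0, 0, 0, 0, 0, 0, 0, 0, 1, 0], [0, 0, 0, 0, 0, 0, 0, 4, 0, 3, 0, 3, 0, 1]],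
  [[1, 0, 0, 0, 2, 0, 0, 0, 0, 0, 0, 0, 0, 0], [0, 1, 0, 0, 3, 0, 0, 0, 0, 0, 0, 0, 0, 0], [0, 0, 1, 0, 0, 0, 0, 0, 0, 0, 0, 0, 0, 0], [0, 0, 0, 1, 0, 0, 0, 0, 0, 0, 0, 0, 0, 0], [0, 0, 0, 0, 1, 0, 0, 0, 0, 0, 0, 0, 0, 0], [0, 0, 1, 0, 0, 1, 0, 0, 0, 0, 0, 0, 0, 0], [0, 0, 0, 1, 0, 0, 1, 0, 0, 0, 0, 0, 0, 0], [0, 0, 0, 0, 0, 0, 0, 1, 0, 0, 0, 0, 0, 0], [0, 0, 0, 0, 0, 0, 0, 0, 1, 0, 0, 0, 0, 0], [0, 0, 4, 0, 0, 3, 0, 0, 0, 1, 0, 0, 0, 0], [0, 0, 0, 1, 0, 0, 2, 0, 0, 0, 1, 0, 0, 0], [4, 0, 0, 0, 4, 0, 0, 0, 0, 0, 0, 1, 0, 0], [0, 0, 1, 0, 0, 3, 0, 0, 0, 2, 0, 0, 1, 0], [0, 0, 0, 4, 0, 0, 2, 0, 0, 0, 2, 0, 0, 1]],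
  [[1, 0, 0, 1, 0, 0, 0, 0, 0, 0, 0, 0, 0, 0], [0, 1, 0, 1, 0, 0, 0, 0, 0, 0, 0, 0, 0, 0], [0, 0, 1, 0, 0, 0, 0, 0, 0, 0, 0, 0, 0, 0], [0, 0, 0, 1, 0, 0, 0, 0, 0, 0, 0, 0, 0, 0], [0, 0, 0, 0, 1, 0, 0, 0, 0, 0, 0, 0, 0, 0], [0, 0, 0, 0, 0, 1, 0, 0, 0, 0, 0, 0, 0, 0], [0, 0, 0, 0, 0, 0, 1, 0, 0, 0, 0, 0, 0, 0], [0, 0, 1, 0, 0, 0, 0, 1, 0, 0, 0, 0, 0, 0], [0, 0, 0, 0, 0, 0, 0, 0, 1, 0, 0, 0, 0, 0], [0, 0, 0, 0, 1, 0, 0, 0, 0, 1, 0, 0, 0, 0], [0, 0, 0, 0, 0, 0, 0, 0, 0, 0, 1, 0, 0, 0], [0, 0, 0, 0, 0, 0, 4, 0, 0, 0, 0, 1, 0, 0], [2, 1, 0, 4, 0, 0, 0, 0, 0, 0, 0, 0, 1, 0], [0, 0, 0, 0, 0, 0, 0, 0, 4, 0, 0, 0, 0, 1]],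
  [[1, 0, 1, 0, 0, 0, 0, 0, 0, 0, 0, 0, 0, 0], [0, 1, 2, 0, 0, 0, 0, 0, 0, 0, 0, 0, 0, 0], [0, 0, 1, 0, 0, 0, 0, 0, 0, 0, 0, 0, 0, 0], [0, 0, 0, 1, 0, 0, 0, 0, 0, 0, 0, 0, 0, 0], [0, 0, 0, 0, 1, 0, 0, 0, 0, 0, 0, 0, 0, 0], [0, 0, 0, 0, 0, 1, 0, 0, 0, 0, 0, 0, 0, 0], [0, 0, 0, 0, 0, 0, 1, 0, 0, 0, 0, 0, 0, 0], [0, 0, 0, 0, 0, 0, 0, 1, 0, 0, 0, 0, 0, 0], [0, 0, 0, 1, 0, 0, 0, 0, 1, 0, 0, 0, 0, 0], [0, 0, 0, 0, 0, 0, 0, 0, 0, 1, 0, 0, 0, 0], [0, 0, 0, 0, 1, 0, 0, 0, 0, 0, 1, 0, 0, 0], [0, 0, 0, 0, 0, 4, 0, 0, 0, 0, 0, 1, 0, 0], [0, 0, 0, 0, 0, 0, 0, 4, 0, 0, 0, 0, 1, 0], [0, 4, 4, 0, 0, 0, 0, 0, 0, 0, 0, 0, 0, 1]]]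
def M4 : List (List (List ℕ)) := [[[0, 3, 0, 0, 0, 0, 2, 0, 0, 2, 0, 0, 0, 0], [0, 1, 0, 0, 0, 0, 0, 0, 0, 0, 0, 0, 0, 0], [0, 0, 2, 0, 0, 0, 0, 0, 0, 0, 0, 0, 0, 0], [0, 0, 0, 1, 2, 2, 0, 4, 0, 0, 0, 0, 0, 0], [0, 0, 0, 4, 1, 4, 0, 4, 0, 0, 0, 0, 0, 0], [0, 0, 0, 4, 4, 4, 0, 1, 0, 0, 0, 0, 0, 0], [4, 3, 0, 0, 0, 0, 2, 0, 0, 3, 0, 0, 0, 0], [0, 0, 0, 4, 2, 3, 0, 4, 0, 0, 0, 0, 0, 0], [0, 0, 0, 0, 0, 0, 0, 0, 3, 0, 1, 4, 3, 0], [4, 3, 0, 0, 0, 0, 3, 0, 0, 2, 0, 0, 0, 0], [0, 0, 0, 0, 0, 0, 0, 0, 2, 0, 3, 3, 3, 0], [0, 0, 0, 0, 0, 0, 0, 0, 3, 0, 3, 2, 3, 0], [0, 0, 0, 0, 0, 0, 0, 0, 3, 0, 4, 4, 2, 0], [0, 0, 0, 0, 0, 0, 0, 0, 0, 0, 0, 0, 0, 3]],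
  [[1, 0, 0, 0, 0, 0, 1, 0, 0, 0, 0, 0, 0, 0], [0, 1, 0, 0, 0, 0, 0, 0, 0, 0, 0, 0, 0, 0], [0, 0, 1, 0, 0, 0, 0, 0, 0, 0, 0, 0, 0, 0], [0, 0, 0, 1, 0, 0, 0, 0, 0, 0, 0, 0, 0, 0], [0, 0, 0, 4, 1, 0, 0, 0, 0, 0, 0, 0, 0, 0], [0, 0, 0, 4, 2, 1, 0, 0, 0, 0, 0, 0, 0, 0], [0, 0, 0, 0, 0, 0, 1, 0, 0, 0, 0, 0, 0, 0], [0, 0, 0, 4, 3, 3, 0, 1, 0, 0, 0, 0, 0, 0], [0, 0, 0, 0, 0, 0, 0, 0, 1, 0, 0, 0, 0, 0], [3, 1, 0, 0, 0, 0, 4, 0, 0, 1, 0, 0, 0, 0], [0, 0, 0, 0, 0, 0, 0, 0, 4, 0, 1, 0, 0, 0], [0, 0, 0, 0, 0, 0, 0, 0, 1, 0, 3, 1, 0, 0], [0, 0, 0, 0, 0, 0, 0, 0, 1, 0, 2, 3, 1, 0], [0, 0, 0, 0, 0, 0, 0, 0, 0, 0, 0, 0, 0, 1]],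
  [[1, 0, 0, 0, 0, 1, 0, 0, 0, 0, 0, 0, 0, 0], [0, 1, 0, 0, 0, 3, 0, 0, 0, 0, 0, 0, 0, 0], [0, 0, 1, 0, 0, 0, 0, 0, 0, 0, 0, 0, 0, 0], [0, 0, 0, 1, 0, 0, 0, 0, 0, 0, 0, 0, 0, 0], [0, 0, 4, 0, 1, 0, 0, 0, 0, 0, 0, 0, 0, 0], [0, 0, 0, 0, 0, 1, 0, 0, 0, 0, 0, 0, 0, 0], [0, 0, 1, 0, 3, 0, 1, 0, 0, 0, 0, 0, 0, 0], [0, 0, 0, 0, 0, 0, 0, 1, 0, 0, 0, 0, 0, 0], [0, 0, 1, 0, 2, 0, 3, 0, 1, 0, 0, 0, 0, 0], [0, 0, 0, 0, 0, 0, 0, 4, 0, 1, 0, 0, 0, 0], [1, 4, 0, 0, 0, 4, 0, 0, 0, 0, 1, 0, 0, 0], [0, 0, 0, 0, 0, 0, 0, 4, 0, 2, 0, 1, 0, 0], [0, 0, 0, 0, 0, 0, 0, 0, 0, 0, 0, 0, 1, 0], [0, 0, 0, 0, 0, 0, 0, 4, 0, 3, 0, 3, 0, 1]],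
  [[1, 4, 0, 0, 0, 0, 0, 0, 0, 0, 0, 0, 0, 0], [0, 4, 0, 0, 0, 0, 0, 0, 0, 0, 0, 0, 0, 0], [0, 0, 0, 0, 0, 0, 0, 0, 0, 0, 0, 0, 0, 4], [0, 0, 0, 0, 0, 0, 0, 0, 1, 0, 0, 0, 0, 0], [0, 0, 0, 0, 0, 0, 0, 0, 0, 0, 1, 0, 0, 0], [0, 0, 0, 0, 0, 0, 0, 0, 0, 0, 0, 4, 0, 0], [0, 0, 0, 0, 0, 0, 1, 0, 0, 0, 0, 0, 0, 0], [0, 0, 0, 0, 0, 0, 0, 0, 0, 0, 0, 0, 4, 0], [0, 0, 0, 4, 0, 0, 0, 0, 0, 0, 0, 0, 0, 0], [0, 0, 0, 0, 0, 0, 0, 0, 0, 1, 0, 0, 0, 0], [0, 0, 0, 0, 4, 0, 0, 0, 0, 0, 0, 0, 0, 0], [0, 0, 0, 0, 0, 1, 0, 0, 0, 0, 0, 0, 0, 0], [0, 0, 0, 0, 0, 0, 0, 1, 0, 0, 0, 0, 0, 0], [0, 0, 4, 0, 0, 0, 0, 0, 0, 0, 0, 0, 0, 0]]]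
def M8 : List (List (List ℕ)) := [[[0, 3, 0, 0, 0, 0, 2, 0, 0, 2, 0, 0, 0, 0], [0, 1, 0, 0, 0, 0, 0, 0, 0, 0, 0, 0, 0, 0], [0, 0, 2, 0, 0, 0, 0, 0, 0, 0, 0, 0, 0, 0], [0, 0, 0, 1, 2, 2, 0, 4, 0, 0, 0, 0, 0, 0], [0, 0, 0, 4, 1, 4, 0, 4, 0, 0, 0, 0, 0, 0], [0, 0, 0, 4, 4, 4, 0, 1, 0, 0, 0, 0, 0, 0], [4, 3, 0, 0, 0, 0, 2, 0, 0, 3, 0, 0, 0, 0], [0, 0, 0, 4, 2, 3, 0, 4, 0, 0, 0, 0, 0, 0], [0, 0, 0, 0, 0, 0, 0, 0, 3, 0, 1, 4, 3, 0], [4, 3, 0, 0, 0, 0, 3, 0, 0, 2, 0, 0, 0, 0], [0, 0, 0, 0, 0, 0, 0, 0, 2, 0, 3, 3, 3, 0], [0, 0, 0, 0, 0, 0, 0, 0, 3, 0, 3, 2, 3, 0], [0, 0, 0, 0, 0, 0, 0, 0, 3, 0, 4, 4, 2, 0], [0, 0, 0, 0, 0, 0, 0, 0, 0, 0, 0, 0, 0, 3]],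
  [[0, 3, 0, 0, 0, 0, 2, 0, 0, 2, 0, 0, 0, 0], [0, 1, 0, 0, 0, 0, 0, 0, 0, 0, 0, 0, 0, 0], [0, 0, 3, 0, 0, 0, 0, 0, 0, 0, 0, 0, 0, 0], [0, 0, 0, 2, 4, 4, 0, 3, 0, 0, 0, 0, 0, 0], [0, 0, 0, 3, 2, 3, 0, 3, 0, 0, 0, 0, 0, 0], [0, 0, 0, 3, 3, 3, 0, 2, 0, 0, 0, 0, 0, 0], [4, 3, 0, 0, 0, 0, 2, 0, 0, 3, 0, 0, 0, 0], [0, 0, 0, 3, 4, 1, 0, 3, 0, 0, 0, 0, 0, 0], [0, 0, 0, 0, 0, 0, 0, 0, 4, 0, 3, 2, 4, 0], [4, 3, 0, 0, 0, 0, 3, 0, 0, 2, 0, 0, 0, 0], [0, 0, 0, 0, 0, 0, 0, 0, 1, 0, 4, 4, 4, 0], [0, 0, 0, 0, 0, 0, 0, 0, 4, 0, 4, 1, 4, 0], [0, 0, 0, 0, 0, 0, 0, 0, 4, 0, 2, 2, 1, 0], [0, 0, 0, 0, 0, 0, 0, 0, 0, 0, 0, 0, 0, 2]],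
  [[1, 0, 0, 0, 0, 0, 1, 0, 0, 0, 0, 0, 0, 0], [0, 1, 0, 0, 0, 0, 0, 0, 0, 0, 0, 0, 0, 0], [0, 0, 1, 0, 0, 0, 0, 0, 0, 0, 0, 0, 0, 0], [0, 0, 0, 1, 0, 0, 0, 0, 0, 0, 0, 0, 0, 0], [0, 0, 0, 4, 1, 0, 0, 0, 0, 0, 0, 0, 0, 0], [0, 0, 0, 4, 2, 1, 0, 0, 0, 0, 0, 0, 0, 0], [0, 0, 0, 0, 0, 0, 1, 0, 0, 0, 0, 0, 0, 0], [0, 0, 0, 4, 3, 3, 0, 1, 0, 0, 0, 0, 0, 0], [0, 0, 0, 0, 0, 0, 0, 0, 1, 0, 0, 0, 0, 0], [3, 1, 0, 0, 0, 0, 4, 0, 0, 1, 0, 0, 0, 0], [0, 0, 0, 0, 0, 0, 0, 0, 4, 0, 1, 0, 0, 0], [0, 0, 0, 0, 0, 0, 0, 0, 1, 0, 3, 1, 0, 0], [0, 0, 0, 0, 0, 0, 0, 0, 1, 0, 2, 3, 1, 0], [0, 0, 0, 0, 0, 0, 0, 0, 0, 0, 0, 0, 0, 1]],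
  [[1, 0, 0, 0, 0, 0, 4, 0, 0, 0, 0, 0, 0, 0], [0, 1, 0, 0, 0, 0, 0, 0, 0, 0, 0, 0, 0, 0], [0, 0, 1, 0, 0, 0, 0, 0, 0, 0, 0, 0, 0, 0], [0, 0, 0, 1, 0, 0, 0, 0, 0, 0, 0, 0, 0, 0], [0, 0, 0, 1, 1, 0, 0, 0, 0, 0, 0, 0, 0, 0], [0, 0, 0, 4, 3, 1, 0, 0, 0, 0, 0, 0, 0, 0], [0, 0, 0, 0, 0, 0, 1, 0, 0, 0, 0, 0, 0, 0], [0, 0, 0, 1, 3, 2, 0, 1, 0, 0, 0, 0, 0, 0], [0, 0, 0, 0, 0, 0, 0, 0, 1, 0, 0, 0, 0, 0], [2, 4, 0, 0, 0, 0, 4, 0, 0, 1, 0, 0, 0, 0], [0, 0, 0, 0, 0, 0, 0, 0, 1, 0, 1, 0, 0, 0], [0, 0, 0, 0, 0, 0, 0, 0, 1, 0, 2, 1, 0, 0], [0, 0, 0, 0, 0, 0, 0, 0, 4, 0, 2, 2, 1, 0], [0, 0, 0, 0, 0, 0, 0, 0, 0, 0, 0, 0, 0, 1]],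
  [[1, 0, 0, 0, 0, 1, 0, 0, 0, 0, 0, 0, 0, 0], [0, 1, 0, 0, 0, 3, 0, 0, 0, 0, 0, 0, 0, 0], [0, 0, 1, 0, 0, 0, 0, 0, 0, 0, 0, 0, 0, 0], [0, 0, 0, 1, 0, 0, 0, 0, 0, 0, 0, 0, 0, 0], [0, 0, 4, 0, 1, 0, 0, 0, 0, 0, 0, 0, 0, 0], [0, 0, 0, 0, 0, 1, 0, 0, 0, 0, 0, 0, 0, 0], [0, 0, 1, 0, 3, 0, 1, 0, 0, 0, 0, 0, 0, 0], [0, 0, 0, 0, 0, 0, 0, 1, 0, 0, 0, 0, 0, 0], [0, 0, 1, 0, 2, 0, 3, 0, 1, 0, 0, 0, 0, 0], [0, 0, 0, 0, 0, 0, 0, 4, 0, 1, 0, 0, 0, 0], [1, 4, 0, 0, 0, 4, 0, 0, 0, 0, 1, 0, 0, 0], [0, 0, 0, 0, 0, 0, 0, 4, 0, 2, 0, 1, 0, 0], [0, 0, 0, 0, 0, 0, 0, 0, 0, 0, 0, 0, 1, 0], [0, 0, 0, 0, 0, 0, 0, 4, 0, 3, 0, 3, 0, 1]],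
  [[1, 0, 0, 0, 0, 4, 0, 0, 0, 0, 0, 0, 0, 0], [0, 1, 0, 0, 0, 2, 0, 0, 0, 0, 0, 0, 0, 0], [0, 0, 1, 0, 0, 0, 0, 0, 0, 0, 0, 0, 0, 0], [0, 0, 0, 1, 0, 0, 0, 0, 0, 0, 0, 0, 0, 0], [0, 0, 1, 0, 1, 0, 0, 0, 0, 0, 0, 0, 0, 0], [0, 0, 0, 0, 0, 1, 0, 0, 0, 0, 0, 0, 0, 0], [0, 0, 1, 0, 2, 0, 1, 0, 0, 0, 0, 0, 0, 0], [0, 0, 0, 0, 0, 0, 0, 1, 0, 0, 0, 0, 0, 0], [0, 0, 4, 0, 2, 0, 2, 0, 1, 0, 0, 0, 0, 0], [0, 0, 0, 0, 0, 0, 0, 1, 0, 1, 0, 0, 0, 0], [4, 1, 0, 0, 0, 4, 0, 0, 0, 0, 1, 0, 0, 0], [0, 0, 0, 0, 0, 0, 0, 4, 0, 3, 0, 1, 0, 0], [0, 0, 0, 0, 0, 0, 0, 0, 0, 0, 0, 0, 1, 0], [0, 0, 0, 0, 0, 0, 0, 1, 0, 3, 0, 2, 0, 1]],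
  [[1, 4, 0, 0, 0, 0, 0, 0, 0, 0, 0, 0, 0, 0], [0, 4, 0, 0, 0, 0, 0, 0, 0, 0, 0, 0, 0, 0], [0, 0, 0, 0, 0, 0, 0, 0, 0, 0, 0, 0, 0, 4], [0, 0, 0, 0, 0, 0, 0, 0, 1, 0, 0, 0, 0, 0], [0, 0, 0, 0, 0, 0, 0, 0, 0, 0, 1, 0, 0, 0], [0, 0, 0, 0, 0, 0, 0, 0, 0, 0, 0, 4, 0, 0], [0, 0, 0, 0, 0, 0, 1, 0, 0, 0, 0, 0, 0, 0], [0, 0, 0, 0, 0, 0, 0, 0, 0, 0, 0, 0, 4, 0], [0, 0, 0, 4, 0, 0, 0, 0, 0, 0, 0, 0, 0, 0], [0, 0, 0, 0, 0, 0, 0, 0, 0, 1, 0, 0, 0, 0], [0, 0, 0, 0, 4, 0, 0, 0, 0, 0, 0, 0, 0, 0], [0, 0, 0, 0, 0, 1, 0, 0, 0, 0, 0, 0, 0, 0], [0, 0, 0, 0, 0, 0, 0, 1, 0, 0, 0, 0, 0, 0], [0, 0, 4, 0, 0, 0, 0, 0, 0, 0, 0, 0, 0, 0]],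
  [[1, 4, 0, 0, 0, 0, 0, 0, 0, 0, 0, 0, 0, 0], [0, 4, 0, 0, 0, 0, 0, 0, 0, 0, 0, 0, 0, 0], [0, 0, 0, 0, 0, 0, 0, 0, 0, 0, 0, 0, 0, 4], [0, 0, 0, 0, 0, 0, 0, 0, 4, 0, 0, 0, 0, 0], [0, 0, 0, 0, 0, 0, 0, 0, 0, 0, 4, 0, 0, 0], [0, 0, 0, 0, 0, 0, 0, 0, 0, 0, 0, 1, 0, 0], [0, 0, 0, 0, 0, 0, 1, 0, 0, 0, 0, 0, 0, 0], [0, 0, 0, 0, 0, 0, 0, 0, 0, 0, 0, 0, 1, 0], [0, 0, 0, 1, 0, 0, 0, 0, 0, 0, 0, 0, 0, 0], [0, 0, 0, 0, 0, 0, 0, 0, 0, 1, 0, 0, 0, 0], [0, 0, 0, 0, 1, 0, 0, 0, 0, 0, 0, 0, 0, 0], [0, 0, 0, 0, 0, 4, 0, 0, 0, 0, 0, 0, 0, 0], [0, 0, 0, 0, 0, 0, 0, 4, 0, 0, 0, 0, 0, 0], [0, 0, 4, 0, 0, 0, 0, 0, 0, 0, 0, 0, 0, 0]]]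
def Ms : List (List (List ℕ)) := [[[1, 0, 1, 3, 4, 4, 2, 0, 0, 0, 0, 0, 0, 0], [3, 4, 0, 1, 2, 0, 1, 0, 0, 0, 0, 0, 0, 0], [0, 0, 0, 3, 0, 0, 0, 0, 0, 0, 0, 0, 0, 0], [0, 0, 2, 0, 0, 0, 0, 0, 0, 0, 0, 0, 0, 0], [0, 0, 4, 2, 4, 0, 0, 0, 0, 0, 0, 0, 0, 0], [0, 0, 2, 0, 4, 0, 2, 0, 0, 0, 0, 0, 0, 0], [0, 0, 2, 3, 2, 3, 0, 0, 0, 0, 0, 0, 0, 0], [0, 0, 1, 1, 3, 0, 3, 0, 4, 0, 0, 0, 0, 0], [0, 0, 0, 3, 3, 4, 0, 4, 0, 0, 0, 0, 0, 0], [3, 2, 2, 4, 0, 3, 2, 0, 1, 0, 2, 0, 0, 0], [3, 1, 2, 2, 0, 4, 3, 3, 0, 3, 0, 0, 0, 0], [1, 4, 3, 4, 4, 0, 0, 1, 1, 2, 4, 4, 0, 0], [0, 3, 1, 4, 2, 1, 2, 3, 1, 4, 0, 1, 0, 3], [1, 2, 3, 1, 4, 1, 1, 0, 1, 1, 1, 2, 2, 0]],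
  [[0, 3, 0, 0, 0, 0, 2, 0, 0, 2, 0, 0, 0, 0], [0, 1, 0, 0, 0, 0, 0, 0, 0, 0, 0, 0, 0, 0], [0, 0, 2, 0, 0, 0, 0, 0, 0, 0, 0, 0, 0, 0], [0, 0, 0, 1, 2, 2, 0, 4, 0, 0, 0, 0, 0, 0], [0, 0, 0, 4, 1, 4, 0, 4, 0, 0, 0, 0, 0, 0], [0, 0, 0, 4, 4, 4, 0, 1, 0, 0, 0, 0, 0, 0], [4, 3, 0, 0, 0, 0, 2, 0, 0, 3, 0, 0, 0, 0], [0, 0, 0, 4, 2, 3, 0, 4, 0, 0, 0, 0, 0, 0], [0, 0, 0, 0, 0, 0, 0, 0, 3, 0, 1, 4, 3, 0], [4, 3, 0, 0, 0, 0, 3, 0, 0, 2, 0, 0, 0, 0], [0, 0, 0, 0, 0, 0, 0, 0, 2, 0, 3, 3, 3, 0], [0, 0, 0, 0, 0, 0, 0, 0, 3, 0, 3, 2, 3, 0], [0, 0, 0, 0, 0, 0, 0, 0, 3, 0, 4, 4, 2, 0], [0, 0, 0, 0, 0, 0, 0, 0, 0, 0, 0, 0, 0, 3]],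
  [[0, 3, 0, 0, 0, 0, 2, 0, 0, 2, 0, 0, 0, 0], [0, 1, 0, 0, 0, 0, 0, 0, 0, 0, 0, 0, 0, 0], [0, 0, 3, 0, 0, 0, 0, 0, 0, 0, 0, 0, 0, 0], [0, 0, 0, 2, 4, 4, 0, 3, 0, 0, 0, 0, 0, 0], [0, 0, 0, 3, 2, 3, 0, 3, 0, 0, 0, 0, 0, 0], [0, 0, 0, 3, 3, 3, 0, 2, 0, 0, 0, 0, 0, 0], [4, 3, 0, 0, 0, 0, 2, 0, 0, 3, 0, 0, 0, 0], [0, 0, 0, 3, 4, 1, 0, 3, 0, 0, 0, 0, 0, 0], [0, 0, 0, 0, 0, 0, 0, 0, 4, 0, 3, 2, 4, 0], [4, 3, 0, 0, 0, 0, 3, 0, 0, 2, 0, 0, 0, 0], [0, 0, 0, 0, 0, 0, 0, 0, 1, 0, 4, 4, 4, 0], [0, 0, 0, 0, 0, 0, 0, 0, 4, 0, 4, 1, 4, 0], [0, 0, 0, 0, 0, 0, 0, 0, 4, 0, 2, 2, 1, 0], [0, 0, 0, 0, 0, 0, 0, 0, 0, 0, 0, 0, 0, 2]],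
  [[1, 0, 0, 0, 0, 0, 1, 0, 0, 0, 0, 0, 0, 0], [0, 1, 0, 0, 0, 0, 0, 0, 0, 0, 0, 0, 0, 0], [0, 0, 1, 0, 0, 0, 0, 0, 0, 0, 0, 0, 0, 0], [0, 0, 0, 1, 0, 0, 0, 0, 0, 0, 0, 0, 0, 0], [0, 0, 0, 4, 1, 0, 0, 0, 0, 0, 0, 0, 0, 0], [0, 0, 0, 4, 2, 1, 0, 0, 0, 0, 0, 0, 0, 0], [0, 0, 0, 0, 0, 0, 1, 0, 0, 0, 0, 0, 0, 0], [0, 0, 0, 4, 3, 3, 0, 1, 0, 0, 0, 0, 0, 0], [0, 0, 0, 0, 0, 0, 0, 0, 1, 0, 0, 0, 0, 0], [3, 1, 0, 0, 0, 0, 4, 0, 0, 1, 0, 0, 0, 0], [0, 0, 0, 0, 0, 0, 0, 0, 4, 0, 1, 0, 0, 0], [0, 0, 0, 0, 0, 0, 0, 0, 1, 0, 3, 1, 0, 0], [0, 0, 0, 0, 0, 0, 0, 0, 1, 0, 2, 3, 1, 0], [0, 0, 0, 0, 0, 0, 0, 0, 0, 0, 0, 0, 0, 1]],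
  [[1, 0, 0, 0, 0, 0, 4, 0, 0, 0, 0, 0, 0, 0], [0, 1, 0, 0, 0, 0, 0, 0, 0, 0, 0, 0, 0, 0], [0, 0, 1, 0, 0, 0, 0, 0, 0, 0, 0, 0, 0, 0], [0, 0, 0, 1, 0, 0, 0, 0, 0, 0, 0, 0, 0, 0], [0, 0, 0, 1, 1, 0, 0, 0, 0, 0, 0, 0, 0, 0], [0, 0, 0, 4, 3, 1, 0, 0, 0, 0, 0, 0, 0, 0], [0, 0, 0, 0, 0, 0, 1, 0, 0, 0, 0, 0, 0, 0], [0, 0, 0, 1, 3, 2, 0, 1, 0, 0, 0, 0, 0, 0], [0, 0, 0, 0, 0, 0, 0, 0, 1, 0, 0, 0, 0, 0], [2, 4, 0, 0, 0, 0, 4, 0, 0, 1, 0, 0, 0, 0], [0, 0, 0, 0, 0, 0, 0, 0, 1, 0, 1, 0, 0, 0], [0, 0, 0, 0, 0, 0, 0, 0, 1, 0, 2, 1, 0, 0], [0, 0, 0, 0, 0, 0, 0, 0, 4, 0, 2, 2, 1, 0], [0, 0, 0, 0, 0, 0, 0, 0, 0, 0, 0, 0, 0, 1]],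
  [[1, 0, 0, 0, 0, 1, 0, 0, 0, 0, 0, 0, 0, 0], [0, 1, 0, 0, 0, 3, 0, 0, 0, 0, 0, 0, 0, 0], [0, 0, 1, 0, 0, 0, 0, 0, 0, 0, 0, 0, 0, 0], [0, 0, 0, 1, 0, 0, 0, 0, 0, 0, 0, 0, 0, 0], [0, 0, 4, 0, 1, 0, 0, 0, 0, 0, 0, 0, 0, 0], [0, 0, 0, 0, 0, 1, 0, 0, 0, 0, 0, 0, 0, 0], [0, 0, 1, 0, 3, 0, 1, 0, 0, 0, 0, 0, 0, 0], [0, 0, 0, 0, 0, 0, 0, 1, 0, 0, 0, 0, 0, 0], [0, 0, 1, 0, 2, 0, 3, 0, 1, 0, 0, 0, 0, 0], [0, 0, 0, 0, 0, 0, 0, 4, 0, 1, 0, 0, 0, 0], [1, 4, 0, 0, 0, 4, 0, 0, 0, 0, 1, 0, 0, 0], [0, 0, 0, 0, 0, 0, 0, 4, 0, 2, 0, 1, 0, 0], [0, 0, 0, 0, 0, 0, 0, 0, 0, 0, 0, 0, 1, 0], [0, 0, 0, 0, 0, 0, 0, 4, 0, 3, 0, 3, 0, 1]],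
  [[1, 0, 0, 0, 0, 4, 0, 0, 0, 0, 0, 0, 0, 0], [0, 1, 0, 0, 0, 2, 0, 0, 0, 0, 0, 0, 0, 0], [0, 0, 1, 0, 0, 0, 0, 0, 0, 0, 0, 0, 0, 0], [0, 0, 0, 1, 0, 0, 0, 0, 0, 0, 0, 0, 0, 0], [0, 0, 1, 0, 1, 0, 0, 0, 0, 0, 0, 0, 0, 0], [0, 0, 0, 0, 0, 1, 0, 0, 0, 0, 0, 0, 0, 0], [0, 0, 1, 0, 2, 0, 1, 0, 0, 0, 0, 0, 0, 0], [0, 0, 0, 0, 0, 0, 0, 1, 0, 0, 0, 0, 0, 0], [0, 0, 4, 0, 2, 0, 2, 0, 1, 0, 0, 0, 0, 0], [0, 0, 0, 0, 0, 0, 0, 1, 0, 1, 0, 0, 0, 0], [4, 1, 0, 0, 0, 4, 0, 0, 0, 0, 1, 0, 0, 0], [0, 0, 0, 0, 0, 0, 0, 4, 0, 3, 0, 1, 0, 0], [0, 0, 0, 0, 0, 0, 0, 0, 0, 0, 0, 0, 1, 0], [0, 0, 0, 0, 0, 0, 0, 1, 0, 3, 0, 2, 0, 1]],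
  [[1, 4, 0, 0, 0, 0, 0, 0, 0, 0, 0, 0, 0, 0], [0, 4, 0, 0, 0, 0, 0, 0, 0, 0, 0, 0, 0, 0], [0, 0, 0, 0, 0, 0, 0, 0, 0, 0, 0, 0, 0, 4], [0, 0, 0, 0, 0, 0, 0, 0, 1, 0, 0, 0, 0, 0], [0, 0, 0, 0, 0, 0, 0, 0, 0, 0, 1, 0, 0, 0], [0, 0, 0, 0, 0, 0, 0, 0, 0, 0, 0, 4, 0, 0], [0, 0, 0, 0, 0, 0, 1, 0, 0, 0, 0, 0, 0, 0], [0, 0, 0, 0, 0, 0, 0, 0, 0, 0, 0, 0, 4, 0], [0, 0, 0, 4, 0, 0, 0, 0, 0, 0, 0, 0, 0, 0], [0, 0, 0, 0, 0, 0, 0, 0, 0, 1, 0, 0, 0, 0], [0, 0, 0, 0, 4, 0, 0, 0, 0, 0, 0, 0, 0, 0], [0, 0, 0, 0, 0, 1, 0, 0, 0, 0, 0, 0, 0, 0], [0, 0, 0, 0, 0, 0, 0, 1, 0, 0, 0, 0, 0, 0], [0, 0, 4, 0, 0, 0, 0, 0, 0, 0, 0, 0, 0, 0]],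
  [[1, 4, 0, 0, 0, 0, 0, 0, 0, 0, 0, 0, 0, 0], [0, 4, 0, 0, 0, 0, 0, 0, 0, 0, 0, 0, 0, 0], [0, 0, 0, 0, 0, 0, 0, 0, 0, 0, 0, 0, 0, 4], [0, 0, 0, 0, 0, 0, 0, 0, 4, 0, 0, 0, 0, 0], [0, 0, 0, 0, 0, 0, 0, 0, 0, 0, 4, 0, 0, 0], [0, 0, 0, 0, 0, 0, 0, 0, 0, 0, 0, 1, 0, 0], [0, 0, 0, 0, 0, 0, 1, 0, 0, 0, 0, 0, 0, 0], [0, 0, 0, 0, 0, 0, 0, 0, 0, 0, 0, 0, 1, 0], [0, 0, 0, 1, 0, 0, 0, 0, 0, 0, 0, 0, 0, 0], [0, 0, 0, 0, 0, 0, 0, 0, 0, 1, 0, 0, 0, 0], [0, 0, 0, 0, 1, 0, 0, 0, 0, 0, 0, 0, 0, 0], [0, 0, 0, 0, 0, 4, 0, 0, 0, 0, 0, 0, 0, 0], [0, 0, 0, 0, 0, 0, 0, 4, 0, 0, 0, 0, 0, 0], [0, 0, 4, 0, 0, 0, 0, 0, 0, 0, 0, 0, 0, 0]],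
  [[1, 0, 0, 0, 0, 1, 0, 0, 0, 0, 0, 0, 0, 0], [0, 1, 0, 0, 0, 3, 0, 0, 0, 0, 0, 0, 0, 0], [0, 0, 1, 0, 0, 0, 0, 0, 0, 0, 0, 0, 0, 0], [0, 0, 0, 1, 0, 0, 0, 0, 0, 0, 0, 0, 0, 0], [0, 0, 4, 0, 1, 0, 0, 0, 0, 0, 0, 0, 0, 0], [0, 0, 0, 0, 0, 1, 0, 0, 0, 0, 0, 0, 0, 0], [0, 0, 1, 0, 3, 0, 1, 0, 0, 0, 0, 0, 0, 0], [0, 0, 0, 0, 0, 0, 0, 1, 0, 0, 0, 0, 0, 0], [0, 0, 1, 0, 2, 0, 3, 0, 1, 0, 0, 0, 0, 0], [0, 0, 0, 0, 0, 0, 0, 4, 0, 1, 0, 0, 0, 0], [1, 4, 0, 0, 0, 4, 0, 0, 0, 0, 1, 0, 0, 0], [0, 0, 0, 0, 0, 0, 0, 4, 0, 2, 0, 1, 0, 0], [0, 0, 0, 0, 0, 0, 0, 0, 0, 0, 0, 0, 1, 0], [0, 0, 0, 0, 0, 0, 0, 4, 0, 3, 0, 3, 0, 1]],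
  [[1, 0, 0, 0, 0, 4, 0, 0, 0, 0, 0, 0, 0, 0], [0, 1, 0, 0, 0, 2, 0, 0, 0, 0, 0, 0, 0, 0], [0, 0, 1, 0, 0, 0, 0, 0, 0, 0, 0, 0, 0, 0], [0, 0, 0, 1, 0, 0, 0, 0, 0, 0, 0, 0, 0, 0], [0, 0, 1, 0, 1, 0, 0, 0, 0, 0, 0, 0, 0, 0], [0, 0, 0, 0, 0, 1, 0, 0, 0, 0, 0, 0, 0, 0], [0, 0, 1, 0, 2, 0, 1, 0, 0, 0, 0, 0, 0, 0], [0, 0, 0, 0, 0, 0, 0, 1, 0, 0, 0, 0, 0, 0], [0, 0, 4, 0, 2, 0, 2, 0, 1, 0, 0, 0, 0, 0], [0, 0, 0, 0, 0, 0, 0, 1, 0, 1, 0, 0, 0, 0], [4, 1, 0, 0, 0, 4, 0, 0, 0, 0, 1, 0, 0, 0], [0, 0, 0, 0, 0, 0, 0, 4, 0, 3, 0, 1, 0, 0], [0, 0, 0, 0, 0, 0, 0, 0, 0, 0, 0, 0, 1, 0], [0, 0, 0, 0, 0, 0, 0, 1, 0, 3, 0, 2, 0, 1]],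
  [[1, 0, 4, 2, 3, 4, 0, 0, 0, 0, 0, 0, 0, 0], [0, 1, 0, 2, 2, 2, 0, 3, 0, 0, 0, 0, 0, 0], [0, 0, 1, 0, 0, 0, 0, 0, 0, 0, 0, 0, 0, 0], [0, 0, 2, 1, 0, 0, 0, 0, 0, 0, 0, 0, 0, 0], [0, 0, 1, 0, 1, 0, 0, 0, 0, 0, 0, 0, 0, 0], [0, 0, 4, 0, 0, 1, 0, 0, 0, 0, 0, 0, 0, 0], [0, 0, 4, 4, 2, 2, 1, 0, 0, 0, 0, 0, 0, 0], [0, 0, 2, 0, 0, 0, 0, 1, 0, 0, 0, 0, 0, 0], [4, 4, 3, 2, 2, 4, 2, 1, 1, 0, 0, 0, 0, 0], [0, 0, 1, 0, 2, 2, 0, 1, 0, 1, 0, 0, 0, 0], [4, 1, 2, 1, 3, 0, 3, 3, 0, 3, 1, 0, 0, 0], [1, 0, 3, 2, 0, 3, 3, 4, 0, 3, 0, 1, 0, 0], [4, 2, 3, 1, 1, 3, 0, 2, 0, 3, 0, 0, 1, 0], [4, 3, 0, 2, 1, 4, 3, 2, 3, 2, 3, 2, 3, 1]],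
  [[1, 0, 4, 3, 2, 1, 0, 0, 0, 0, 0, 0, 0, 0], [0, 1, 0, 3, 3, 3, 0, 2, 0, 0, 0, 0, 0, 0], [0, 0, 1, 0, 0, 0, 0, 0, 0, 0, 0, 0, 0, 0], [0, 0, 3, 1, 0, 0, 0, 0, 0, 0, 0, 0, 0, 0], [0, 0, 4, 0, 1, 0, 0, 0, 0, 0, 0, 0, 0, 0], [0, 0, 1, 0, 0, 1, 0, 0, 0, 0, 0, 0, 0, 0], [0, 0, 4, 1, 3, 3, 1, 0, 0, 0, 0, 0, 0, 0], [0, 0, 3, 0, 0, 0, 0, 1, 0, 0, 0, 0, 0, 0], [1, 1, 2, 2, 2, 4, 3, 1, 1, 0, 0, 0, 0, 0], [0, 0, 1, 0, 3, 3, 0, 4, 0, 1, 0, 0, 0, 0], [1, 4, 3, 1, 3, 0, 2, 3, 0, 2, 1, 0, 0, 0], [4, 0, 2, 2, 0, 3, 2, 4, 0, 2, 0, 1, 0, 0], [1, 3, 2, 1, 1, 3, 0, 2, 0, 2, 0, 0, 1, 0], [4, 3, 0, 3, 4, 1, 3, 3, 2, 2, 2, 3, 2, 1]],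
  [[1, 0, 4, 2, 4, 1, 0, 0, 0, 0, 0, 0, 0, 0], [0, 1, 0, 2, 1, 3, 0, 0, 0, 0, 0, 0, 0, 0], [0, 0, 1, 0, 0, 0, 0, 0, 0, 0, 0, 0, 0, 0], [0, 0, 0, 1, 0, 0, 0, 0, 0, 0, 0, 0, 0, 0], [0, 0, 4, 0, 1, 0, 0, 0, 0, 0, 0, 0, 0, 0], [0, 0, 2, 0, 0, 1, 0, 0, 0, 0, 0, 0, 0, 0], [0, 0, 1, 2, 3, 0, 1, 0, 0, 0, 0, 0, 0, 0], [0, 0, 2, 0, 0, 0, 0, 1, 0, 0, 0, 0, 0, 0], [0, 0, 1, 3, 2, 0, 3, 0, 1, 0, 0, 0, 0, 0], [0, 0, 4, 0, 2, 1, 0, 4, 0, 1, 0, 0, 0, 0], [1, 4, 1, 4, 0, 4, 4, 0, 0, 0, 1, 0, 0, 0], [3, 0, 1, 1, 0, 0, 3, 4, 0, 2, 0, 1, 0, 0], [4, 2, 4, 1, 3, 2, 0, 3, 0, 4, 0, 0, 1, 0], [4, 3, 0, 1, 2, 2, 2, 4, 3, 3, 4, 3, 0, 1]],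
  [[1, 0, 4, 3, 1, 4, 0, 0, 0, 0, 0, 0, 0, 0], [0, 1, 0, 3, 4, 2, 0, 0, 0, 0, 0, 0, 0, 0], [0, 0, 1, 0, 0, 0, 0, 0, 0, 0, 0, 0, 0, 0], [0, 0, 0, 1, 0, 0, 0, 0, 0, 0, 0, 0, 0, 0], [0, 0, 1, 0, 1, 0, 0, 0, 0, 0, 0, 0, 0, 0], [0, 0, 3, 0, 0, 1, 0, 0, 0, 0, 0, 0, 0, 0], [0, 0, 1, 3, 2, 0, 1, 0, 0, 0, 0, 0, 0, 0], [0, 0, 3, 0, 0, 0, 0, 1, 0, 0, 0, 0, 0, 0], [0, 0, 4, 3, 2, 0, 2, 0, 1, 0, 0, 0, 0, 0], [0, 0, 4, 0, 3, 4, 0, 1, 0, 1, 0, 0, 0, 0], [4, 1, 4, 4, 0, 4, 1, 0, 0, 0, 1, 0, 0, 0], [2, 0, 4, 1, 0, 0, 2, 4, 0, 3, 0, 1, 0, 0], [1, 3, 1, 1, 3, 2, 0, 3, 0, 1, 0, 0, 1, 0], [4, 3, 0, 4, 3, 3, 2, 1, 2, 3, 1, 2, 0, 1]],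
  [[1, 0, 1, 2, 1, 1, 0, 0, 0, 0, 0, 0, 0, 0], [0, 1, 0, 2, 4, 3, 0, 0, 0, 0, 0, 0, 0, 0], [0, 0, 1, 0, 0, 0, 0, 0, 0, 0, 0, 0, 0, 0], [0, 0, 0, 1, 0, 0, 0, 0, 0, 0, 0, 0, 0, 0], [0, 0, 4, 0, 1, 0, 0, 0, 0, 0, 0, 0, 0, 0], [0, 0, 3, 0, 0, 1, 0, 0, 0, 0, 0, 0, 0, 0], [0, 0, 1, 3, 3, 0, 1, 0, 0, 0, 0, 0, 0, 0], [0, 0, 2, 0, 0, 0, 0, 1, 0, 0, 0, 0, 0, 0], [0, 0, 1, 2, 2, 0, 3, 0, 1, 0, 0, 0, 0, 0], [0, 0, 4, 0, 2, 4, 0, 4, 0, 1, 0, 0, 0, 0], [1, 4, 4, 4, 0, 4, 1, 0, 0, 0, 1, 0, 0, 0], [2, 0, 1, 4, 0, 0, 3, 4, 0, 2, 0, 1, 0, 0], [4, 2, 1, 1, 2, 2, 0, 2, 0, 1, 0, 0, 1, 0], [1, 2, 0, 4, 2, 3, 2, 4, 3, 3, 1, 3, 0, 1]],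
  [[1, 0, 1, 3, 4, 4, 0, 0, 0, 0, 0, 0, 0, 0], [0, 1, 0, 3, 1, 2, 0, 0, 0, 0, 0, 0, 0, 0], [0, 0, 1, 0, 0, 0, 0, 0, 0, 0, 0, 0, 0, 0], [0, 0, 0, 1, 0, 0, 0, 0, 0, 0, 0, 0, 0, 0], [0, 0, 1, 0, 1, 0, 0, 0, 0, 0, 0, 0, 0, 0], [0, 0, 2, 0, 0, 1, 0, 0, 0, 0, 0, 0, 0, 0], [0, 0, 1, 2, 2, 0, 1, 0, 0, 0, 0, 0, 0, 0], [0, 0, 3, 0, 0, 0, 0, 1, 0, 0, 0, 0, 0, 0], [0, 0, 4, 2, 2, 0, 2, 0, 1, 0, 0, 0, 0, 0], [0, 0, 4, 0, 3, 1, 0, 1, 0, 1, 0, 0, 0, 0], [4, 1, 1, 4, 0, 4, 4, 0, 0, 0, 1, 0, 0, 0], [3, 0, 4, 4, 0, 0, 2, 4, 0, 3, 0, 1, 0, 0], [1, 3, 4, 1, 2, 2, 0, 2, 0, 4, 0, 0, 1, 0], [1, 2, 0, 1, 3, 2, 2, 1, 2, 3, 4, 2, 0, 1]],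
  [[1, 0, 2, 0, 0, 0, 0, 0, 0, 0, 0, 0, 0, 0], [0, 1, 4, 0, 0, 0, 0, 0, 0, 0, 0, 0, 0, 0], [0, 0, 1, 0, 0, 0, 0, 0, 0, 0, 0, 0, 0, 0], [0, 0, 0, 1, 0, 0, 0, 0, 0, 0, 0, 0, 0, 0], [0, 0, 0, 0, 1, 0, 0, 0, 0, 0, 0, 0, 0, 0], [0, 0, 0, 0, 0, 1, 0, 0, 0, 0, 0, 0, 0, 0], [0, 0, 0, 0, 0, 0, 1, 0, 0, 0, 0, 0, 0, 0], [0, 0, 0, 0, 0, 0, 0, 1, 0, 0, 0, 0, 0, 0], [0, 0, 0, 2, 0, 0, 0, 0, 1, 0, 0, 0, 0, 0], [0, 0, 0, 0, 0, 0, 0, 0, 0, 1, 0, 0, 0, 0], [0, 0, 0, 0, 2, 0, 0, 0, 0, 0, 1, 0, 0, 0], [0, 0, 0, 0, 0, 3, 0, 0, 0, 0, 0, 1, 0, 0], [0, 0, 0, 0, 0, 0, 0, 3, 0, 0, 0, 0, 1, 0], [0, 3, 1, 0, 0, 0, 0, 0, 0, 0, 0, 0, 0, 1]],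
  [[1, 0, 3, 0, 0, 0, 0, 0, 0, 0, 0, 0, 0, 0], [0, 1, 1, 0, 0, 0, 0, 0, 0, 0, 0, 0, 0, 0], [0, 0, 1, 0, 0, 0, 0, 0, 0, 0, 0, 0, 0, 0], [0, 0, 0, 1, 0, 0, 0, 0, 0, 0, 0, 0, 0, 0], [0, 0, 0, 0, 1, 0, 0, 0, 0, 0, 0, 0, 0, 0], [0, 0, 0, 0, 0, 1, 0, 0, 0, 0, 0, 0, 0, 0], [0, 0, 0, 0, 0, 0, 1, 0, 0, 0, 0, 0, 0, 0], [0, 0, 0, 0, 0, 0, 0, 1, 0, 0, 0, 0, 0, 0], [0, 0, 0, 3, 0, 0, 0, 0, 1, 0, 0, 0, 0, 0], [0, 0, 0, 0, 0, 0, 0, 0, 0, 1, 0, 0, 0, 0], [0, 0, 0, 0, 3, 0, 0, 0, 0, 0, 1, 0, 0, 0], [0, 0, 0, 0, 0, 2, 0, 0, 0, 0, 0, 1, 0, 0], [0, 0, 0, 0, 0, 0, 0, 2, 0, 0, 0, 0, 1, 0], [0, 2, 1, 0, 0, 0, 0, 0, 0, 0, 0, 0, 0, 1]]]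

theorem rs : g2B A 4 Rs [(0, 1), (1, 1), (2, 1), (3, 1), (4, 1), (5, 1), (6, 1), (7, 1), (8, 1), (9, 1), (10, 1), (11, 1)] = true := by decide +kernel

theorem mrep : ∃ m, MRep A eG2 (τG (ZMod 5)) m Ms :=
  Tl.mrep_words (Ms := Ms) (Tl.mrep_words (Ms := M8) (Tl.mrep_words (Ms := M4) (exists_G2 rs) [[6, 6, 5, 5, 6, 6, 6, 6, 6, 6, 5, 6, 6, 6, 6, 4, 4, 7, 6, 6, 5, 5, 6, 6, 6, 6, 6, 6, 5, 6, 6, 6, 6, 6, 6, 5, 5, 6, 6, 6, 6, 6, 6, 5, 6, 6, 6, 6], [7], [8], [11, 0, 0, 0, 0, 11, 7, 7, 7, 4, 7, 7, 7, 4]] (by decide +kernel))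
    [[0], [0, 0, 0, 0, 0, 0, 0], [1], [1, 1, 1, 1], [2], [2, 2, 2, 2], [3], [3, 3, 3]] (by decide +kernel)) [[3, 3, 1, 5, 0, 4, 1, 4, 0, 6, 4, 2, 0, 3, 6, 4, 6], [0], [1], [2], [3], [4], [5], [6], [7], [4], [5], [1, 4, 0], [1, 5, 0], [3, 4, 2], [3, 5, 2], [2, 4, 3], [2, 5, 3], [5, 1, 5, 0, 4, 1, 4, 0], [1, 5, 0, 5, 1, 4, 0, 4]] (by decide +kernel)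

theorem relG : allL (invWords 1 19 ++ PY.R0) (fun u => A.weqB 14 Ms u []) = true := by decide +kernel

theorem isoP : Nonempty (PY.G ≃* Lie.chevG2.group (ZMod 5)) := by
  obtain ⟨m, h⟩ := mrep
  have hs := h.sat relG
  have ht : ∀ x, 19 ≤ x → m x = 1 := fun x hx => h.triv hx
  obtain ⟨φ, hφ⟩ := PY.pres.lift _ m
    (inv_of_sat (by decide) (by decide) ht (hs.mono fun r hr => List.mem_append_left _ hr)) ht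
    (hs.mono fun r hr => List.mem_append_right _ hr)
  haveI := PY.simple
  have i := inj_of_simple φ (a := PY.g 0) (by
    rw [hφ]
    intro e
    have := h.map 0
    rw [e, map_one] at this
    have h2 := congrFun (congrFun this (eG2.symm 0)) (eG2.symm 2)
    rw [Matrix.one_apply_ne (by decide)] at h2
    revert h2
    change _ ≠ ((nth 0 (nth [] (nth (idM 14) Ms 0) 0) 2 : ℕ) : ZMod 5)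
    decide +kernel)
  have hc : Nat.card (Lie.chevG2.group (ZMod 5)) = 5859000000 :=
    (S1059.result (q := 5) (by simp)).trans (by norm_num)
  haveI : Finite (Lie.chevG2.group (ZMod 5)) := Nat.finite_of_card_ne_zero (by rw [hc]; norm_num)
  exact ⟨MulEquiv.ofBijective φ (i.bijective_of_nat_card_le (by rw [hc, PY.faith.card]))⟩

/-- the letters of the small presentation as letters of the large one -/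
def σ : List (List ℕ) := [[10], [0], [1], [2], [3], [4], [5], [6], [7], [20], [21], [22], [23], [24], [25], [26], [27], [28], [29]]

/-- and back -/
def τ : List ℕ := [1, 2, 3, 4, 5, 6, 7, 8, 0, 0, 0, 0, 0, 0, 0, 0, 0, 0, 0, 0, 9, 10, 11, 12, 13, 14, 15, 16, 17, 18, 0, 0, 0, 0, 0, 0, 0, 0, 0, 0, 0, 0, 0, 0, 0, 0, 0, 0, 0, 0, 0, 0, 0, 0, 0, 0, 0, 0, 0, 0, 0, 0, 0, 0, 0, 0, 0, 0, 0, 0, 0, 0, 0, 0, 0, 0, 0, 0]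

theorem e_sq : Ly111.g 10 * Ly111.g 10 = 1 := by
  have := Ly111.pres.sat [10, 10] (memW_sound (by decide +kernel))
  simpa using this

theorem back : ∀ x < 78, x ∈ [11] ++ σ.flatten → Ly111.g x = sub σ Ly111.g (nth 0 τ x) := by
  intro x _ hx
  rcases List.mem_append.1 hx with c | c
  · rw [List.mem_singleton.1 c]
    have := Ly111.pres.inv 10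
    rw [show inv 0 10 = 11 by decide +kernel] at this
    rw [this, show sub σ Ly111.g (nth 0 τ 11) = ev Ly111.g [10] from rfl, ev_single]
    exact (eq_inv_of_mul_eq_one_left e_sq).symm
  · have : ∀ x ∈ σ.flatten, nth [] σ (nth 0 τ x) = [x] := by decide +kernel
    rw [sub, this x c, ev_single]

theorem satσ : Sat (sub σ Ly111.g) PY.R0 := by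
  have e : PY.R0 = ((coxWords 0 Ly111.gens Ly111.enc Ly.edges Ly.extra).take 44).map
      (List.map (nth 0 τ)) := by decide +kernel
  have l : ∀ r ∈ (coxWords 0 Ly111.gens Ly111.enc Ly.edges Ly.extra).take 44,
      ∀ x ∈ r, x < 78 ∧ x ∈ [11] ++ σ.flatten := by decide +kernel
  rw [e]
  intro u hu
  obtain ⟨r, hr, rfl⟩ := List.mem_map.1 hu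
  rw [← Ly111.pres.sat r (List.mem_of_mem_take hr), ev, List.map_map]
  exact (ev_congr fun x hx => back x (l r hr x hx).1 (l r hr x hx).2).symm

theorem invσ : Inv 1 (sub σ Ly111.g) := by
  refine inv_of_sat (nc := 19) (by decide) (by decide) (fun x hx => sub_triv _ hx) (sat_sub fun r hr => ?_)
  have : ∀ r ∈ substL σ (invWords 1 19), r = [10, 10] ∨ r ∈ invWords 0 78 := by decide +kernel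
  rcases this r hr with rfl | c
  · simpa using e_sq
  · exact Tl.sat_invWords Ly111.pres.inv 78 r c

theorem defs : ∀ q ∈ ([(0, [4, 4, 2, 6, 1, 5, 2, 5, 1, 7, 5, 3, 1, 4, 7, 5, 7]), (1, [1]), (2, [2]), (3, [3]), (4, [4]), (5, [5]), (6, [6]), (7, [7]), (8, [8]), (9, [5]), (10, [6]), (11, [2, 5, 1]), (12, [2, 6, 1]), (13, [4, 5, 3]), (14, [4, 6, 3]), (15, [3, 5, 4]), (16, [3, 6, 4]), (17, [6, 2, 6, 1, 5, 2, 5, 1]), (18, [2, 6, 1, 6, 2, 5, 1, 5])] : List (ℕ × List ℕ)), PY.g q.1 = ev PY.g q.2 := by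
  have := PY.faith.sat PYT.rep (K := pairWords 1 [([0], [4, 4, 2, 6, 1, 5, 2, 5, 1, 7, 5, 3, 1, 4, 7, 5, 7]), ([1], [1]), ([2], [2]), ([3], [3]), ([4], [4]), ([5], [5]), ([6], [6]), ([7], [7]), ([8], [8]), ([9], [5]), ([10], [6]), ([11], [2, 5, 1]), ([12], [2, 6, 1]), ([13], [4, 5, 3]), ([14], [4, 6, 3]), ([15], [3, 5, 4]), ([16], [3, 6, 4]), ([17], [6, 2, 6, 1, 5, 2, 5, 1]), ([18], [2, 6, 1, 6, 2, 5, 1, 5])]) (by decide +kernel)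
  have := pairWords_eq PY.pres.inv this
  intro q hq
  have h2 := this ([q.1], q.2) (by revert q; decide +kernel)
  simpa using h2

theorem main : Nonempty ((Subgroup.closure ({Ly.a, Ly.b, Ly.c, Ly.d} : Set (FreeGroup Ly.Gen))).map
    (PresentedGroup.mk (coxRelators Ly.edges ∪ {r | r ∈ Ly.extra})) ≃* Lie.chevG2.group (ZMod 5)) := by
  obtain ⟨e⟩ := isoP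
  obtain ⟨ψ, hψ⟩ := PY.pres.lift _ (sub σ Ly111.g) invσ (fun x hx => sub_triv _ hx) satσ
  haveI := PY.simple
  have s1 : ∀ x, nth [] σ x = [nth 0 [10, 0, 1, 2, 3, 4, 5, 6, 7, 20, 21, 22, 23, 24, 25, 26, 27, 28, 29] x] ∨ 19 ≤ x := fun x => by
    by_cases c : x < 19
    · exact Or.inl (by revert x; decide +kernel)
    · exact Or.inr (not_lt.1 c)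
  have val : ∀ x y, nth [] σ x = [y] → ψ (PY.g x) = Ly111.g y := fun x y h => by
    rw [hψ, sub, h, ev_single]
  have ha : ψ (PY.g 1) = PresentedGroup.of Ly.Gen.a := val 1 0 rfl
  have hb : ψ (PY.g 3) = PresentedGroup.of Ly.Gen.b := val 3 2 rfl
  have hc : ψ (PY.g 5) = PresentedGroup.of Ly.Gen.c := val 5 4 rfl
  have hd : ψ (PY.g 7) = PresentedGroup.of Ly.Gen.d := val 7 6 rfl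
  have i := inj_of_simple ψ (a := PY.g 1) (ha ▸ Ly111.a_ne)
  have hr : ψ.range = (Subgroup.closure ({Ly.a, Ly.b, Ly.c, Ly.d} : Set (FreeGroup Ly.Gen))).map
      (PresentedGroup.mk (coxRelators Ly.edges ∪ {r | r ∈ Ly.extra})) := by
    refine le_antisymm ?_ ?_
    · set K := (Subgroup.closure ({Ly.a, Ly.b, Ly.c, Ly.d} : Set (FreeGroup Ly.Gen))).map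
        (PresentedGroup.mk (coxRelators Ly.edges ∪ {r | r ∈ Ly.extra}))
      have k1 : PY.g 1 ∈ K.comap ψ := ⟨Ly.a, Subgroup.subset_closure (by simp), ha.symm⟩
      have k3 : PY.g 3 ∈ K.comap ψ := ⟨Ly.b, Subgroup.subset_closure (by simp), hb.symm⟩
      have k5 : PY.g 5 ∈ K.comap ψ := ⟨Ly.c, Subgroup.subset_closure (by simp), hc.symm⟩
      have k7 : PY.g 7 ∈ K.comap ψ := ⟨Ly.d, Subgroup.subset_closure (by simp), hd.symm⟩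
      have iv : ∀ x y, inv 1 x = y → PY.g x ∈ K.comap ψ → PY.g y ∈ K.comap ψ := fun x y h k => by
        rw [← h, PY.pres.inv]; exact inv_mem k
      have k8 : ∀ x, 1 ≤ x ∧ x ≤ 8 → PY.g x ∈ K.comap ψ := fun x ⟨h1, h2⟩ => by
        interval_cases x
        exacts [k1, iv 1 2 (by decide +kernel) k1, k3, iv 3 4 (by decide +kernel) k3, k5,
          iv 5 6 (by decide +kernel) k5, k7, iv 7 8 (by decide +kernel) k7]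
      have all : ∀ x, PY.g x ∈ K.comap ψ := fun x => by
        by_cases c : x < 19
        · have : ∀ x < 19, ∃ q ∈ ([(0, [4, 4, 2, 6, 1, 5, 2, 5, 1, 7, 5, 3, 1, 4, 7, 5, 7]), (1, [1]), (2, [2]), (3, [3]), (4, [4]), (5, [5]), (6, [6]), (7, [7]), (8, [8]), (9, [5]), (10, [6]), (11, [2, 5, 1]), (12, [2, 6, 1]), (13, [4, 5, 3]), (14, [4, 6, 3]), (15, [3, 5, 4]), (16, [3, 6, 4]), (17, [6, 2, 6, 1, 5, 2, 5, 1]), (18, [2, 6, 1, 6, 2, 5, 1, 5])] : List (ℕ × List ℕ)), q.1 = x ∧ ∀ y ∈ q.2, 1 ≤ y ∧ y ≤ 8 := by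
            decide +kernel
          obtain ⟨q, q1, rfl, q3⟩ := this x c
          rw [defs q q1]
          exact ev_mem fun y hy => k8 y (q3 y hy)
        · rw [PY.pres.triv x (not_lt.1 c)]; exact one_mem _
      rintro _ ⟨a, rfl⟩
      obtain ⟨v, rfl⟩ := PY.pres.surj a
      exact (ev_mem fun y _ => all y : ev PY.g v ∈ K.comap ψ)
    · rw [Subgroup.map_le_iff_le_comap, Subgroup.closure_le]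
      rintro _ (rfl | rfl | rfl | rfl)
      exacts [⟨_, ha⟩, ⟨_, hb⟩, ⟨_, hc⟩, ⟨_, hd⟩]
  exact ⟨((MulEquiv.subgroupCongr hr).symm.trans (MonoidHom.ofInjective i).symm).trans e⟩

end Cfsg.Agent.H27.LyG
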