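import Cfsg.Agent.H17.Grp2
import Cfsg.Agent.H27.ON
import Cfsg.Agent.H27.ONS

/-! An auxiliary presented group. -/

namespace Cfsg.Agent.H17.PJ

noncomputable def R0 : List (List ℕ) := [[nat_lit 0, nat_lit 1, nat_lit 0, nat_lit 1, nat_lit 0, nat_lit 1],
  [nat_lit 0, nat_lit 2, nat_lit 0, nat_lit 2],
  [nat_lit 0, nat_lit 3, nat_lit 0, nat_lit 3],
  unp 8 10 (nat_lit 0x4000400040004000400),
  unp 8 10 (nat_lit 0x2010201020102010201),
  [nat_lit 1, nat_lit 3, nat_lit 1, nat_lit 3],
  [nat_lit 1, nat_lit 4, nat_lit 1, nat_lit 4],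
  [nat_lit 2, nat_lit 3, nat_lit 2, nat_lit 3, nat_lit 2, nat_lit 3],
  [nat_lit 2, nat_lit 4, nat_lit 2, nat_lit 4],
  [nat_lit 3, nat_lit 4, nat_lit 3, nat_lit 4],
  unp 8 15 (nat_lit 0x20100020102000102000102000100),
  unp 8 16 (nat_lit 0x4000104000401000401000403000100)]

/-- the group -/
abbrev G : Type := PG 5 5 R0

/-- the letters -/
noncomputable def g : ℕ → G := pgen 5 5 R0

theorem pres : Presents 5 5 R0 g := presents_PG _ _ _

end Cfsg.Agent.H17.PJ

/-! Upper bounds for the orders of a chain of subgroups, by coset tables. -/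

namespace Cfsg.Agent.H17

set_option maxRecDepth 100000
set_option Elab.async false
namespace PJU0

noncomputable def net0 : Net := benes 6
 [nat_lit 0x820,
  nat_lit 0x1c0]
 [nat_lit 0x240,
  nat_lit 0x480,
  nat_lit 0x248]
noncomputable def net1 : Net := benes 6
 [nat_lit 0x820,
  nat_lit 0xc64]
 [nat_lit 0x208,
  nat_lit 0x490,
  nat_lit 0x48]
noncomputable def net2 : Net := benes 6
 [nat_lit 0x410,
  nat_lit 0xd80]
 [nat_lit 0x208,
  nat_lit 0x412,
  nat_lit 0x248]
noncomputable def net3 : Net := benes 6
 [nat_lit 0x820,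
  nat_lit 0x1c0]
 [nat_lit 0x40,
  nat_lit 0x480,
  nat_lit 0x201]
noncomputable def D : TD := ⟨4, 4, 11, 12, 4, 2, [net0, net1, net2, net3]⟩
noncomputable def K : List (List ℕ) := [[nat_lit 0, nat_lit 1, nat_lit 0, nat_lit 1, nat_lit 0, nat_lit 1],
  [nat_lit 0, nat_lit 2, nat_lit 0, nat_lit 2],
  [nat_lit 0, nat_lit 3, nat_lit 0, nat_lit 3],
  unp 8 10 (nat_lit 0x2010201020102010201),
  [nat_lit 1, nat_lit 3, nat_lit 1, nat_lit 3],
  [nat_lit 2, nat_lit 3, nat_lit 2, nat_lit 3, nat_lit 2, nat_lit 3],
  unp 8 15 (nat_lit 0x20100020102000102000102000100),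
  unp 8 190 (nat_lit 0x3000102030200010002000100020302010002010203020102000102030200010002000100020302000100020001000203020100020102030201020001000100020001000203020100020102030201020001020302000100020001000203020001000200010002030201000201020302010200010203020001000200010002030201000201020302010200010203020001000200010002030200010002000100020302010002010203020102000102030200010002000100020302010002),
  [nat_lit 0, nat_lit 0],
  [nat_lit 1, nat_lit 1],
  [nat_lit 2, nat_lit 2],
  [nat_lit 3, nat_lit 3]]
noncomputable def W : List (List ℕ) := [[nat_lit 0],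
  [nat_lit 1],
  [nat_lit 2]]
noncomputable def t0 : ℕ := nat_lit 0x7800064e5530
noncomputable def i0 : ℕ := nat_lit 0x7f7
noncomputable def t1 : ℕ := nat_lit 0x10002001588
noncomputable def i1 : ℕ := nat_lit 0x59b
noncomputable def t2 : ℕ := nat_lit 0x400480081264
noncomputable def i2 : ℕ := nat_lit 0x6e5
noncomputable def t3 : ℕ := nat_lit 0x4e031030c3a82c2
noncomputable def i3 : ℕ := nat_lit 0x7fe
noncomputable def C : TT := ⟨5, 3, [t0, t1, t2, t3], 1, [i0, i1, i2, i3], K, W⟩
noncomputable def rs1 : List Rule := [.bulk 1 4, .bulk 2 12, .bulk 4 12, .bulk 6 40, .sub 0 0, .bulk 8 2, .rel 0 5 4, .sub 1 0, .bulk 9 2, .rel 0 4 5, .sub 2 0, .bulk 10 2, .rel 3 7 9, .bulk 11 2, .rel 5 2 5, .rel 7 8 189]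
noncomputable def rss : List (List Rule) := [rs1]
noncomputable def ds : List (List (List ℕ)) := [[[nat_lit 1]],
 [[nat_lit 17]],
 [[nat_lit 33]],
 [[nat_lit 57]],
 [[nat_lit 73]],
 [[nat_lit 97]],
 [[nat_lit 129]],
 [unp 16 10 (nat_lit 0x1800000000001800210018000000000018),
  unp 16 9 (nat_lit 0x1800000010001000290010001000000018),
  unp 16 13 (nat_lit 0x10000b00180000001000100018000900180010001000000018),
  unp 16 14 (nat_lit 0x30018000000100008000800180011001800080008001000000018),
  [nat_lit 24, nat_lit 24, nat_lit 17, nat_lit 24, nat_lit 24, nat_lit 8],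
  unp 16 8 (nat_lit 0x100018001000180018000900180018),
  [nat_lit 24, nat_lit 24, nat_lit 33, nat_lit 24, nat_lit 24, nat_lit 0],
  [nat_lit 24, nat_lit 24, nat_lit 17, nat_lit 24, nat_lit 24, nat_lit 8],
  [nat_lit 24, nat_lit 24, nat_lit 33, nat_lit 24, nat_lit 24, nat_lit 0],
  unp 16 28 (nat_lit 0x24001c0014000b000300180010000800000010000800080010000000080010000100100008000000100008000800100000000800100018),
  unp 16 20 (nat_lit 0x30018001000080000001000080000000000100029001000000000000800100000000800100018),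
  unp 16 13 (nat_lit 0x14001c00230033001800000000000800310008000000000018),
  unp 16 17 (nat_lit 0xc0004001800100008001000080010001000190010001000080010000800100018),
  unp 16 15 (nat_lit 0x1800100008001000080018001800110018001800080010000800100018),
  unp 16 10 (nat_lit 0x10001800100010001800090018001000100018),
  unp 16 12 (nat_lit 0x400180010000800080018001100180008000800100018),
  unp 16 14 (nat_lit 0x40018001000080010001800180009001800180010000800100018),
  unp 16 13 (nat_lit 0x18001000080000001000100029001000100000000800100018),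
  unp 16 16 (nat_lit 0x3001800100008000000100018001800210018001800100000000800100018),
  unp 16 17 (nat_lit 0x180010000800000010000800180018001100180018000800100000000800100018),
  unp 16 16 (nat_lit 0x83001800000010000800000000001800210018000000000008001000000018),
  unp 16 17 (nat_lit 0x5c0004001800100008000000100018001800090018001800100000000800100018),
  unp 16 13 (nat_lit 0x18001000080000001000100029001000100000000800100018),
  unp 16 14 (nat_lit 0x40018001000080010001800180021001800180010000800100018),
  unp 16 14 (nat_lit 0x9c0094009b00180010000800100010001900100010000800100018),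
  unp 16 14 (nat_lit 0x40018001000080010001800180011001800180010000800100018),
  unp 16 40 (nat_lit 0x64004c003b0033002300130004001400240034003c004c0063001800100008001000080018001000100008001000000008001000010010000800000010000800100010001800080010000800100018),
  unp 16 16 (nat_lit 0xcb001800000010000800000000000800310008000000000008001000000018),
  unp 16 23 (nat_lit 0x7c00940004002c001b00030093007b001800100008001000080010000000010000001000080010000800100018),
  unp 16 15 (nat_lit 0x1400030018001000080010000800100021001000080010000800100018),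
  unp 16 15 (nat_lit 0x400040018001000080010000800180009001800080010000800100018),
  [nat_lit 4, nat_lit 139],
  [nat_lit 4, nat_lit 155],
  [nat_lit 4, nat_lit 132, nat_lit 3],
  [nat_lit 4, nat_lit 187],
  [nat_lit 4, nat_lit 20],
  [nat_lit 4, nat_lit 259],
  [nat_lit 4],
  [nat_lit 4],
  [nat_lit 36, nat_lit 212],
  [nat_lit 4],
  [nat_lit 4, nat_lit 19],
  [nat_lit 4],
  [nat_lit 4, nat_lit 332],
  [nat_lit 4],
  [nat_lit 20, nat_lit 340, nat_lit 3],
  [nat_lit 4, nat_lit 363],
  [nat_lit 4, nat_lit 20],
  [nat_lit 4, nat_lit 16],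
  [nat_lit 4, nat_lit 387],
  unp 16 190 (nat_lit 0x10000000080010001800100000000800000010000000080000001000180010000800000010000800100018001000080010000000080010001800100000000800000010000000080000001000180010000000080000001000000008000000100018001000080000001000080010001800100008001000000008001000180010000000080000001000000008000000100018001000080000001000080010001800100008001000000008001000180010000000080000001000000008000000100018001000000008000000100000000800000010001800100008000000100008001000180010000800100000000800100018001000000008000000100000000800000008000000100008001000180010000800100000000800100018001000000008000000100000000800000010001800100000000800000010000000080000001000180010000800000010000800100018001000080010000000080010001800100000000800000010000000080000001000180010000800000003)],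
 [],
 [],
 [],
 []]
theorem goodB : D.goodB = true := by decide +kernel
theorem good : D.Good := TD.goodB_sound goodB
theorem tree : treeB D C 1 = true := by decide +kernel
theorem b1 : batchB D C 1 rs1 = true := by decide +kernel
theorem allB : AllB D C rss 1 := ⟨b1, trivial⟩
theorem satK : Sat D.ρ K := TD.satB_sound good.toShape (by decide +kernel)
theorem cert : TCert D C rss := ⟨good, satK, tree, allB⟩
noncomputable def σ : List (List ℕ) := [[nat_lit 0],
  [nat_lit 1],
  [nat_lit 2],
  [nat_lit 3]]
theorem der : chkDer 5 (substL σ K) ds PJ.R0 = true := by decide +kernel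

end PJU0

namespace PJU1

noncomputable def net0 : Net := benes 5
 [nat_lit 0x252]
 [nat_lit 0x20,
  nat_lit 0x14a,
  nat_lit 0x84,
  nat_lit 0x14a,
  nat_lit 0xa4]
noncomputable def net1 : Net := benes 5
 [nat_lit 0x318]
 [nat_lit 0x140,
  nat_lit 0xa0,
  nat_lit 0x14a]
noncomputable def net2 : Net := benes 5
 [nat_lit 0x39c]
 [nat_lit 0xa0,
  nat_lit 0x140,
  nat_lit 0xa5]
noncomputable def D : TD := ⟨3, 3, 10, 10, 4, 2, [net0, net1, net2]⟩
noncomputable def K : List (List ℕ) := [[nat_lit 0, nat_lit 1, nat_lit 0, nat_lit 1, nat_lit 0, nat_lit 1],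
  [nat_lit 0, nat_lit 2, nat_lit 0, nat_lit 2],
  unp 8 10 (nat_lit 0x2010201020102010201),
  unp 8 15 (nat_lit 0x20100020102000102000102000100),
  [nat_lit 0, nat_lit 0],
  [nat_lit 1, nat_lit 1],
  [nat_lit 2, nat_lit 2]]
noncomputable def W : List (List ℕ) := [[nat_lit 0],
  [nat_lit 1]]
noncomputable def t0 : ℕ := nat_lit 0x901826c698
noncomputable def i0 : ℕ := nat_lit 0x3fb
noncomputable def t1 : ℕ := nat_lit 0x8026c4
noncomputable def i1 : ℕ := nat_lit 0x2cd
noncomputable def t2 : ℕ := nat_lit 0x8004080132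
noncomputable def i2 : ℕ := nat_lit 0x372
noncomputable def C : TT := ⟨4, 2, [t0, t1, t2], 1, [i0, i1, i2], K, W⟩
noncomputable def rs1 : List Rule := [.bulk 0 48, .bulk 1 4, .bulk 3 40, .sub 0 0, .bulk 4 2, .sub 1 0, .bulk 5 2, .bulk 6 2, .rel 2 6 9]
noncomputable def rss : List (List Rule) := [rs1]
noncomputable def ds : List (List (List ℕ)) := [[[nat_lit 1]],
 [[nat_lit 17]],
 [[nat_lit 49]],
 [[nat_lit 105]],
 [],
 [],
 []]
theorem goodB : D.goodB = true := by decide +kernel
theorem good : D.Good := TD.goodB_sound goodB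
theorem tree : treeB D C 1 = true := by decide +kernel
theorem b1 : batchB D C 1 rs1 = true := by decide +kernel
theorem allB : AllB D C rss 1 := ⟨b1, trivial⟩
theorem satK : Sat D.ρ K := TD.satB_sound good.toShape (by decide +kernel)
theorem cert : TCert D C rss := ⟨good, satK, tree, allB⟩
noncomputable def σ : List (List ℕ) := [[nat_lit 0],
  [nat_lit 1],
  [nat_lit 2]]
theorem der : chkDer 5 (substL σ K) ds PJ.R0 = true := by decide +kernel

end PJU1

namespace PJU2

noncomputable def net0 : Net := benes 1
 []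
 [nat_lit 0x2]
noncomputable def net1 : Net := benes 1
 []
 [nat_lit 0x1]
noncomputable def D : TD := ⟨2, 2, 3, 3, 2, 1, [net0, net1]⟩
noncomputable def K : List (List ℕ) := [[nat_lit 0, nat_lit 1, nat_lit 0, nat_lit 1, nat_lit 0, nat_lit 1],
  [nat_lit 0, nat_lit 0],
  [nat_lit 1, nat_lit 1]]
noncomputable def W : List (List ℕ) := [[nat_lit 0]]
noncomputable def t0 : ℕ := nat_lit 0xc
noncomputable def i0 : ℕ := nat_lit 0x5
noncomputable def t1 : ℕ := nat_lit 0x102
noncomputable def i1 : ℕ := nat_lit 0x6
noncomputable def C : TT := ⟨3, 2, [t0, t1], 1, [i0, i1], K, W⟩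
noncomputable def rs1 : List Rule := [.sub 0 0, .bulk 1 2, .bulk 2 2, .rel 0 2 5]
noncomputable def rss : List (List Rule) := [rs1]
noncomputable def ds : List (List (List ℕ)) := [[[nat_lit 1]],
 [],
 []]
theorem goodB : D.goodB = true := by decide +kernel
theorem good : D.Good := TD.goodB_sound goodB
theorem tree : treeB D C 1 = true := by decide +kernel
theorem b1 : batchB D C 1 rs1 = true := by decide +kernel
theorem allB : AllB D C rss 1 := ⟨b1, trivial⟩
theorem satK : Sat D.ρ K := TD.satB_sound good.toShape (by decide +kernel)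
theorem cert : TCert D C rss := ⟨good, satK, tree, allB⟩
noncomputable def σ : List (List ℕ) := [[nat_lit 0],
  [nat_lit 1]]
theorem der : chkDer 5 (substL σ K) ds PJ.R0 = true := by decide +kernel

end PJU2

namespace PJU3

noncomputable def net0 : Net := benes 1
 []
 [nat_lit 0x1]
noncomputable def D : TD := ⟨1, 1, 2, 2, 1, 0, [net0]⟩
noncomputable def K : List (List ℕ) := [[nat_lit 0, nat_lit 0]]
noncomputable def W : List (List ℕ) := []
noncomputable def t0 : ℕ := nat_lit 0x2
noncomputable def i0 : ℕ := nat_lit 0x2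
noncomputable def C : TT := ⟨1, 0, [t0], 1, [i0], K, W⟩
noncomputable def rs1 : List Rule := [.bulk 0 2]
noncomputable def rss : List (List Rule) := [rs1]
noncomputable def ds : List (List (List ℕ)) := [[]]
theorem goodB : D.goodB = true := by decide +kernel
theorem good : D.Good := TD.goodB_sound goodB
theorem tree : treeB D C 1 = true := by decide +kernel
theorem b1 : batchB D C 1 rs1 = true := by decide +kernel
theorem allB : AllB D C rss 1 := ⟨b1, trivial⟩
theorem satK : Sat D.ρ K := TD.satB_sound good.toShape (by decide +kernel)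
theorem cert : TCert D C rss := ⟨good, satK, tree, allB⟩
noncomputable def σ : List (List ℕ) := [[nat_lit 0]]
theorem der : chkDer 5 (substL σ K) ds PJ.R0 = true := by decide +kernel

end PJU3

namespace PJU

theorem card3 : CardLe (wgrp PJ.g PJU3.σ) 2 :=
  PJU3.cert.cardLe_sub (m := 1) PJ.pres.inv rfl (by decide +kernel) PJ.pres.sat PJU3.der
    (by rw [show substL PJU3.σ PJU3.C.W = [] from rfl, wgrp_nil]; exact cardLe_bot)
theorem card2 : CardLe (wgrp PJ.g PJU2.σ) 6 :=
  PJU2.cert.cardLe_sub (m := 2) PJ.pres.inv rfl (by decide +kernel) PJ.pres.sat PJU2.der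
    (card3.mono (wgrp_le_of_subsetB _ (by decide +kernel)))
theorem card1 : CardLe (wgrp PJ.g PJU1.σ) 60 :=
  PJU1.cert.cardLe_sub (m := 6) PJ.pres.inv rfl (by decide +kernel) PJ.pres.sat PJU1.der
    (card2.mono (wgrp_le_of_subsetB _ (by decide +kernel)))
theorem card0 : CardLe (wgrp PJ.g PJU0.σ) 660 :=
  PJU0.cert.cardLe_sub (m := 60) PJ.pres.inv rfl (by decide +kernel) PJ.pres.sat PJU0.der
    (card1.mono (wgrp_le_of_subsetB _ (by decide +kernel)))

end PJU

end Cfsg.Agent.H17

/-! A checked coset table. -/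

namespace Cfsg.Agent.H17.PJT

set_option maxRecDepth 100000
set_option Elab.async false
noncomputable def net0 : Net := benes 160
 [nat_lit 0xe0300000006203ffc2000187cc00276c1c260000e0300000006203ffc2000187cc00276c1c260000,
  nat_lit 0xe4284011880860306000e42840118808603060009fc1c00006309c0000009fc1c00006309c000000,
  nat_lit 0xe439185000e439185000bb3e118600bbbe918600807c0ffd80807c0ffd80cf0be40c00cf05d40c00,
  nat_lit 0x6000060000741847418400e0000e001e4a85e4a8ff9e4ff9e40e8009604000060031210040000400,
  nat_lit 0x80380ca0a8f13c4b32cc00000ee1110102680103799e60f07c9d0231831000000b428666198,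
  nat_lit 0x1000210e744217610c63072121176b0e473185551442810e780414200801144524de604985000]
 [nat_lit 0x14050000001001000012840008000080000040008000000000040000020,
  nat_lit 0x108000294a001400284a0014a5080850002528000280a10100000001280800140,
  nat_lit 0x10100021000294a0014a500480094a5210842900420405214000140520081010042940400080,
  nat_lit 0x20200812100109401294a429425094a5214a5210252802528080280a500424214a5280a4014a,
  nat_lit 0x101000200a4204a5014a008400284202100508025284252802120021014242848128420084a0]
noncomputable def net1 : Net := benes 160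
 [nat_lit 0xfc90000000000000000000000000000000000000fc90000000000000000000000000000000000000,
  nat_lit 0xff900000880000000000ff9000008800000000009ffff3000080308039009ffff300008030803900,
  nat_lit 0xec90020000ec90020000de851ec988cf4f0d8b8a276c307f00276c307f00,
  nat_lit 0x8010080100e8000e80009063290632f4400f4400a8086b9282a5254a5a12ac000ac0000400884004,
  nat_lit 0x80200a82a00000040100ceb3ec03002308c5d2883289e503103137ff03c0fc3f094232d03c0,
  nat_lit 0xc700000210002d684155d689b420113660f07fc1d045d8438c1768161f135288407e109418e00210]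
 [nat_lit 0x10000101425090a500000004000000020000000010802008000080000040000020,
  nat_lit 0x14a501025294a5294a40800408004000050040000021204a50000120020280000940,
  nat_lit 0x100000000280a420084294a5294a5290812108128080280a4204042948521020210850100101484,
  nat_lit 0x40800000081014a500485294a5294a5294a5214a1010212142108485294252148409020290a40948,
  nat_lit 0x9000000802800501420014a1090a5214240902408420204a409404094a52942100485294a109420]
noncomputable def net2 : Net := benes 160
 [nat_lit 0x20080800430c000ffcfff87fbf1ff783f000000020080800430c000ffcfff87fbf1ff783f00000,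
  nat_lit 0x8600e28004500003b8008600e28004500003b800000000000000000000000000000000000000000,
  nat_lit 0x90000000009000000000e7fe9b1100e7fe9b110e838000000e838000000fef9819300fef9819300,
  nat_lit 0x4000040000e44c0e64c00004a0004aef084ff0847a0307f430c0000c0000fe188fc18287ca087ca0,
  nat_lit 0x8020000000741d0843049625838ae115054cc92ac3b0e0302cc0380ff3fc0080af03f8601244c2b0,
  nat_lit 0xc6000a500025210a500f5540004a10739de6730e93459000008419d64d14010008400001080e739c]
 [nat_lit 0x4000000000000000000800000001000000000009085004000002508000014000000001000000a0,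
  nat_lit 0x2800000000000202800121425280a02840000001294a029400014a128000280a001421280010140,
  nat_lit 0x100000000004a5210812108529004210a008005294a5010800008529404014852108529420290a0,
  nat_lit 0x280002800009424284a409425290a42840501025094a129484014a509084290a121421294812148,
  nat_lit 0x140000000084a5080240048501424290a409405294a401481084a5004a1094a02148001021004a4]
noncomputable def net3 : Net := benes 160
 [nat_lit 0x87c000000000000000000000000000000000000087c0000000000000000000000000000000000000,
  nat_lit 0x87d6c01000000000000087d6c01000000000000078c03000490001e7800078c03000490001e78000,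
  nat_lit 0xfff9600000fff9600000f9f00840b0f9f00840b0fc00c98148fc00c98148,
  nat_lit 0x80000800000c0000c000c9000c90008690086d000000800007c7000ff00e0030800308009e0009e0,
  nat_lit 0x5c178000000f03c00000c83202137b390e4d2348f03c0a0050801ff983e200000e038080210f83e0,
  nat_lit 0x6380084000420420001cc621055a9ae7193a509bb59558001034ac2e7046f7a10b245d8418c23a10]
 [nat_lit 0x100000000010000500000000a00040100080000000140508020000050040000000,
  nat_lit 0xa508005000a1290a029020294a1294a10940000000280a501401214a1294210040,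
  nat_lit 0x9404010002900421484200a5214a5010a4210a5294a4294a40002401405200a4214a529085290a0,
  nat_lit 0x10808020001200a509085214a4284a4294a4294a1294a50842409424284a529484094a1294212848,
  nat_lit 0x94040100029021214a5204a1094000908529005004a42808109004084a128025080a00148001000]
noncomputable def net4 : Net := benes 160
 [nat_lit 0x6047000000000000000000000000000000000000604700000000000000000000000000000000000,
  nat_lit 0xe16f0000000000000000e16f000000000000000fc0c2f3000c000000000fc0c2f3000c000000000,
  nat_lit 0x61cf000c0061cf000c0cc003f3000cc003f3000fc08000000fc08000000,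
  nat_lit 0x6e0006e001d2001f2004044040c60000000000260801904200c0000c30000b28004d,
  nat_lit 0x802000000200886218a2b55060180000045a2e320c80000022010c53a8cc330c03004028000201,
  nat_lit 0x10801000000001787b9cc72014521000652442ce55410554c6114c4556922479c26d550031c84001]
 [nat_lit 0x2028000000010000000020000000140000400004000040520400014010000000420,
  nat_lit 0x14a5000040142000000014a100405284040800008004090a50800529020000812840,
  nat_lit 0x8000000014a5280a0200a42000000085284a0294a02102001020210a5294a0294842008429081,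
  nat_lit 0x2040000000094a5094810948421405294a12848528401214a5214a1214a1294852848401421290a,
  nat_lit 0x80840000001401090a1004200940500020284a1280a1080200802408021090a0280200842101484]
noncomputable def D : TD := ⟨5, 5, 266, 320, 9, 4, [net0, net1, net2, net3, net4]⟩
noncomputable def K : List (List ℕ) := [[nat_lit 0, nat_lit 1, nat_lit 0, nat_lit 1, nat_lit 0, nat_lit 1],
  [nat_lit 0, nat_lit 2, nat_lit 0, nat_lit 2],
  [nat_lit 0, nat_lit 3, nat_lit 0, nat_lit 3],
  unp 8 10 (nat_lit 0x4000400040004000400),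
  unp 8 10 (nat_lit 0x2010201020102010201),
  [nat_lit 1, nat_lit 3, nat_lit 1, nat_lit 3],
  [nat_lit 1, nat_lit 4, nat_lit 1, nat_lit 4],
  [nat_lit 2, nat_lit 3, nat_lit 2, nat_lit 3, nat_lit 2, nat_lit 3],
  [nat_lit 2, nat_lit 4, nat_lit 2, nat_lit 4],
  [nat_lit 3, nat_lit 4, nat_lit 3, nat_lit 4],
  unp 8 15 (nat_lit 0x20100020102000102000102000100),
  unp 8 16 (nat_lit 0x4000104000401000401000403000100),
  [nat_lit 0, nat_lit 0],
  [nat_lit 1, nat_lit 1],
  [nat_lit 2, nat_lit 2],
  [nat_lit 3, nat_lit 3],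
  [nat_lit 4, nat_lit 4]]
noncomputable def W : List (List ℕ) := [[nat_lit 0],
  [nat_lit 1],
  [nat_lit 2],
  [nat_lit 3]]
noncomputable def t0 : ℕ := nat_lit 0xc0fff0f2785f03a800000e71f53afff00000fdf0080d000000000000000000000000000000000000c0fff0e4282c8c05e0620e710cc5f1081f9f14034082bf6071325021020000000000000000000000c03e000400108c0580db0060f8effe781e108dee207b8007900c2fc0016009804000000000000000c011c096780f8d0460b98e405cc5c6b80b10c87d2072bf47e08c280021500800080000000000000000f960d6481a8ca140b04c60acf0efb01486b97d204271e4b43d8e86207e100049000000000000026a474e6b256b42e35aea337cbcc9a3ad445a49a48cdac5154494fb13dc34915b04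
noncomputable def i0 : ℕ := nat_lit 0x2eafffeff7d7fcfeffafbff7dfdfffffd5fdffdffecfffff7f5bffff7ff7e99db4d
noncomputable def t1 : ℕ := nat_lit 0x4000008000000000000000000000000000000000000000000000000003e7c003060dfb06000030039cd87f100300000000000000000000000f000000000000000000000003e6800c000000000257c00380001c000cc352000210003e6104180000c00000000000000000000003e6800c000df402425044101cc000100cc353000c00c0301038d4000f24018500000000000000000000000f800cca140c0028221cc013100ce321000210203050080c00861883c80f0200000000000001e2800f0641201104048282d044978a5dc351888a95683810284024af98017c09310000000000000232eaa9f27474b421657b18b18abad558dcb07776c5572959b41016aa57721a8a18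
noncomputable def i1 : ℕ := nat_lit 0x3f7eaaff67dffb76f77ffbbfddeffdf5ffff3fffed5ff3f79bcdc36affff3ff8f3b
noncomputable def t2 : ℕ := nat_lit 0x2040000000000000000000000000000000000000000000000000000000000000000000000000000019a78a470f00010500c00099f03004683c800c8f000000000000000000000000000000000000000019a78a6000000600a92040991000042004a400808c00000000000000000000000000000000000000198380449e002600a9204704e06002408024080000240000009c00020080e180110000000000000030e70a0602500700a0387386a11002080880342c0018100000fc000308808106c06000000000000009180a0743280d0480b06381f03c000020a404020e4008000178000284c07085b0500000000000001c71595a2766aaacc545764dcedbfd2528b2a825a556172c5557fc5ff04000562c0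
noncomputable def i2 : ℕ := nat_lit 0x3dffdb7fff7eafadedfd77dfffffff6dbcb6bcafaf7e1f2c55fffc5ffcc0f1d7fd7
noncomputable def t3 : ℕ := nat_lit 0x80800000000000000000000000000000000000000000000000000000003f0c30c500900000000000717b87fc00fc00000000000000000000000000000000000000000000003e0830f0800200003ff000613a80780002bf0f003800073cc80020000000000000000000000000003c0030c5009000003d40005049000400003100f087810b1004000030fc001850f3800000000000003e08000e628c070516b0091061078c0000080f0f3660f024c80c1830fc09144810600000000000001596697430a84c86022099d0db02b4004bec8666ad4101ae8c30b02090f60c1882500000000000001959556b6ca32857b0ea551cdad34aaad0eafacc501dcaf82ea83ab2a653ebc8000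
noncomputable def i3 : ℕ := nat_lit 0x3fdf7dfffebf6fd7bffaddfdfbd7feaafffffffffffdfffeeebcbab2feffffd8f3f
noncomputable def t4 : ℕ := nat_lit 0x20c310000000000000000000000004080000000000000000000000000000000000000000000000000720aa070f500074000200cc400063340000000000000000000000000000000000000000000000000720aa340c000410338500cc0001e33000cc3000240000300001c2000020000000000000000000000520a20183520420300103cc40006214000c230000030400f08221c00410800480000000000000000200080211408640438500044060221700000303240c0430cc03a33c001081fc100000000000000002e1983b83520666738700020e50196100027330000c373c2a828ea03633e0500c000000000000003bfc0227d8e857272a54aae52b0d1747aaa54a9ab2aa9daafffc840890093562472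
noncomputable def i4 : ℕ := nat_lit 0x3fffba3fdffad7777bd7abef6f7dff7faaef7bbbb6afbfbeffffeffcb63bf5fedf2
noncomputable def C : TT := ⟨7, 3, [t0, t1, t2, t3, t4], 1, [i0, i1, i2, i3, i4], K, W⟩
noncomputable def rs1 : List Rule := [.bulk 0 48, .bulk 1 12, .bulk 2 12, .bulk 3 768, .bulk 4 768, .bulk 5 12, .bulk 6 12, .bulk 7 48, .bulk 8 12, .bulk 9 12, .bulk 10 24557, .bulk 11 64511, .sub 0 0, .bulk 12 2, .sub 1 0, .bulk 13 2, .sub 2 0, .bulk 14 2, .sub 3 0, .bulk 15 2, .bulk 16 2]
noncomputable def rss : List (List Rule) := [rs1]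
noncomputable def ds : List (List (List ℕ)) := [[[nat_lit 1]],
 [[nat_lit 17]],
 [[nat_lit 33]],
 [[nat_lit 49]],
 [[nat_lit 65]],
 [[nat_lit 81]],
 [[nat_lit 97]],
 [[nat_lit 113]],
 [[nat_lit 129]],
 [[nat_lit 145]],
 [[nat_lit 161]],
 [[nat_lit 177]],
 [],
 [],
 [],
 [],
 []]
theorem goodB : D.goodB = true := by decide +kernel
theorem good : D.Good := TD.goodB_sound goodB
theorem tree : treeB D C 1 = true := by decide +kernel
theorem b1 : batchB D C 1 rs1 = true := by decide +kernel
theorem allB : AllB D C rss 1 := ⟨b1, trivial⟩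
theorem der : chkDer 5 K ds PJ.R0 = true := by decide +kernel
theorem sat0 : Sat D.ρ PJ.R0 := TD.satB_sound good.toShape (by decide +kernel)
theorem exists_rep : ∃ φ, Rep PJ.g D φ := PJ.pres.exists_rep good rfl rfl sat0
/-- the permutation representation -/
noncomputable def φ : PJ.G →* Equiv.Perm ℕ := exists_rep.choose
theorem rep : Rep PJ.g D φ := exists_rep.choose_spec
theorem satK : Sat PJ.g K := chkDer_sound PJ.pres.inv PJ.pres.sat der
theorem coset : CosetRep φ 266 (wgrp PJ.g W) :=
  rep.cosetRep (C := C) (rss := rss) satK tree allB (by decide +kernel)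

end Cfsg.Agent.H17.PJT

/-! Order and simplicity. -/

namespace Cfsg.Agent.H17

set_option maxRecDepth 100000
set_option Elab.async false
noncomputable def PJ.z : List ℕ := [nat_lit 2, nat_lit 0, nat_lit 1, nat_lit 0, nat_lit 4]
noncomputable def PJ.R1 : List (List ℕ) := [unp 8 39 (nat_lit 0x404000100020404000100020004040001000204040001000200040400010002040400010002)] ++ PJ.R0

namespace PJC

noncomputable def net0 : Net := benes 1
 []
 []
noncomputable def net1 : Net := benes 1
 []
 []
noncomputable def net2 : Net := benes 1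
 []
 []
noncomputable def net3 : Net := benes 1
 []
 []
noncomputable def net4 : Net := benes 1
 []
 []
noncomputable def D : TD := ⟨5, 5, 1, 2, 1, 0, [net0, net1, net2, net3, net4]⟩
noncomputable def K : List (List ℕ) := [[nat_lit 0],
  unp 8 21 (nat_lit 0x10002000100020100020001000201000200010002),
  [nat_lit 0, nat_lit 1, nat_lit 0, nat_lit 1, nat_lit 0, nat_lit 1],
  [nat_lit 0, nat_lit 2, nat_lit 0, nat_lit 2],
  [nat_lit 0, nat_lit 3, nat_lit 0, nat_lit 3],
  unp 8 10 (nat_lit 0x4000400040004000400),
  unp 8 10 (nat_lit 0x2010201020102010201),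
  [nat_lit 1, nat_lit 3, nat_lit 1, nat_lit 3],
  [nat_lit 1, nat_lit 4, nat_lit 1, nat_lit 4],
  [nat_lit 2, nat_lit 3, nat_lit 2, nat_lit 3, nat_lit 2, nat_lit 3],
  [nat_lit 2, nat_lit 4, nat_lit 2, nat_lit 4],
  [nat_lit 3, nat_lit 4, nat_lit 3, nat_lit 4],
  unp 8 15 (nat_lit 0x20100020102000102000102000100),
  unp 8 16 (nat_lit 0x4000104000401000401000403000100),
  [nat_lit 0],
  [nat_lit 0, nat_lit 1],
  unp 8 7 (nat_lit 0x2000100010001),
  unp 8 14 (nat_lit 0x300010001000102000100010001),
  unp 8 8 (nat_lit 0x401000100030100)]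
noncomputable def W : List (List ℕ) := []
noncomputable def t0 : ℕ := nat_lit 0x4
noncomputable def i0 : ℕ := nat_lit 0x1
noncomputable def t1 : ℕ := nat_lit 0x10
noncomputable def i1 : ℕ := nat_lit 0x1
noncomputable def t2 : ℕ := nat_lit 0x14
noncomputable def i2 : ℕ := nat_lit 0x1
noncomputable def t3 : ℕ := nat_lit 0x40
noncomputable def i3 : ℕ := nat_lit 0x1
noncomputable def t4 : ℕ := nat_lit 0x44
noncomputable def i4 : ℕ := nat_lit 0x1
noncomputable def C : TT := ⟨4, 2, [t0, t1, t2, t3, t4], 1, [i0, i1, i2, i3, i4], K, W⟩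
noncomputable def rs1 : List Rule := [.rel 0 0 0, .rel 15 0 1, .rel 16 0 6, .rel 17 0 13, .rel 18 0 7]
noncomputable def rss : List (List Rule) := [rs1]
noncomputable def ds : List (List (List ℕ)) := [[[nat_lit 1]],
 [[nat_lit 17]],
 [[nat_lit 33]],
 [[nat_lit 49]],
 [[nat_lit 65]],
 [[nat_lit 81]],
 [[nat_lit 97]],
 [[nat_lit 113]],
 [[nat_lit 129]],
 [[nat_lit 145]],
 [[nat_lit 161]],
 [[nat_lit 177]],
 [[nat_lit 193]],
 [[nat_lit 209]],
 [[nat_lit 0, nat_lit 105, nat_lit 0],
  [nat_lit 4],
  [nat_lit 3]],
 [[nat_lit 8, nat_lit 0, nat_lit 113, nat_lit 0, nat_lit 8],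
  [nat_lit 4],
  [nat_lit 8, nat_lit 97, nat_lit 8, nat_lit 3, nat_lit 0, nat_lit 3],
  [nat_lit 3],
  [nat_lit 3, nat_lit 0]],
 [[nat_lit 16, nat_lit 16, nat_lit 97, nat_lit 16, nat_lit 16, nat_lit 0],
  [nat_lit 16, nat_lit 1, nat_lit 16, nat_lit 3],
  unp 16 15 (nat_lit 0xb0008000b000300000008000b0003000b000800080010001900100008),
  [nat_lit 3],
  unp 16 7 (nat_lit 0x8000000080000000800000003)],
 [[nat_lit 24, nat_lit 24, nat_lit 97, nat_lit 24, nat_lit 24, nat_lit 0],
  [nat_lit 24, nat_lit 24, nat_lit 73, nat_lit 24, nat_lit 24, nat_lit 8],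
  unp 16 9 (nat_lit 0xb0003000b0003000b0003001800010018),
  [nat_lit 24, nat_lit 57, nat_lit 24, nat_lit 3, nat_lit 16, nat_lit 3],
  [nat_lit 3],
  unp 16 14 (nat_lit 0x80000000800000008000000100008000000080000000800000003)],
 [[nat_lit 32, nat_lit 32, nat_lit 73, nat_lit 32, nat_lit 32, nat_lit 8],
  [nat_lit 32, nat_lit 8, nat_lit 17, nat_lit 8, nat_lit 32, nat_lit 3],
  [nat_lit 32, nat_lit 32, nat_lit 49, nat_lit 32, nat_lit 32, nat_lit 24],
  unp 16 16 (nat_lit 0x1300000013000b000800000003000b0013000b000000000020002100200000),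
  [nat_lit 3],
  unp 16 8 (nat_lit 0x8001800000008000000080003)]]
theorem goodB : D.goodB = true := by decide +kernel
theorem good : D.Good := TD.goodB_sound goodB
theorem tree : treeB D C 1 = true := by decide +kernel
theorem b1 : batchB D C 1 rs1 = true := by decide +kernel
theorem allB : AllB D C rss 1 := ⟨b1, trivial⟩
theorem satK : Sat D.ρ K := TD.satB_sound good.toShape (by decide +kernel)
theorem cert : TCert D C rss := ⟨good, satK, tree, allB⟩
theorem der : chkDer 5 K ds ([[0]] ++ PJ.R1) = true := by decide +kernel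

end PJC

namespace PJ

noncomputable def levels : List Lev := [⟨0, [[nat_lit 0],
  [nat_lit 1],
  [nat_lit 2],
  [nat_lit 3],
  [nat_lit 4]], 5, 266⟩,
 ⟨1, [[nat_lit 0],
  [nat_lit 1],
  [nat_lit 2],
  [nat_lit 3]], 2, 11⟩,
 ⟨2, [[nat_lit 1],
  [nat_lit 2],
  [nat_lit 3]], 2, 10⟩,
 ⟨3, [[nat_lit 2],
  [nat_lit 3]], 1, 3⟩,
 ⟨6, [[nat_lit 3]], 1, 2⟩]
theorem low : lowB PJT.D 4 levels [] = true := by decide +kernel
/-- a base for the action -/
def base : List ℕ := [6, 3, 2, 1, 0]
theorem faith : Faith PJT.φ 175560 base :=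
  PJT.rep.faith' (PJT.coset.cardLe_top (PJU.card0.mono (wgrp_le_of_subsetB _ (by decide +kernel)))) low (by decide +kernel) (by decide +kernel)
theorem prim : primB PJT.D PJT.W [[nat_lit 4],
  [nat_lit 4, nat_lit 0, nat_lit 4],
  unp 8 8 (nat_lit 0x400010204010004),
  unp 8 14 (nat_lit 0x400010402000103000204010004)] 5 = true := by decide +kernel
theorem z_pow : ev g z ^ 19 = 1 := faith.pow_eq_one PJT.rep (by decide +kernel)
theorem sat1 : Sat g R1 := Sat.append (faith.sat PJT.rep (by decide +kernel)) pres.sat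
theorem der0 : chkDer 5 [[0]] [[unp 16 25 (nat_lit 0x200002002000000000000000000002000000000000002000020020000000000002000000200002002000020009)]] ([z] ++ R1) = true := by decide +kernel
theorem simple : IsSimpleGroup PJ.G :=
  simple_of_cert PJT.rep faith (by norm_num) PJT.coset.trans prim z_pow (by decide +kernel) sat1
    PJC.cert rfl rfl rfl rfl der0 PJC.der

end PJ

end Cfsg.Agent.H17
namespace Cfsg.Agent.H17.PJ

/-- the images of the letters -/
noncomputable def σ : List (List ℕ) := [[nat_lit 0],
  unp 8 29 (nat_lit 0x204070102050403020103020302010004030203040601040002010705),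
  unp 8 12 (nat_lit 0x20307030403020304060405),
  unp 8 16 (nat_lit 0x3040302030405040306040307020304),
  unp 8 26 (nat_lit 0x207000203020304030201000302010304060107020302040306)]

theorem exists_sub : ∃ K : Subgroup Cfsg.Spor.ON, IsSimpleGroup K ∧ Nat.card K = 175560 := by
  haveI := simple
  obtain ⟨ψ, h, -⟩ := pres.exists_hom_sub (f := ON.g) (σ := σ)
    (inv_sub_of_sat (by decide) (by decide) (ON.faith.satS ONT.rep ONS.ok (by decide +kernel))) rfl
    (ON.faith.satS ONT.rep ONS.ok (by decide +kernel))
  have i := inj_of_simple ψ (a := g 0) (by rw [h]; exact ONT.rep.ne_one (u := [0]) (i := 14) (by decide +kernel))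
  exact ⟨_, (simple_card_range i).1, (simple_card_range i).2.trans faith.card⟩

end Cfsg.Agent.H17.PJ


/-! An auxiliary presented group. -/

namespace Cfsg.Agent.H17.PM

noncomputable def R0 : List (List ℕ) := [[nat_lit 0, nat_lit 1, nat_lit 0, nat_lit 1, nat_lit 0, nat_lit 1],
  [nat_lit 0, nat_lit 2, nat_lit 0, nat_lit 2],
  [nat_lit 0, nat_lit 3, nat_lit 0, nat_lit 3],
  [nat_lit 0, nat_lit 4, nat_lit 0, nat_lit 4],
  [nat_lit 1, nat_lit 2, nat_lit 1, nat_lit 2, nat_lit 1, nat_lit 2],
  [nat_lit 1, nat_lit 3, nat_lit 1, nat_lit 3],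
  unp 8 10 (nat_lit 0x4010401040104010401),
  [nat_lit 2, nat_lit 3, nat_lit 2, nat_lit 3, nat_lit 2, nat_lit 3],
  unp 8 8 (nat_lit 0x402040204020402),
  [nat_lit 3, nat_lit 4, nat_lit 3, nat_lit 4, nat_lit 3, nat_lit 4],
  [nat_lit 0, nat_lit 2, nat_lit 4, nat_lit 2, nat_lit 4],
  unp 8 12 (nat_lit 0x40201040201040201040201),
  unp 8 13 (nat_lit 0x4030204010204030104010201)]

/-- the group -/
abbrev G : Type := PG 5 5 R0

/-- the letters -/
noncomputable def g : ℕ → G := pgen 5 5 R0

theorem pres : Presents 5 5 R0 g := presents_PG _ _ _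

end Cfsg.Agent.H17.PM

/-! Upper bounds for the orders of a chain of subgroups, by coset tables. -/

namespace Cfsg.Agent.H17

set_option maxRecDepth 100000
set_option Elab.async false
namespace PMU0

noncomputable def net0 : Net := benes 2
 []
 [nat_lit 0x8]
noncomputable def net1 : Net := benes 2
 []
 [nat_lit 0x4]
noncomputable def net2 : Net := benes 2
 []
 [nat_lit 0x2]
noncomputable def net3 : Net := benes 2
 []
 [nat_lit 0x1]
noncomputable def D : TD := ⟨4, 4, 5, 5, 3, 2, [net0, net1, net2, net3]⟩
noncomputable def K : List (List ℕ) := [[nat_lit 0, nat_lit 1, nat_lit 0, nat_lit 1, nat_lit 0, nat_lit 1],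
  [nat_lit 0, nat_lit 2, nat_lit 0, nat_lit 2],
  [nat_lit 0, nat_lit 3, nat_lit 0, nat_lit 3],
  [nat_lit 1, nat_lit 2, nat_lit 1, nat_lit 2, nat_lit 1, nat_lit 2],
  [nat_lit 1, nat_lit 3, nat_lit 1, nat_lit 3],
  [nat_lit 2, nat_lit 3, nat_lit 2, nat_lit 3, nat_lit 2, nat_lit 3],
  [nat_lit 0, nat_lit 0],
  [nat_lit 1, nat_lit 1],
  [nat_lit 2, nat_lit 2],
  [nat_lit 3, nat_lit 3]]
noncomputable def W : List (List ℕ) := [[nat_lit 0],
  [nat_lit 1],
  [nat_lit 2]]
noncomputable def t0 : ℕ := nat_lit 0x18b0
noncomputable def i0 : ℕ := nat_lit 0x17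
noncomputable def t1 : ℕ := nat_lit 0x80828
noncomputable def i1 : ℕ := nat_lit 0x1b
noncomputable def t2 : ℕ := nat_lit 0x82124
noncomputable def i2 : ℕ := nat_lit 0x1d
noncomputable def t3 : ℕ := nat_lit 0x83102
noncomputable def i3 : ℕ := nat_lit 0x1e
noncomputable def C : TT := ⟨4, 2, [t0, t1, t2, t3], 1, [i0, i1, i2, i3], K, W⟩
noncomputable def rs1 : List Rule := [.sub 0 0, .rel 2 0 2, .rel 1 1 2, .bulk 6 2, .sub 1 0, .rel 4 0 2, .bulk 7 2, .rel 0 4 5, .sub 2 0, .bulk 8 2, .rel 3 3 5, .rel 1 4 3, .bulk 9 2, .rel 5 2 5, .rel 4 3 3, .rel 2 4 3]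
noncomputable def rss : List (List Rule) := [rs1]
noncomputable def ds : List (List (List ℕ)) := [[[nat_lit 1]],
 [[nat_lit 17]],
 [[nat_lit 33]],
 [[nat_lit 57]],
 [[nat_lit 73]],
 [[nat_lit 97]],
 [],
 [],
 [],
 []]
theorem goodB : D.goodB = true := by decide +kernel
theorem good : D.Good := TD.goodB_sound goodB
theorem tree : treeB D C 1 = true := by decide +kernel
theorem b1 : batchB D C 1 rs1 = true := by decide +kernel
theorem allB : AllB D C rss 1 := ⟨b1, trivial⟩
theorem satK : Sat D.ρ K := TD.satB_sound good.toShape (by decide +kernel)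
theorem cert : TCert D C rss := ⟨good, satK, tree, allB⟩
noncomputable def σ : List (List ℕ) := [[nat_lit 0],
  [nat_lit 1],
  [nat_lit 2],
  [nat_lit 3]]
theorem der : chkDer 5 (substL σ K) ds PM.R0 = true := by decide +kernel

end PMU0

namespace PMU1

noncomputable def net0 : Net := benes 2
 [nat_lit 0]
 [nat_lit 0x4]
noncomputable def net1 : Net := benes 2
 [nat_lit 0xa]
 [nat_lit 0x4]
noncomputable def net2 : Net := benes 2
 [nat_lit 0]
 [nat_lit 0x1]
noncomputable def D : TD := ⟨3, 3, 4, 4, 2, 1, [net0, net1, net2]⟩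
noncomputable def K : List (List ℕ) := [[nat_lit 0, nat_lit 1, nat_lit 0, nat_lit 1, nat_lit 0, nat_lit 1],
  [nat_lit 0, nat_lit 2, nat_lit 0, nat_lit 2],
  [nat_lit 1, nat_lit 2, nat_lit 1, nat_lit 2, nat_lit 1, nat_lit 2],
  [nat_lit 0, nat_lit 0],
  [nat_lit 1, nat_lit 1],
  [nat_lit 2, nat_lit 2]]
noncomputable def W : List (List ℕ) := [[nat_lit 0],
  [nat_lit 1]]
noncomputable def t0 : ℕ := nat_lit 0x218
noncomputable def i0 : ℕ := nat_lit 0xb
noncomputable def t1 : ℕ := nat_lit 0x894
noncomputable def i1 : ℕ := nat_lit 0xd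
noncomputable def t2 : ℕ := nat_lit 0xc82
noncomputable def i2 : ℕ := nat_lit 0xe
noncomputable def C : TT := ⟨3, 2, [t0, t1, t2], 1, [i0, i1, i2], K, W⟩
noncomputable def rs1 : List Rule := [.sub 0 0, .rel 1 0 2, .bulk 3 2, .sub 1 0, .bulk 4 2, .rel 0 3 5, .bulk 5 2, .rel 2 2 5, .rel 1 3 3]
noncomputable def rss : List (List Rule) := [rs1]
noncomputable def ds : List (List (List ℕ)) := [[[nat_lit 1]],
 [[nat_lit 17]],
 [[nat_lit 49]],
 [],
 [],
 []]
theorem goodB : D.goodB = true := by decide +kernel
theorem good : D.Good := TD.goodB_sound goodB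
theorem tree : treeB D C 1 = true := by decide +kernel
theorem b1 : batchB D C 1 rs1 = true := by decide +kernel
theorem allB : AllB D C rss 1 := ⟨b1, trivial⟩
theorem satK : Sat D.ρ K := TD.satB_sound good.toShape (by decide +kernel)
theorem cert : TCert D C rss := ⟨good, satK, tree, allB⟩
noncomputable def σ : List (List ℕ) := [[nat_lit 0],
  [nat_lit 1],
  [nat_lit 2]]
theorem der : chkDer 5 (substL σ K) ds PM.R0 = true := by decide +kernel

end PMU1

namespace PMU2

noncomputable def net0 : Net := benes 1
 []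
 [nat_lit 0x2]
noncomputable def net1 : Net := benes 1
 []
 [nat_lit 0x1]
noncomputable def D : TD := ⟨2, 2, 3, 3, 2, 1, [net0, net1]⟩
noncomputable def K : List (List ℕ) := [[nat_lit 0, nat_lit 1, nat_lit 0, nat_lit 1, nat_lit 0, nat_lit 1],
  [nat_lit 0, nat_lit 0],
  [nat_lit 1, nat_lit 1]]
noncomputable def W : List (List ℕ) := [[nat_lit 0]]
noncomputable def t0 : ℕ := nat_lit 0xc
noncomputable def i0 : ℕ := nat_lit 0x5
noncomputable def t1 : ℕ := nat_lit 0x102
noncomputable def i1 : ℕ := nat_lit 0x6
noncomputable def C : TT := ⟨3, 2, [t0, t1], 1, [i0, i1], K, W⟩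
noncomputable def rs1 : List Rule := [.sub 0 0, .bulk 1 2, .bulk 2 2, .rel 0 2 5]
noncomputable def rss : List (List Rule) := [rs1]
noncomputable def ds : List (List (List ℕ)) := [[[nat_lit 1]],
 [],
 []]
theorem goodB : D.goodB = true := by decide +kernel
theorem good : D.Good := TD.goodB_sound goodB
theorem tree : treeB D C 1 = true := by decide +kernel
theorem b1 : batchB D C 1 rs1 = true := by decide +kernel
theorem allB : AllB D C rss 1 := ⟨b1, trivial⟩
theorem satK : Sat D.ρ K := TD.satB_sound good.toShape (by decide +kernel)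
theorem cert : TCert D C rss := ⟨good, satK, tree, allB⟩
noncomputable def σ : List (List ℕ) := [[nat_lit 0],
  [nat_lit 1]]
theorem der : chkDer 5 (substL σ K) ds PM.R0 = true := by decide +kernel

end PMU2

namespace PMU3

noncomputable def net0 : Net := benes 1
 []
 [nat_lit 0x1]
noncomputable def D : TD := ⟨1, 1, 2, 2, 1, 0, [net0]⟩
noncomputable def K : List (List ℕ) := [[nat_lit 0, nat_lit 0]]
noncomputable def W : List (List ℕ) := []
noncomputable def t0 : ℕ := nat_lit 0x2
noncomputable def i0 : ℕ := nat_lit 0x2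
noncomputable def C : TT := ⟨1, 0, [t0], 1, [i0], K, W⟩
noncomputable def rs1 : List Rule := [.bulk 0 2]
noncomputable def rss : List (List Rule) := [rs1]
noncomputable def ds : List (List (List ℕ)) := [[]]
theorem goodB : D.goodB = true := by decide +kernel
theorem good : D.Good := TD.goodB_sound goodB
theorem tree : treeB D C 1 = true := by decide +kernel
theorem b1 : batchB D C 1 rs1 = true := by decide +kernel
theorem allB : AllB D C rss 1 := ⟨b1, trivial⟩
theorem satK : Sat D.ρ K := TD.satB_sound good.toShape (by decide +kernel)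
theorem cert : TCert D C rss := ⟨good, satK, tree, allB⟩
noncomputable def σ : List (List ℕ) := [[nat_lit 0]]
theorem der : chkDer 5 (substL σ K) ds PM.R0 = true := by decide +kernel

end PMU3

namespace PMU

theorem card3 : CardLe (wgrp PM.g PMU3.σ) 2 :=
  PMU3.cert.cardLe_sub (m := 1) PM.pres.inv rfl (by decide +kernel) PM.pres.sat PMU3.der
    (by rw [show substL PMU3.σ PMU3.C.W = [] from rfl, wgrp_nil]; exact cardLe_bot)
theorem card2 : CardLe (wgrp PM.g PMU2.σ) 6 :=
  PMU2.cert.cardLe_sub (m := 2) PM.pres.inv rfl (by decide +kernel) PM.pres.sat PMU2.der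
    (card3.mono (wgrp_le_of_subsetB _ (by decide +kernel)))
theorem card1 : CardLe (wgrp PM.g PMU1.σ) 24 :=
  PMU1.cert.cardLe_sub (m := 6) PM.pres.inv rfl (by decide +kernel) PM.pres.sat PMU1.der
    (card2.mono (wgrp_le_of_subsetB _ (by decide +kernel)))
theorem card0 : CardLe (wgrp PM.g PMU0.σ) 120 :=
  PMU0.cert.cardLe_sub (m := 24) PM.pres.inv rfl (by decide +kernel) PM.pres.sat PMU0.der
    (card1.mono (wgrp_le_of_subsetB _ (by decide +kernel)))

end PMU

end Cfsg.Agent.H17

/-! A checked coset table. -/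

namespace Cfsg.Agent.H17.PMT

set_option maxRecDepth 100000
set_option Elab.async false
noncomputable def net0 : Net := benes 40
 [nat_lit 0xc000000000c000000000,
  nat_lit 0xc0000c00000000000000,
  nat_lit 0x803000000038314,
  nat_lit 0x210850102161005280]
 [nat_lit 0x20080000000000080,
  nat_lit 0x140500020280050140,
  nat_lit 0x802100501080290a4,
  nat_lit 0x40140508021290052148,
  nat_lit 0x2509025010a521404]
noncomputable def net1 : Net := benes 40
 [nat_lit 0x180001000018000100,
  nat_lit 0x212a0213a040d0040d00,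
  nat_lit 0x2a0a8c0300311c480200,
  nat_lit 0xd60001cc60c626c00]
 [nat_lit 0x2800028400,
  nat_lit 0x5014052800,
  nat_lit 0x800100004290a029400,
  nat_lit 0x10042001085214a5280a,
  nat_lit 0x9001084812940009400]
noncomputable def net2 : Net := benes 40
 [nat_lit 0xb320000000b320000000,
  nat_lit 0xf3e00f3e000000000000,
  nat_lit 0xc03001d87600000d8378,
  nat_lit 0xc6084539998400084004]
 [nat_lit 0x400280810800000400,
  nat_lit 0x2800529425000212800,
  nat_lit 0x1420290a42000529400,
  nat_lit 0x2948528485000212900,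
  nat_lit 0x20420280250842528420]
noncomputable def net3 : Net := benes 40
 [nat_lit 0,
  nat_lit 0x3ff803ff80,
  nat_lit 0x5014c0300,
  nat_lit 0x1e10c720fb2400]
 [nat_lit 0x800100000,
  nat_lit 0x2000005014200000,
  nat_lit 0x500000200a528004,
  nat_lit 0x2421005204a5280a,
  nat_lit 0x50840508420014a4]
noncomputable def net4 : Net := benes 40
 [nat_lit 0xf320000000f320000000,
  nat_lit 0xd1000f12000000000000,
  nat_lit 0xc0300a43ee00000a0975,
  nat_lit 0x39c51d590021057c15]
 [nat_lit 0x4000200002000001,
  nat_lit 0xa1004a0294040842,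
  nat_lit 0x528085010a0214a4,
  nat_lit 0xa129420294050848,
  nat_lit 0x1084084050002108484]
noncomputable def D : TD := ⟨5, 5, 66, 80, 7, 3, [net0, net1, net2, net3, net4]⟩
noncomputable def K : List (List ℕ) := [[nat_lit 0, nat_lit 1, nat_lit 0, nat_lit 1, nat_lit 0, nat_lit 1],
  [nat_lit 0, nat_lit 2, nat_lit 0, nat_lit 2],
  [nat_lit 0, nat_lit 3, nat_lit 0, nat_lit 3],
  [nat_lit 0, nat_lit 4, nat_lit 0, nat_lit 4],
  [nat_lit 1, nat_lit 2, nat_lit 1, nat_lit 2, nat_lit 1, nat_lit 2],
  [nat_lit 1, nat_lit 3, nat_lit 1, nat_lit 3],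
  unp 8 10 (nat_lit 0x4010401040104010401),
  [nat_lit 2, nat_lit 3, nat_lit 2, nat_lit 3, nat_lit 2, nat_lit 3],
  unp 8 8 (nat_lit 0x402040204020402),
  [nat_lit 3, nat_lit 4, nat_lit 3, nat_lit 4, nat_lit 3, nat_lit 4],
  [nat_lit 0, nat_lit 2, nat_lit 4, nat_lit 2, nat_lit 4],
  unp 8 12 (nat_lit 0x40201040201040201040201),
  unp 8 13 (nat_lit 0x4030204010204030104010201),
  [nat_lit 0, nat_lit 0],
  [nat_lit 1, nat_lit 1],
  [nat_lit 2, nat_lit 2],
  [nat_lit 3, nat_lit 3],
  [nat_lit 4, nat_lit 4]]
noncomputable def W : List (List ℕ) := [[nat_lit 0],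
  [nat_lit 1],
  [nat_lit 2],
  [nat_lit 3]]
noncomputable def t0 : ℕ := nat_lit 0x3c00000000000000000000fd519e20f00000000000c0390c030002c0000030f1389510039000a0000c00590ea600933890002647145b443ae0ae0
noncomputable def i0 : ℕ := nat_lit 0x3eff7ddff7fbf3feb
noncomputable def t1 : ℕ := nat_lit 0x38012000000000000000061a110000804000000006041500f8e1d304000006021400f0604c0a0000061e15002ac24d0b90000bd0a82e4ff05480c
noncomputable def i1 : ℕ := nat_lit 0x3fdfbd2efff3df8fd
noncomputable def t2 : ℕ := nat_lit 0x100000000000000003f265e320800000000000c00f8d03100180000002220acf021f0000200001f2020c001020641000308b2b33884cb6d80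
noncomputable def i2 : ℕ := nat_lit 0x33fb7fffabdfb7fc3
noncomputable def t3 : ℕ := nat_lit 0x10000000000000000000290e80300000000000000908ae0240f0d9e00000290e880240e05320000029c8a83e40a8c6261000057c10a732674c438
noncomputable def i3 : ℕ := nat_lit 0x3dfebebf72ffdfe79
noncomputable def t4 : ℕ := nat_lit 0x3000000000000000000003fa906200000000000002891018210f0200000003c91418fc0cb488800031438460f803408c000008e4f32870a26d682
noncomputable def i4 : ℕ := nat_lit 0x3bfff77afdafffeca
noncomputable def C : TT := ⟨6, 3, [t0, t1, t2, t3, t4], 1, [i0, i1, i2, i3, i4], K, W⟩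
noncomputable def rs1 : List Rule := [.bulk 0 48, .bulk 1 12, .bulk 2 12, .bulk 3 12, .bulk 4 48, .bulk 5 12, .bulk 6 768, .bulk 7 48, .bulk 9 48, .bulk 10 31, .bulk 11 3584, .bulk 12 3839, .sub 0 0, .bulk 13 2, .sub 1 0, .bulk 14 2, .sub 2 0, .bulk 15 2, .rel 8 37 6, .sub 3 0, .bulk 16 2, .bulk 17 2]
noncomputable def rss : List (List Rule) := [rs1]
noncomputable def ds : List (List (List ℕ)) := [[[nat_lit 1]],
 [[nat_lit 17]],
 [[nat_lit 33]],
 [[nat_lit 49]],
 [[nat_lit 65]],
 [[nat_lit 81]],
 [[nat_lit 97]],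
 [[nat_lit 113]],
 [[nat_lit 129]],
 [[nat_lit 145]],
 [[nat_lit 161]],
 [[nat_lit 177]],
 [[nat_lit 193]],
 [],
 [],
 [],
 [],
 []]
theorem goodB : D.goodB = true := by decide +kernel
theorem good : D.Good := TD.goodB_sound goodB
theorem tree : treeB D C 1 = true := by decide +kernel
theorem b1 : batchB D C 1 rs1 = true := by decide +kernel
theorem allB : AllB D C rss 1 := ⟨b1, trivial⟩
theorem der : chkDer 5 K ds PM.R0 = true := by decide +kernel
theorem sat0 : Sat D.ρ PM.R0 := TD.satB_sound good.toShape (by decide +kernel)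
theorem exists_rep : ∃ φ, Rep PM.g D φ := PM.pres.exists_rep good rfl rfl sat0
/-- the permutation representation -/
noncomputable def φ : PM.G →* Equiv.Perm ℕ := exists_rep.choose
theorem rep : Rep PM.g D φ := exists_rep.choose_spec
theorem satK : Sat PM.g K := chkDer_sound PM.pres.inv PM.pres.sat der
theorem coset : CosetRep φ 66 (wgrp PM.g W) :=
  rep.cosetRep (C := C) (rss := rss) satK tree allB (by decide +kernel)

end Cfsg.Agent.H17.PMT

/-! Order and simplicity. -/

namespace Cfsg.Agent.H17

set_option maxRecDepth 100000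
set_option Elab.async false
noncomputable def PM.z : List ℕ := [nat_lit 4, nat_lit 1, nat_lit 3, nat_lit 2, nat_lit 1]
noncomputable def PM.R1 : List (List ℕ) := [unp 8 36 (nat_lit 0x100020102030104020001000100020102030104020001000100020102030104020001)] ++ PM.R0

namespace PMC

noncomputable def net0 : Net := benes 1
 []
 []
noncomputable def net1 : Net := benes 1
 []
 []
noncomputable def net2 : Net := benes 1
 []
 []
noncomputable def net3 : Net := benes 1
 []
 []
noncomputable def net4 : Net := benes 1
 []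
 []
noncomputable def D : TD := ⟨5, 5, 1, 2, 1, 0, [net0, net1, net2, net3, net4]⟩
noncomputable def K : List (List ℕ) := [[nat_lit 0],
  unp 8 36 (nat_lit 0x100020102030104020001000100020102030104020001000100020102030104020001),
  [nat_lit 0, nat_lit 1, nat_lit 0, nat_lit 1, nat_lit 0, nat_lit 1],
  [nat_lit 0, nat_lit 2, nat_lit 0, nat_lit 2],
  [nat_lit 0, nat_lit 3, nat_lit 0, nat_lit 3],
  [nat_lit 0, nat_lit 4, nat_lit 0, nat_lit 4],
  [nat_lit 1, nat_lit 2, nat_lit 1, nat_lit 2, nat_lit 1, nat_lit 2],
  [nat_lit 1, nat_lit 3, nat_lit 1, nat_lit 3],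
  unp 8 10 (nat_lit 0x4010401040104010401),
  [nat_lit 2, nat_lit 3, nat_lit 2, nat_lit 3, nat_lit 2, nat_lit 3],
  unp 8 8 (nat_lit 0x402040204020402),
  [nat_lit 3, nat_lit 4, nat_lit 3, nat_lit 4, nat_lit 3, nat_lit 4],
  [nat_lit 0, nat_lit 2, nat_lit 4, nat_lit 2, nat_lit 4],
  unp 8 12 (nat_lit 0x40201040201040201040201),
  unp 8 13 (nat_lit 0x4030204010204030104010201),
  [nat_lit 0],
  [nat_lit 0, nat_lit 1],
  [nat_lit 0, nat_lit 1, nat_lit 0, nat_lit 2],
  unp 8 8 (nat_lit 0x300010002000100),
  unp 8 19 (nat_lit 0x4000200020001000100020102030100020001)]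
noncomputable def W : List (List ℕ) := []
noncomputable def t0 : ℕ := nat_lit 0x4
noncomputable def i0 : ℕ := nat_lit 0x1
noncomputable def t1 : ℕ := nat_lit 0x10
noncomputable def i1 : ℕ := nat_lit 0x1
noncomputable def t2 : ℕ := nat_lit 0x14
noncomputable def i2 : ℕ := nat_lit 0x1
noncomputable def t3 : ℕ := nat_lit 0x40
noncomputable def i3 : ℕ := nat_lit 0x1
noncomputable def t4 : ℕ := nat_lit 0x44
noncomputable def i4 : ℕ := nat_lit 0x1
noncomputable def C : TT := ⟨4, 2, [t0, t1, t2, t3, t4], 1, [i0, i1, i2, i3, i4], K, W⟩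
noncomputable def rs1 : List Rule := [.rel 0 0 0, .rel 16 0 1, .rel 17 0 3, .rel 18 0 7, .rel 19 0 18]
noncomputable def rss : List (List Rule) := [rs1]
noncomputable def ds : List (List (List ℕ)) := [[[nat_lit 1]],
 [[nat_lit 17]],
 [[nat_lit 33]],
 [[nat_lit 49]],
 [[nat_lit 65]],
 [[nat_lit 81]],
 [[nat_lit 97]],
 [[nat_lit 113]],
 [[nat_lit 129]],
 [[nat_lit 145]],
 [[nat_lit 161]],
 [[nat_lit 177]],
 [[nat_lit 193]],
 [[nat_lit 209]],
 [[nat_lit 225]],
 [[nat_lit 0, nat_lit 113, nat_lit 0],
  [nat_lit 4],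
  [nat_lit 3]],
 [[nat_lit 8, nat_lit 0, nat_lit 121, nat_lit 0, nat_lit 8],
  [nat_lit 4],
  [nat_lit 8, nat_lit 105, nat_lit 8, nat_lit 3, nat_lit 0, nat_lit 3],
  [nat_lit 3],
  [nat_lit 3, nat_lit 0]],
 [[nat_lit 16, nat_lit 16, nat_lit 105, nat_lit 16, nat_lit 16, nat_lit 0],
  [nat_lit 16, nat_lit 1, nat_lit 16, nat_lit 3],
  [nat_lit 16, nat_lit 81, nat_lit 16, nat_lit 3, nat_lit 8, nat_lit 3],
  [nat_lit 3],
  [nat_lit 3, nat_lit 0, nat_lit 8, nat_lit 0]],
 [[nat_lit 24, nat_lit 24, nat_lit 105, nat_lit 24, nat_lit 24, nat_lit 0],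
  [nat_lit 24, nat_lit 24, nat_lit 81, nat_lit 24, nat_lit 24, nat_lit 8],
  [nat_lit 24, nat_lit 1, nat_lit 24, nat_lit 11, nat_lit 3, nat_lit 11],
  [nat_lit 24, nat_lit 65, nat_lit 24, nat_lit 3, nat_lit 16, nat_lit 3],
  [nat_lit 3],
  unp 16 8 (nat_lit 0x8000000100000000800000003)],
 [[nat_lit 32, nat_lit 32, nat_lit 105, nat_lit 32, nat_lit 32, nat_lit 0],
  [nat_lit 32, nat_lit 17, nat_lit 32, nat_lit 3],
  unp 16 7 (nat_lit 0x10000000200020003100200020),
  unp 16 10 (nat_lit 0x13000b001300030013000b0013002000010020),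
  unp 16 34 (nat_lit 0x1b0013001b000b0013000b0003001300100000000800000008000000100008001000180008000b001b0013001b0013001b000b0013000b000300130010000000080089),
  [nat_lit 3],
  unp 16 19 (nat_lit 0x8000000100000000800180010000800100000000800000008000000100000001000000003)]]
theorem goodB : D.goodB = true := by decide +kernel
theorem good : D.Good := TD.goodB_sound goodB
theorem tree : treeB D C 1 = true := by decide +kernel
theorem b1 : batchB D C 1 rs1 = true := by decide +kernel
theorem allB : AllB D C rss 1 := ⟨b1, trivial⟩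
theorem satK : Sat D.ρ K := TD.satB_sound good.toShape (by decide +kernel)
theorem cert : TCert D C rss := ⟨good, satK, tree, allB⟩
theorem der : chkDer 5 K ds ([[0]] ++ PM.R1) = true := by decide +kernel

end PMC

namespace PM

noncomputable def levels : List Lev := [⟨0, [[nat_lit 0],
  [nat_lit 1],
  [nat_lit 2],
  [nat_lit 3],
  [nat_lit 4]], 5, 66⟩,
 ⟨1, [[nat_lit 0],
  [nat_lit 1],
  [nat_lit 2],
  [nat_lit 3]], 4, 30⟩,
 ⟨3, [[nat_lit 0],
  [nat_lit 2]], 1, 2⟩,
 ⟨2, [[nat_lit 0]], 1, 2⟩]
theorem low : lowB PMT.D 2 levels [] = true := by decide +kernel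
/-- a base for the action -/
def base : List ℕ := [2, 3, 1, 0]
theorem faith : Faith PMT.φ 7920 base :=
  PMT.rep.faith' (PMT.coset.cardLe_top (PMU.card0.mono (wgrp_le_of_subsetB _ (by decide +kernel)))) low (by decide +kernel) (by decide +kernel)
theorem prim : primB PMT.D PMT.W [[nat_lit 4],
  [nat_lit 4, nat_lit 1, nat_lit 4],
  unp 8 7 (nat_lit 0x4010302000104)] 4 = true := by decide +kernel
theorem z_pow : ev g z ^ 11 = 1 := faith.pow_eq_one PMT.rep (by decide +kernel)
theorem sat1 : Sat g R1 := Sat.append (faith.sat PMT.rep (by decide +kernel)) pres.sat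
theorem der0 : chkDer 5 [[0]] [[unp 16 28 (nat_lit 0x80000001000020010000000080000000000000008000000100002001000000008000000080000001000020010000000080009)]] ([z] ++ R1) = true := by decide +kernel
theorem simple : IsSimpleGroup PM.G :=
  simple_of_cert PMT.rep faith (by norm_num) PMT.coset.trans prim z_pow (by decide +kernel) sat1
    PMC.cert rfl rfl rfl rfl der0 PMC.der

end PM

end Cfsg.Agent.H17
namespace Cfsg.Agent.H17.PM

/-- the images of the letters -/
noncomputable def σ : List (List ℕ) := [[nat_lit 0],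
  unp 8 19 (nat_lit 0x6010201040504030206010206030201040600),
  unp 8 14 (nat_lit 0x304070003020304030203060403),
  [nat_lit 7, nat_lit 4, nat_lit 6],
  [nat_lit 6, nat_lit 2, nat_lit 3, nat_lit 2, nat_lit 7]]

theorem exists_sub : ∃ K : Subgroup Cfsg.Spor.ON, IsSimpleGroup K ∧ Nat.card K = 7920 := by
  haveI := simple
  obtain ⟨ψ, h, -⟩ := pres.exists_hom_sub (f := ON.g) (σ := σ)
    (inv_sub_of_sat (by decide) (by decide) (ON.faith.satS ONT.rep ONS.ok (by decide +kernel))) rfl
    (ON.faith.satS ONT.rep ONS.ok (by decide +kernel))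
  have i := inj_of_simple ψ (a := g 0) (by rw [h]; exact ONT.rep.ne_one (u := [0]) (i := 14) (by decide +kernel))
  exact ⟨_, (simple_card_range i).1, (simple_card_range i).2.trans faith.card⟩

end Cfsg.Agent.H17.PM

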