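import Cfsg.Agent.H27.OutT

/-! Centralisers when an odd permutation preserves the invariant. -/

set_option autoImplicit false
set_option linter.style.haveILetI false

namespace Cfsg.Agent.H27.Tl

open Cfsg Subgroup MulAction Equiv
open H16 (ifB ifB_eq allB allB_spec allL allL_iff Rep Inj sumN sumN_eq)
open H17 (ev ev_nil ev_cons ev_append nth)

/-- inserts the values of `f` -/
noncomputable def distT (f : ℕ → ℕ) (n : ℕ) : Tr :=
  Nat.rec (motive := fun _ => Tr) .leaf (fun i t => t.bind fun t => frc (f i) fun y => t.ins y) n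

theorem dist_spec (f : ℕ → ℕ) : ∀ n, distT f n = .bad ∨
    (∀ i < n, (distT f n).mem (f i)) ∧ ∀ j < n, ∀ i < j, f i ≠ f j
  | 0 => .inr ⟨by simp, by simp⟩
  | n + 1 => by
    have e : distT f (n + 1) = (distT f n).bind fun t => frc (f n) fun y => t.ins y := rfl
    rcases (distT f n).bind_eq fun t => frc (f n) fun y => t.ins y with h | h
    · exact .inl (e.trans h.2)
    obtain ⟨a, b⟩ := (dist_spec f n).resolve_left h.1
    rw [e, h.2, frc_eq]
    refine ((distT f n).ins_spec (f n)).imp_right fun ⟨p, q, r⟩ => ⟨fun i hi => ?_, fun j hj i hi => ?_⟩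
    · rcases Nat.lt_succ_iff_lt_or_eq.1 hi with c | rfl
      exacts [r _ (a i c), q]
    · rcases Nat.lt_succ_iff_lt_or_eq.1 hj with c | rfl
      exacts [b j c i hi, fun t => p (t ▸ a i hi)]

theorem dist_inj {f : ℕ → ℕ} {n : ℕ} (h : Mc.good (distT f n) = true) : ∀ i < n, ∀ j < n, f i = f j → i = j := by
  obtain ⟨-, b⟩ := (dist_spec f n).resolve_left fun e => by rw [e] at h; cases h
  intro i hi j hj e
  rcases lt_trichotomy i j with c | c | c
  exacts [absurd e (b j hj i c), c, absurd e.symm (b i hi j c)]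

/-- the invariants with the points of a list -/
noncomputable def sigF (ρ : ℕ → ℕ → ℕ) (F : List ℕ) (i : ℕ) : ℕ :=
  List.rec (motive := fun _ => ℕ) 0 (fun f _ ih => Nat.add (Nat.mul ih 8) (ρ f i)) F

/-- the permutations that preserve the invariant -/
def AG (n : ℕ) (ρ : ℕ → ℕ → ℕ) : Subgroup (Perm (Fin n)) :=
  ⟨⟨⟨{π | ∀ y z : Fin n, ρ (π y) (π z) = ρ y z}, fun a b y z => (a _ _).trans (b y z)⟩, fun _ _ => rfl⟩,
    fun {π} a y z => by simpa using (a (π⁻¹ y) (π⁻¹ z)).symm⟩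

variable {n w : ℕ} [NeZero n] {ρ : ℕ → ℕ → ℕ}

theorem ofNat_val {i : ℕ} (h : i < n) : (Fin.ofNat n i : ℕ) = i := Nat.mod_eq_of_lt h

theorem isAct_AG (hw : n ≤ 2 ^ w) {F : List ℕ} (hb : ∀ b ∈ F, b < n) (h : Mc.good (distT (sigF ρ F) n) = true) :
    IsAct (G := AG n ρ) (Mc.perm w n F) (fun g x => Rep (Fin.ofNat n) n (g : Perm (Fin n)) (H16.get w x))
      (fun ω y => y < n ∧ Fin.ofNat n y = ω) := by
  refine isAct_perm hw (fun i hi j hj e => by rw [← ofNat_val hi, e, ofNat_val hj]) _ hb fun g hg hf =>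
    Equiv.ext fun i => Fin.ext (dist_inj h _ (g i).2 _ i.2 ?_)
  clear h
  induction F with
  | nil => rfl
  | cons f F ih =>
    have := hg (Fin.ofNat n f) i
    rw [show g _ = _ from hf f (by simp), ofNat_val (hb f (by simp))] at this
    exact congrArg₂ (fun a b => Nat.add (Nat.mul a 8) b) (ih (fun b h => hb b (by simp [h])) fun b h => hf b (by simp [h])) this

theorem inv_AG (F : List ℕ) : Inv (AG n ρ) (Mc.perm w n F) (fun ω y => y < n ∧ Fin.ofNat n y = ω) n ρ where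
  ok _ := rfl
  all := fun g {ω _} _ => ⟨_, (g • ω).2, (g • ω).2, Fin.ofNat_val_eq_self ..⟩
  eq := by
    rintro g _ _ y z y' z' ⟨a, rfl⟩ ⟨b, rfl⟩ ⟨c, p⟩ ⟨e, q⟩
    have := g.2 (Fin.ofNat n y) (Fin.ofNat n z)
    rwa [show g.1 _ = _ from p.symm, show g.1 _ = _ from q.symm, ofNat_val a, ofNat_val b, ofNat_val c, ofNat_val e,
      eq_comm] at this

/-- an odd involution that normalises the group and preserves the invariant -/
noncomputable def tauB (w n : ℕ) (ρ : ℕ → ℕ → ℕ) (L : List ℕ) (c : ℕ) (σ : List (List ℕ)) : Bool :=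
  (allB n fun i => frc (H16.get w c i) fun j => Nat.blt j n && Nat.beq (H16.get w c j) i &&
    Nat.beq (ρ (H16.get w c 0) j) (ρ 0 i)) &&
  Nat.beq ((n - sumN n fun i => ifB (Nat.beq (H16.get w c i) i) 1 0) / 2 % 2) 1 &&
  allB σ.length fun l => H17.forceL ((Mc.perm w n (List.range n)).cw (c :: L) [0, l + 1, 0]) fun u =>
    H17.forceL ((Mc.perm w n (List.range n)).cw (c :: L) ((nth [] σ l).map (· + 1))) ((Mc.perm w n (List.range n)).weqB u)

theorem cent_even {G : Type*} [Group G] {φ : G →* Perm ℕ} {m : ℕ} {base : List ℕ} (hF : H17.Faith φ m base)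
    (hw : n ≤ 2 ^ w) (hb : ∀ b ∈ base, b < n) (hp : commutator G = ⊤) (ht : ∀ j < n, ∃ a, φ a 0 = j)
    (I : Inv (Ω := Pt φ) G (Mc.perm w n base) (fun ω y => y < n ∧ id y = ω) n ρ) {g g0 : ℕ → G} {L : List ℕ}
    (hg : ∀ i, Rep (Ω := Pt φ) id n (g i) (H16.get w (nth (H16.pid w n) L i))) {σ : List (List ℕ)} {k0 : ℕ}
    (h0 : H17.Gens k0 σ.length g0) (e : ∀ i < σ.length, g i = g0 i) {c : ℕ} (hc : tauB w n ρ L c σ = true)
    {x k y z : ℕ} {W : List (List ℕ)} {B D F : List ℕ} (h1 : ∀ b ∈ F, b < n) (h2 : Mc.good (distT (sigF ρ F) n) = true)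
    (h3 : (Mc.perm w n F).centB n ρ (c :: L) (x + 1) k y z (W.map (List.map (· + 1)) ++ W.map fun u => 0 :: u.map (· + 1))
      B D = true) : CentOK g x W := by
  have lt : ∀ a (i : Fin n), φ a i < n := fun a i => let ⟨j, p, _, q⟩ := I.all a (ω := i.1) ⟨i.2, rfl⟩
    (show j = φ a i from q) ▸ p
  letI : MulAction G (Fin n) :=
    { smul a i := ⟨φ a i, lt a i⟩
      one_smul i := Fin.ext (show φ 1 i = i by simp)
      mul_smul a b i := Fin.ext (show φ (a * b) i = φ a (φ b i) by simp) }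
  let ι : G →* AG n ρ := (toPermHom G (Fin n)).codRestrict _ fun a y z =>
    (I.eq a (ω := y.1) (ω' := z.1) ⟨y.2, rfl⟩ ⟨z.2, rfl⟩ ⟨lt a y, rfl⟩ ⟨lt a z, rfl⟩).symm
  simp only [tauB, Bool.and_eq_true, Nat.beq_eq, H17.forceL_eq] at hc
  have t : ∀ i < n, (H16.get w c i < n ∧ H16.get w c (H16.get w c i) = i) ∧
      ρ (H16.get w c 0) (H16.get w c i) = ρ 0 i := fun i hi => by simpa [frc_eq] using allB_spec hc.1.1 i hi
  let τ : Perm (Fin n) := Function.Involutive.toPerm (fun i => ⟨H16.get w c i, (t i i.2).1.1⟩) fun i => Fin.ext (t i i.2).1.2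
  have t2 : τ * τ = 1 := Equiv.ext fun i => Fin.ext (t i i.2).1.2
  let g' : ℕ → Perm (Fin n) := fun l => Nat.rec τ (fun l _ => ι (g l)) l
  have r : ∀ i, Rep (Fin.ofNat n) n (g' i) (H16.get w (nth (H16.pid w n) (c :: L) i)) := fun
    | 0 => fun i hi => ⟨(t i hi).1.1, Fin.ext
      ((congrArg (H16.get w c) (ofNat_val hi)).trans (ofNat_val (t i hi).1.1).symm)⟩
    | l + 1 => fun i hi => ⟨(hg l i hi).1, Fin.ext
      (((congrArg (φ (g l)) (ofNat_val hi)).trans (hg l i hi).2).trans (ofNat_val (hg l i hi).1).symm)⟩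
  have s : ∀ u : List ℕ, ev g' (u.map (· + 1)) = ι (ev g u) := fun u => by
    rw [← Subgroup.subtype_apply, ← MonoidHom.comp_apply, H17.map_ev, ev, List.map_map]; rfl
  have A0 := isAct_top (G := Perm (Fin n)) (pt := Fin.ofNat n) (base := List.range n) hw
    (fun i hi j hj e => by rw [← ofNat_val hi, e, ofNat_val hj]) (by simp) fun π h =>
      Equiv.ext fun i => by simpa using h i (List.mem_range.2 i.2)
  have nm : ∀ a, ∃ b, τ * ι a * τ⁻¹ = ι b := fun a => by
    obtain ⟨v, rfl⟩ := h0.surj a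
    refine (H17.ev_mem (H := ((AG n ρ).subtype.comp ι).range.comap
      ((MulAut.conj τ).toMonoidHom.comp ((AG n ρ).subtype.comp ι))) fun l _ => ?_).imp fun _ h => h.symm
    by_cases hl : l < σ.length
    · refine ⟨ev g (nth [] σ l), (s _).symm.trans ((A0.weqB r (allB_spec hc.2 l hl)).symm.trans ?_)⟩
      simp [g', ← e l hl, inv_eq_of_mul_eq_one_right t2, mul_assoc]
    · rw [h0.triv l (not_lt.1 hl)]; exact one_mem _
  have tm : τ ∈ AG n ρ := fun y z => by
    obtain ⟨a, ha⟩ := ht y y.2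
    obtain ⟨b, hb⟩ := nm a⁻¹
    have : (ι a⁻¹).1 y = 0 := Fin.ext (show φ a⁻¹ y = 0 by simp [← ha])
    rw [← (ι b).2, ← (ι a⁻¹).2 y, ← hb]
    simp only [Perm.mul_apply, Perm.coe_inv, Equiv.symm_apply_apply, this]
    exact (t _ ((ι a⁻¹).1 z).2).2
  have sg : ∀ a, Perm.sign (ι a).1 = 1 := fun a =>
    Abelianization.commutator_subset_ker (Perm.sign.comp ((AG n ρ).subtype.comp ι)) (hp ▸ mem_top a)
  have st : Perm.sign τ = -1 := by
    rw [Perm.sign_of_pow_two_eq_one ((sq τ).trans t2), Fintype.card_fin, Fintype.card_subtype, Finset.card_filter,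
      Finset.sum_congr rfl (g := fun i : Fin n => ifB (Nat.beq (H16.get w c i) i) 1 0) fun i _ => by
        rw [ifB_eq]; exact if_congr (Fin.ext_iff.trans Nat.beq_eq.symm.to_iff) rfl rfl,
      Fin.sum_univ_eq_sum_range (fun i => ifB (Nat.beq (H16.get w c i) i) 1 0), ← sumN_eq]
    exact Odd.neg_one_pow (Nat.odd_iff.2 hc.1.2)
  intro u hu
  let g'' : ℕ → AG n ρ := fun l => Nat.rec ⟨τ, tm⟩ (fun l _ => ι (g l)) l
  have q : ∀ l, (AG n ρ).subtype (g'' l) = g' l := fun l => by cases l <;> rfl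
  obtain ⟨v, hv, f⟩ := cent_spec (isAct_AG hw h1 h2) (inv_AG F) (g := g'') (fun i => (congrArg (Rep _ n · _) (q i)).mpr (r i)) h3 (hu.map ι)
  have f := (congrArg (AG n ρ).subtype f).trans (H17.map_ev' _ q v)
  rcases List.mem_append.1 hv with hv | hv <;> obtain ⟨v, hv', rfl⟩ := List.mem_map.1 hv
  · refine ⟨v, hv', (isAct_tab hF hw hb).faith _ _ fun i _ ω hω => ?_⟩
    obtain ⟨hi, rfl⟩ := hω
    exact congrArg (fun π : Perm (Fin n) => (π ⟨i, hi⟩).1) (f.trans (s v))
  · have := congrArg Perm.sign f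
    rw [ev_cons, s, map_mul, sg, Subgroup.subtype_apply, sg, show g' 0 = τ from rfl, st] at this
    cases this

end Cfsg.Agent.H27.Tl
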