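import Cfsg.Agent.H27.OutT
import Cfsg.Agent.H27.Wrd
import Cfsg.Agent.H16.BT2

/-! Centralisers from fixed points, and automorphisms in the model of words. -/

set_option autoImplicit false

namespace Cfsg.Agent.H27.Tl

open Cfsg Subgroup MulAction
open H16 (allB allB_spec allL allL_iff)
open H17 (ev ev_nil ev_cons nth SD TD force force_eq)

universe u v

variable {G : Type u} [Group G] {Ω : Type v} [MulAction G Ω] {M : Mc} {R : G → ℕ → Prop} {P : Ω → ℕ → Prop}

/-- adds the points that are moved in one of the first `k` bits -/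
noncomputable def movPl (D : TD) (u : List ℕ) (k : ℕ) : ℕ → ℕ :=
  Nat.rec (motive := fun _ => ℕ → ℕ) (fun S => S) (fun k ih S => force (H17.idxPlane D.lg D.N k) fun X =>
    force (Nat.lor S (Nat.xor (D.pullW1 u X) X)) ih) k

theorem testBit_movPl {D : TD} (h : D.Shape) {u : List ℕ} {i : ℕ} (e : ev D.ρ u i = i) :
    ∀ k S, (movPl D u k S).testBit i = S.testBit i
  | 0, _ => rfl
  | k + 1, S => by
    change (force _ fun X => force (Nat.lor S (Nat.xor (D.pullW1 u X) X)) (movPl D u k)).testBit i = _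
    rw [force_eq, force_eq, testBit_movPl h e k, H17.lor_eq, H17.xor_eq, Nat.testBit_or, Nat.testBit_xor,
      TD.testBit_pullW1 h, e]
    simp

/-- the fixed points of the word are listed -/
noncomputable def fixL (D : TD) (u F : List ℕ) : Bool :=
  Nat.beq (movPl D u D.lg (F.foldr (fun f m => 2 ^ f ||| m) 0)) (H17.ones D.n)

theorem mem_of_fixL {g : ℕ → G} {D : TD} {φ : G →* Equiv.Perm ℕ} (h : H17.Rep g D φ) {u F : List ℕ}
    (c : fixL D u F = true) {a : G} (e : φ (ev g u) 0 = 0) (hn : 0 < D.n) (ha : Commute a (ev g u)) : φ a 0 ∈ F := by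
  have := testBit_movPl h.good.toShape (u := u) (i := φ a 0) (by
    rw [← h.map_ev, ← Equiv.Perm.mul_apply, ← map_mul, ← ha.eq, map_mul, Equiv.Perm.mul_apply, e]) D.lg
    (F.foldr (fun f m => 2 ^ f ||| m) 0)
  rw [Nat.eq_of_beq_eq_true c, H17.testBit_ones, decide_eq_true (h.lt a hn)] at this
  clear c
  induction F with
  | nil => simp at this
  | cons f F ih =>
    rw [List.foldr_cons, Nat.testBit_or, Nat.testBit_two_pow, eq_comm, Bool.or_eq_true, decide_eq_true_eq] at this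
    exact List.mem_cons.2 (this.imp Eq.symm fun t => ih t.symm)

theorem pigeon [Finite G] {H C : Subgroup G} {ω b : Ω} (hH : ∀ a : G, a • ω = ω → a ∈ H) {u : G} (hu : u ∈ C)
    {l : List G} (hl : l.Nodup) (h : ∀ p ∈ l, p ∈ C ∧ p • u • ω = b) : l.length ≤ Nat.card (H ⊓ C : Subgroup G) := by
  classical
  rcases l with _ | ⟨q, l⟩
  · exact Nat.zero_le _
  have hq := h q List.mem_cons_self
  rw [← List.toFinset_card_of_nodup hl, ← Fintype.card_coe, ← Nat.card_eq_fintype_card]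
  refine Nat.card_le_card_of_injective (fun p => ⟨(q * u)⁻¹ * (p.1 * u), ?_, ?_⟩) fun p p' e => ?_
  · exact hH _ (by rw [mul_smul, mul_smul, (h _ (List.mem_toFinset.1 p.2)).2, ← hq.2, ← mul_smul q, inv_smul_smul])
  · exact C.mul_mem (C.inv_mem (C.mul_mem hq.1 hu)) (C.mul_mem (h _ (List.mem_toFinset.1 p.2)).1 hu)
  · exact Subtype.ext (by simpa using congrArg Subtype.val e)

theorem centOK_pow [Finite G] {g : ℕ → G} {x p : ℕ} (hp : p.Prime) (h0 : g x ≠ 1) (h1 : g x ^ p = 1) {H : Subgroup G}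
    (hc : ∀ u, Commute u (g x) → u ∈ H) (hm : Nat.card (H ⊓ centralizer {g x} : Subgroup G) ≤ p) :
    CentOK g x ((List.range p).map (List.replicate · x)) := fun u hu => by
  haveI := Fact.mk hp
  have o := orderOf_eq_prime h1 h0
  have e : zpowers (g x) = H ⊓ centralizer {g x} := eq_of_le_of_card_ge
    (zpowers_le.2 ⟨hc _ (.refl _), mem_centralizer_singleton_iff.2 rfl⟩) (by rwa [Nat.card_zpowers, o])
  obtain ⟨k, rfl⟩ := mem_powers_iff_mem_zpowers.2 (e ▸ ⟨hc u hu, mem_centralizer_singleton_iff.2 hu⟩ : u ∈ zpowers (g x))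
  exact ⟨_, List.mem_map_of_mem (List.mem_range.2 (Nat.mod_lt k hp.pos)), by
    rw [Tl.ev_rep, ← o, pow_mod_orderOf]⟩

namespace Mc
variable (M) (L : List ℕ)

/-- many words commute with the letter `x` and send `0` or `t.1` to `t.1` -/
noncomputable def cenB (x z m : ℕ) (T : List (ℕ × Bool × List (List ℕ))) : Bool :=
  M.ptB z && T.all fun t => (t.2.2.all fun w => M.weqB (M.cw L (w ++ [x])) (M.cw L (x :: w)) &&
    Nat.beq (M.appL (M.cw L w) (cond t.2.1 0 t.1)) t.1) && decide (t.2.2.map fun w => M.appL (M.cw L w) z).Nodup &&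
    Nat.ble (cond t.2.1 m (m + 1)) t.2.2.length

/-- the candidates for the image of the letter `x` that survive the relators -/
noncomputable def filtB (Kn : List ℕ) (τ : ℕ → List ℕ) (x z : ℕ) (Ws Kp Rs : List (List ℕ)) : Bool :=
  (Rs.all fun r => (r.all fun l => (x :: Kn).elem l) && M.weqB (M.cw L r) (M.cw L [])) &&
    Ws.all fun w => Kp.elem w || Rs.any fun r => M.neB L (r.flatMap fun l => if l = x then w else τ l) [] z

/-- the letters are products of known letters -/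
noncomputable def genB (nc : ℕ) (St : List (ℕ × List ℕ)) : List ℕ → Bool :=
  List.rec (motive := fun _ => List ℕ → Bool) (fun Kn => (List.range nc).all fun l => Kn.elem l)
    (fun s _ ih Kn => (s.2.all fun l => Kn.elem l) && M.weqB (M.cw L [s.1]) (M.cw L s.2) && ih (s.1 :: Kn)) St

end Mc

section act
variable (A : IsAct M R P) (ok : ∀ y, M.ok y = true) {g : ℕ → G} {L : List ℕ} (hg : ∀ i, R (g i) (nth M.one L i))
include A ok hg

theorem IsAct.cen [Finite G] {H : Subgroup G} {ω : Ω} (hω : P ω 0) (hH : ∀ a : G, a • ω = ω → a ∈ H) {x z m : ℕ}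
    (hm : Nat.card (H ⊓ centralizer {g x} : Subgroup G) ≤ m) {T : List (ℕ × Bool × List (List ℕ))}
    (hT : ∀ u, Commute u (g x) → ∃ t ∈ T, P (u • ω) t.1) (h : M.cenB L x z m T = true) :
    CentOK g x (T.flatMap fun t => cond t.2.1 t.2.2 []) := fun u hu => by
  simp only [Mc.cenB, Bool.and_eq_true, List.all_eq_true, decide_eq_true_eq, Nat.beq_eq, Nat.ble_eq] at h
  obtain ⟨⟨f, b, W⟩, ht, p⟩ := hT u hu
  obtain ⟨⟨h1, h2⟩, h3⟩ := h.2 _ ht
  obtain ⟨ψ, q⟩ := A.pt h.1
  have nd : (W.map (ev g)).Nodup := List.pairwise_map.2 ((List.pairwise_map.1 h2).imp fun {v w} n (e : ev g v = ev g w) =>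
    n (A.inj (A.appL hg q v) (e ▸ A.appL hg q w) (ok _) (ok _)))
  have c : ∀ w ∈ W, ev g w ∈ centralizer {g x} := fun w hw =>
    mem_centralizer_singleton_iff.2 (by simpa using A.weqB hg (h1 w hw).1)
  cases b
  · have := (pigeon hH (mem_centralizer_singleton_iff.2 hu) nd (b := u • ω) (List.forall_mem_map.2 fun w hw =>
      ⟨c w hw, A.fn ((h1 w hw).2 ▸ A.appL hg p w :) p (ok _)⟩)).trans hm
    rw [List.length_map] at this
    exact absurd (h3.trans this) (Nat.not_succ_le_self m)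
  · by_contra n
    have := (pigeon hH (one_mem (centralizer {g x})) (l := u :: W.map (ev g)) (b := u • ω) (List.nodup_cons.2 ⟨fun e =>
      let ⟨w, hw, e⟩ := List.mem_map.1 e; n ⟨w, List.mem_flatMap.2 ⟨_, ht, hw⟩, e.symm⟩, nd⟩)
      (List.forall_mem_cons.2 ⟨⟨mem_centralizer_singleton_iff.2 hu, by rw [one_smul]⟩, List.forall_mem_map.2 fun w hw =>
        ⟨c w hw, by rw [one_smul]; exact A.fn ((h1 w hw).2 ▸ A.appL hg hω w :) p (ok _)⟩⟩)).trans hm
    rw [List.length_cons, List.length_map] at this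
    exact absurd ((Nat.succ_le_succ h3).trans this) (Nat.not_succ_le_self m)

theorem IsAct.filt {φ : MulAut G} {Kn : List ℕ} {τ : ℕ → List ℕ} (hφ : ∀ l ∈ Kn, φ (g l) = ev g (τ l)) {x z : ℕ}
    {Ws Kp Rs : List (List ℕ)} (hx : ∃ w ∈ Ws, φ (g x) = ev g w) (h : M.filtB L Kn τ x z Ws Kp Rs = true) :
    ∃ w ∈ Kp, φ (g x) = ev g w := by
  simp only [Mc.filtB, Bool.and_eq_true, List.all_eq_true, Bool.or_eq_true, List.any_eq_true, List.elem_eq_mem,
    decide_eq_true_eq] at h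
  obtain ⟨w, hw, f⟩ := hx
  refine ⟨w, (h.2 w hw).resolve_right fun ⟨r, hr, t⟩ => A.neB ok hg t ?_, f⟩
  rw [ev_subst, H17.ev_congr (h := fun l => φ (g l)) fun l hl => ?_,
    ← H17.map_ev' φ.toMonoidHom (g := g) (h := fun l => φ (g l)) fun _ => rfl, A.weqB hg (h.1 r hr).2, ev_nil, map_one]
  split_ifs with t
  · rw [t, f]
  · exact (hφ l ((List.mem_cons.1 ((h.1 r hr).1 l hl)).resolve_left t)).symm

omit ok in
theorem IsAct.gen {K : Subgroup G} {k nc : ℕ} {g0 : ℕ → G} (h0 : H17.Gens k nc g0) (e : ∀ i < nc, g i = g0 i) :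
    ∀ (St : List (ℕ × List ℕ)) {Kn : List ℕ}, (∀ l ∈ Kn, g l ∈ K) → M.genB L nc St Kn = true → ∀ a, a ∈ K
  | [], Kn, hK, h => fun a => by
    obtain ⟨v, rfl⟩ := h0.surj a
    refine H17.ev_mem fun i _ => ?_
    by_cases hi : i < nc
    · exact e i hi ▸ hK i (List.mem_of_elem_eq_true (List.all_eq_true.1 h i (List.mem_range.2 hi)))
    · rw [h0.triv i (not_lt.1 hi)]; exact one_mem _
  | s :: St, Kn, hK, h => by
    change ((s.2.all fun l => Kn.elem l) && M.weqB (M.cw L [s.1]) (M.cw L s.2) && M.genB L nc St (s.1 :: Kn)) = true at h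
    simp only [Bool.and_eq_true] at h
    refine IsAct.gen h0 e St (List.forall_mem_cons.2 ⟨?_, hK⟩) h.2
    rw [← H17.ev_single g, A.weqB hg h.1.2]
    exact H17.ev_mem fun l hl => hK l (List.mem_of_elem_eq_true (List.all_eq_true.1 h.1.1 l hl))

end act

theorem isAct_wrd {g : ℕ → G} {D : TD} {φ : G →* Equiv.Perm ℕ} (h : H17.Rep g D φ) {m : ℕ} {base : List ℕ}
    (hF : H17.Faith φ m base) {S : SD} (hS : S.OK D) (hb : ∀ b ∈ base, b < D.N) :
    IsAct (Ω := Pt φ) (Mc.word S D.N base) (fun a : G => WR g ⊤ ⟨a, trivial⟩) (fun ω y => y < D.N ∧ y = ω) :=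
  let A := isAct_word h hF hS ⊤ hb
  ⟨A.app, A.mul, A.one, A.fn, A.inj, A.pt, fun a b e => congrArg Subtype.val (A.faith ⟨a, trivial⟩ ⟨b, trivial⟩ e)⟩

theorem exists_wrd {k nc : ℕ} {g0 : ℕ → G} (hI : H17.Inv k g0) {L : List ℕ}
    (h : (allL L (Nat.blt 0) && allB nc fun i => dec (nth 1 L i) == [H17.inv k i]) = true) :
    ∃ g : ℕ → G, (∀ i < nc, g i = g0 i) ∧ ∀ i, WR g0 ⊤ ⟨g i, trivial⟩ (nth 1 L i) := by
  rw [Bool.and_eq_true] at h
  refine ⟨fun i => (ev g0 (dec (nth 1 L i)))⁻¹, fun i hi => ?_, fun i => ⟨?_, rfl⟩⟩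
  · beta_reduce
    rw [eq_of_beq (allB_spec h.2 i hi), H17.ev_single, hI, inv_inv]
  · exact H17.nth_prop (P := (· ≠ 0)) one_ne_zero (fun a e => (Nat.blt_eq ▸ allL_iff.1 h.1 a e : 0 < a).ne') i

/-- the code of a word -/
noncomputable def wcd (w n : ℕ) (S u : List ℕ) : ℕ := u.foldr (fun l p => H16.pmul w n (nth 0 S l) p) (H16.pid w n)

theorem rep_wcd {pt : ℕ → Ω} {n w k : ℕ} (hw : n ≤ 2 ^ w) {g : ℕ → G} {S : List ℕ}
    (h : ∀ i < k, H16.Rep pt n (g i) (H16.get w (nth 0 S i))) :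
    ∀ u : List ℕ, (∀ l ∈ u, l < k) → H16.Rep pt n (ev g u) (H16.get w (wcd w n S u))
  | [], _ => H16.Rep.pid hw
  | l :: u, c => (h l (c l List.mem_cons_self)).pmul hw (rep_wcd hw h u fun a b => c a (List.mem_cons_of_mem _ b))

end Cfsg.Agent.H27.Tl
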