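import Cfsg.Agent.H27.Prj
import Cfsg.Agent.H16.OutEng

/-! Centralisers by an invariant of pairs of points, and groups without outer automorphisms. -/

set_option autoImplicit false

namespace Cfsg.Agent.H27.Tl

open Cfsg Subgroup MulAction
open H16 (allB allB_spec allL allL_iff)
open H17 (ev ev_nil ev_cons ev_append nth)

universe u v

variable {G : Type u} [Group G] {Ω : Type v} [MulAction G Ω] {M : Mc} {R : G → ℕ → Prop} {P : Ω → ℕ → Prop}

/-- `ρ` is an invariant of pairs of points -/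
structure Inv (G : Type u) [Group G] [MulAction G Ω] (M : Mc) (P : Ω → ℕ → Prop) (n : ℕ) (ρ : ℕ → ℕ → ℕ) : Prop where
  ok : ∀ y, M.ok y = true
  all : ∀ (g : G) {ω y}, P ω y → ∃ y' < n, P (g • ω) y'
  eq : ∀ (g : G) {ω ω' y z y' z'}, P ω y → P ω' z → P (g • ω) y' → P (g • ω') z' → ρ y z = ρ y' z'

namespace Mc
variable (M) (n : ℕ) (ρ : ℕ → ℕ → ℕ) (c k : ℕ)

/-- the invariants along two cycles agree -/
noncomputable def same (u u' : ℕ) : ℕ → ℕ → Bool :=
  Nat.rec (motive := fun _ => ℕ → ℕ → Bool) (fun _ _ => true) (fun _ ih z z' => frc (M.app c z) fun z =>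
    frc (M.app c z') fun z' => Bool.rec (motive := fun _ => Bool) false (ih z z') (Nat.beq (ρ u z) (ρ u' z'))) k

/-- adds the points of a cycle -/
noncomputable def cyc (f : List ℕ → Bool) : ℕ → List ℕ → Bool :=
  Nat.rec (motive := fun _ => ℕ → List ℕ → Bool) (fun _ F => f F)
    (fun _ ih y F => frc (M.app c y) fun z => ih z (y :: F)) k

/-- the points of `D` are determined one after the other -/
noncomputable def det (D : List ℕ) : List ℕ → Bool :=
  List.rec (motive := fun _ => List ℕ → Bool) (fun F => allL M.base fun b => F.elem b)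
    (fun y _ ih F => M.ptB y && (allB n fun i => Bool.rec (motive := fun _ => Bool) true (Nat.beq i y)
      (allL F fun f => Nat.beq (ρ y f) (ρ i f))) && M.cyc c k ih y F) D

/-- the words `Ws` give the centraliser of the letter `x` -/
noncomputable def centB (L : List ℕ) (x k y z : ℕ) (Ws : List (List ℕ)) (B D : List ℕ) : Bool :=
  M.ptB y && M.ptB z && (Ws.all fun w => M.weqB (M.cw L (w ++ [x])) (M.cw L (x :: w))) && frc (nth M.one L x) fun c =>
    H17.forceL ((y :: B).flatMap fun r => Ws.map fun w => M.appL (M.cw L w) r) (fun Y => allB n fun i =>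
      Bool.rec (motive := fun _ => Bool) true (Y.elem i) (M.same ρ c k y i y i)) &&
    (B.all fun r => M.ptB r && allB n fun j => Bool.rec (motive := fun _ => Bool) true (!M.same ρ c k z j z j)
      (M.same ρ c k z j y r)) && M.cyc c k (M.det n ρ c k D) y []

end Mc

variable (A : IsAct M R P) {n : ℕ} {ρ : ℕ → ℕ → ℕ} (I : Inv G M P n ρ) {x u : G} {c : ℕ} (hx : R x c) (hu : Commute u x)
include A hx hu

include I in
theorem same_spec {ω y y'} (p : P ω y) (q : P (u • ω) y') : ∀ (k : ℕ) {ω' z z'}, P ω' z → P (u • ω') z' →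
    M.same ρ c k y y' z z' = true
  | 0, _, _, _, _, _ => rfl
  | k + 1, ω', z, z', r, s => by
    have r' := A.app hx r
    have s' := A.app hx s
    rw [smul_smul, ← hu.eq, mul_smul] at s'
    change frc _ (fun z => frc _ fun z' => Bool.rec (motive := fun _ => Bool) false (M.same ρ c k y y' z z')
      (Nat.beq (ρ y z) (ρ y' z'))) = true
    rw [frc_eq, frc_eq, I.eq u p r' q s', Nat.beq_refl]
    exact same_spec p q k r' s'

theorem cyc_spec {f : List ℕ → Bool} : ∀ (k : ℕ) {y : ℕ} {F : List ℕ}, M.cyc c k f y F = true →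
    (∀ z ∈ y :: F, ∃ ω, P ω z ∧ u • ω = ω) → ∃ F, f F = true ∧ ∀ z ∈ F, ∃ ω, P ω z ∧ u • ω = ω
  | 0, _, F, h, p => ⟨F, h, fun z hz => p z (List.mem_cons_of_mem _ hz)⟩
  | k + 1, y, F, h, p => by
    obtain ⟨ω, a, b⟩ := p y List.mem_cons_self
    exact cyc_spec k ((frc_eq _ fun z => M.cyc c k f z (y :: F)).symm.trans h) (List.forall_mem_cons.2
      ⟨⟨_, A.app hx a, by rw [smul_smul, hu.eq, mul_smul, b]⟩, p⟩)

include I in
theorem det_spec (k : ℕ) : ∀ (D : List ℕ) {F : List ℕ}, M.det n ρ c k D F = true →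
    (∀ z ∈ F, ∃ ω, P ω z ∧ u • ω = ω) → u = 1
  | [], F, h, p => A.faith _ _ fun b hb ω hω => by
    obtain ⟨ω', a, e⟩ := p b (List.mem_of_elem_eq_true (allL_iff.1 h b hb))
    rw [A.fn hω a (I.ok _), e, one_smul]
  | y :: D, F, h, p => by
    change (M.ptB y && (allB n fun i => Bool.rec (motive := fun _ => Bool) true (Nat.beq i y)
      (allL F fun f => Nat.beq (ρ y f) (ρ i f))) && M.cyc c k (M.det n ρ c k D) y F) = true at h
    simp only [Bool.and_eq_true] at h
    obtain ⟨ω, a⟩ := A.pt h.1.1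
    obtain ⟨i, hi, b⟩ := I.all u a
    have := allB_spec h.1.2 i hi
    rw [allL_iff.2 fun f hf => let ⟨ω', r, s⟩ := p f hf; Nat.beq_eq ▸ I.eq u a r b (s.symm ▸ r)] at this
    obtain ⟨F', r, s⟩ := cyc_spec A hx hu k h.2 (List.forall_mem_cons.2
      ⟨⟨ω, a, A.fn (Nat.eq_of_beq_eq_true this ▸ b) a (I.ok _)⟩, p⟩)
    exact det_spec k D r s

omit hx hu
include I in
theorem cent_spec {g : ℕ → G} {L : List ℕ} (hg : ∀ i, R (g i) (nth M.one L i)) {x k y z : ℕ} {Ws : List (List ℕ)}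
    {B D : List ℕ} (h : M.centB n ρ L x k y z Ws B D = true) {u : G} (hu : Commute u (g x)) :
    ∃ w ∈ Ws, u = ev g w := by
  simp only [Mc.centB, frc_eq, H17.forceL_eq, Bool.and_eq_true, List.all_eq_true] at h
  obtain ⟨⟨⟨h1, h2⟩, h3⟩, ⟨h4, h5⟩, h6⟩ := h
  obtain ⟨ω, a⟩ := A.pt h1
  obtain ⟨i, hi, b⟩ := I.all u a
  have := allB_spec h4 i hi
  rw [same_spec A I (hg x) hu a b k a b] at this
  obtain ⟨r, hr, e⟩ := List.mem_flatMap.1 (List.mem_of_elem_eq_true this)
  obtain ⟨w, hw, rfl⟩ := List.mem_map.1 e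
  have e : Commute (ev g w) (g x) := by simpa [commute_iff_eq] using A.weqB hg (h3 w hw)
  have hu' := e.inv_left.mul_left hu
  have f : ∀ ω', P ω' r → ((ev g w)⁻¹ * u) • ω = ω' := fun ω' p => by
    rw [mul_smul, A.fn b (A.appL hg p w) (I.ok _), inv_smul_smul]
  rcases List.mem_cons.1 hr with rfl | hr
  · obtain ⟨F, r, s⟩ := cyc_spec A (hg x) hu' k h6 fun z hz => List.mem_singleton.1 hz ▸ ⟨ω, a, f ω a⟩
    exact ⟨w, hw, (inv_mul_eq_one.1 (det_spec A I (hg x) hu' k D r s)).symm⟩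
  obtain ⟨ω', p⟩ := A.pt (h5 r hr).1
  obtain ⟨ψ, q⟩ := A.pt h2
  obtain ⟨j, hj, s⟩ := I.all ((ev g w)⁻¹ * u) q
  have := allB_spec (h5 r hr).2 j hj
  rw [same_spec A I (hg x) hu' q s k a (f ω' p ▸ p), same_spec A I (hg x) hu' q s k q s] at this
  cases this

omit A

theorem out_one [Finite G] {a b : G} {p m t : ℕ} (hp : p.Prime) (hN : Nat.card G = p * m) (hm : ¬ p ∣ m) (h0 : a ≠ 1)
    (h1 : a ^ p = 1) (h2 : b * a = a ^ t * b) (ca : ∀ u, Commute u a → ∃ i < p, u = a ^ i) {E : List ℕ}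
    (e1 : ∀ j < p, j = 0 ∨ ∃ k < p, j * t ^ k % p ∈ E) (e2 : ∀ i < p, ∃ k < p, (k + t * i) % p = t * k % p)
    (fin : ∀ φ : MulAut G, ∀ e ∈ E, φ a = a ^ e → φ b = b → φ = 1) : Nat.card (Out G) = 1 := by
  haveI := Fact.mk hp
  have o : orderOf a = p := orderOf_eq_prime h1 h0
  have h3 : ∀ i, b * a ^ i = a ^ (t * i) * b := fun i => by
    rw [pow_mul]; exact (SemiconjBy.pow_right h2 i).eq
  have h4 : ∀ k i, b ^ k * a ^ i = a ^ (i * t ^ k) * b ^ k := fun k i => by
    induction k with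
    | zero => simp
    | succ k ih => rw [pow_succ', mul_assoc, ih, ← mul_assoc, h3, mul_assoc, pow_succ, mul_left_comm, mul_comm (t ^ k)]
  have back : ∀ (φ : MulAut G) (u : G), MulAut.conj u * φ ∈ Inn G → φ ∈ Inn G := fun φ u h =>
    (mul_mem_cancel_left (MonoidHom.mem_range.2 ⟨u, rfl⟩)).1 h
  refine index_eq_one.2 ((eq_top_iff' _).2 fun φ => ?_)
  obtain ⟨u, -, k, hk⟩ := H16.exists_conj_mem_of_pow (K := ⊤) (R := zpowers a) le_top hp (k := 1)
    (by rw [Nat.card_zpowers, o, pow_one]) (by rw [card_top, hN, pow_one]) hm (mem_top (φ a)) (j := 1)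
    (by rw [pow_one, ← map_pow, h1, map_one])
  obtain ⟨j, hj, ej⟩ := ca _ (show Commute (u * φ a * u⁻¹) a from hk ▸ Commute.zpow_self a k)
  rcases e1 j hj with rfl | ⟨k, -, he⟩
  · exact absurd (by simpa using ej) h0
  refine back φ u (back _ (b ^ k) ?_)
  have fa : (MulAut.conj (b ^ k) * (MulAut.conj u * φ)) a = a ^ (j * t ^ k % p) := by
    rw [← o, pow_mod_orderOf, MulAut.mul_apply, MulAut.mul_apply, MulAut.conj_apply, MulAut.conj_apply, ej, h4,
      mul_inv_cancel_right]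
  generalize MulAut.conj (b ^ k) * (MulAut.conj u * φ) = ψ at fa
  generalize j * t ^ k % p = e at fa he
  obtain ⟨l, hl⟩ := exists_pow_eq_self_of_coprime (x := a) (n := e) (by
    rw [o, Nat.coprime_comm, hp.coprime_iff_not_dvd, ← o, orderOf_dvd_iff_pow_eq_one, ← fa]; simpa using h0)
  have h5 := congrArg ψ h2
  rw [map_mul, map_mul, map_pow, fa, ← pow_mul, mul_comm e] at h5
  obtain ⟨i, hi, ei⟩ := ca (b⁻¹ * ψ b) (hl ▸ Commute.pow_right (by
    rw [Commute, SemiconjBy, mul_assoc, h5, inv_mul_eq_iff_eq_mul, ← mul_assoc, h3, mul_assoc, mul_inv_cancel_left]) l)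
  obtain ⟨k, -, hk⟩ := e2 i hi
  refine back _ (a ^ k) ((congrArg (· ∈ Inn G) (fin _ e he ?_ ?_)).mpr (one_mem _))
  · rw [MulAut.mul_apply, MulAut.conj_apply, fa]; group
  · rw [MulAut.mul_apply, MulAut.conj_apply, eq_mul_of_inv_mul_eq ei, h3, ← mul_assoc, ← pow_add, mul_inv_eq_iff_eq_mul,
      h3, ← pow_mod_orderOf, o, hk, ← o, pow_mod_orderOf]

theorem ev_subst (g : ℕ → G) (s : ℕ → List ℕ) : ∀ r : List ℕ, ev g (r.flatMap s) = ev (fun l => ev g (s l)) r
  | [] => rfl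
  | l :: r => by rw [List.flatMap_cons, ev_append, ev_cons, ev_subst g s r]

theorem ev_rep (g : ℕ → G) (x k : ℕ) : ev g (List.replicate k x) = g x ^ k := by simp [ev]

/-- the checks for the letters `0, 1, 2` -/
noncomputable def Mc.outB (M : Mc) (L : List ℕ) (p t y : ℕ) (E : List ℕ) (Ws Rs : List (List ℕ)) : Bool :=
  M.ptB y && !Nat.beq (M.appL (M.cw L [0]) y) y && M.weqB (M.cw L (List.replicate p 0)) (M.cw L []) &&
    M.weqB (M.cw L [1, 0]) (M.cw L (List.replicate t 0 ++ [1])) && M.weqB (M.cw L [2, 1]) (M.cw L [1, 2]) &&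
    (Rs.all fun r => r.all (· < 3) && M.weqB (M.cw L r) (M.cw L [])) &&
    E.all fun e => Ws.all fun w => (e == 1 && w == [2]) || Rs.any fun r =>
      !Nat.beq (M.appL (M.cw L (r.flatMap fun l => [List.replicate e 0, [1], w].getD l [])) y) y

include A I in
theorem out_of [Finite G] {S L : List ℕ} (hS : GenR M R S) (hL : InR R ⊤ L) {prog : List (List ℕ)} {idx : List ℕ}
    (hl : L.length = 3) (h1 : M.slpB prog L idx S = true) {p m t : ℕ} (hp : p.Prime) (hN : Nat.card G = p * m)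
    (hm : ¬ p ∣ m) {k y v k' y' v' z : ℕ} {B D B' D' E : List ℕ} {Ws Rs : List (List ℕ)}
    (h2 : M.centB n ρ L 0 k y v ((List.range p).map (List.replicate · 0)) B D = true)
    (h3 : M.centB n ρ L 1 k' y' v' Ws B' D' = true) (h4 : M.outB L p t z E Ws Rs = true)
    (e1 : ∀ j < p, j = 0 ∨ ∃ k < p, j * t ^ k % p ∈ E) (e2 : ∀ i < p, ∃ k < p, (k + t * i) % p = t * k % p) :
    Nat.card (Out G) = 1 := by
  obtain ⟨g, -, hg⟩ := A.exists_g hL
  simp only [Mc.outB, Bool.and_eq_true, List.all_eq_true, Bool.or_eq_true, List.any_eq_true, beq_iff_eq,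
    decide_eq_true_eq, Bool.not_eq_true', ← Bool.not_eq_true, Nat.beq_eq] at h4
  obtain ⟨⟨⟨⟨⟨⟨a1, a2⟩, a3⟩, a4⟩, a5⟩, a6⟩, a7⟩ := h4
  obtain ⟨ω, o⟩ := A.pt a1
  have ne : ∀ w, ev g w = 1 → M.appL (M.cw L w) z = z := fun w e =>
    A.inj (A.appL hg o w) (by rwa [e, one_smul]) (I.ok _) (I.ok _)
  have u : ∀ {a b x}, R a x → R b x → a = b := fun p q => A.faith _ _ fun _ _ _ r => A.fn (A.app p r) (A.app q r) (I.ok _)
  refine out_one (a := g 0) (b := g 1) (t := t) hp hN hm (fun e => a2 (ne _ (by simpa using e)))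
    (by simpa [ev_rep] using A.weqB hg a3) (by simpa [ev_rep] using A.weqB hg a4) (fun u hu => ?_) e1 e2
    fun φ e he fa fb => ?_
  · obtain ⟨_, hw, rfl⟩ := cent_spec A I hg h2 hu
    obtain ⟨i, hi, rfl⟩ := List.mem_map.1 hw
    exact ⟨i, List.mem_range.1 hi, ev_rep ..⟩
  obtain ⟨w, hw, fc⟩ := cent_spec A I hg h3 (u := φ (g 2)) (by
    rw [← fb]; exact Commute.map (show Commute (g 2) (g 1) by simpa [commute_iff_eq] using A.weqB hg a5) φ)
  rcases a7 e he w hw with ⟨rfl, rfl⟩ | ⟨r, hr, t⟩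
  · obtain ⟨s, b1, b2, b3⟩ := hS
    have := A.slpB (K := φ.toMonoidHom.eqLocus (.id _)) (fun x hx => by
      obtain ⟨i, hi, rfl⟩ := List.getElem_of_mem hx
      refine ⟨g i, ?_, by have := hg i; rwa [H17.nth_eq_getD, List.getD_eq_getElem _ _ hi] at this⟩
      rw [hl] at hi
      interval_cases i
      exacts [fa.trans (pow_one _), fb, fc.trans (by simp)]) h1
    obtain ⟨s', c1, c2⟩ := A.exists_g this
    exact MulEquiv.ext fun x => (b3.ge.trans ((closure_le _).2 (by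
      rintro _ ⟨i, rfl⟩; exact u (c2 i) (b1 i) ▸ c1 i)) (mem_top x) : x ∈ φ.toMonoidHom.eqLocus (.id _))
  · refine absurd (ne _ ?_) t
    rw [ev_subst, H17.ev_congr (h := fun l => φ (g l)) fun l hl => ?_,
      ← H17.map_ev' φ.toMonoidHom (g := g) (h := fun l => φ (g l)) fun _ => rfl, A.weqB hg (a6 r hr).2, ev_nil, map_one]
    have := (a6 r hr).1 l hl
    interval_cases l
    exacts [(ev_rep ..).trans fa.symm, by simpa using fb.symm, fc.symm]

end Cfsg.Agent.H27.Tl
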