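import Cfsg.Agent.H27.Sur
import Cfsg.Agent.H16.M24c

/-! Bounds for the Schur multiplier (generated certificate). -/

set_option autoImplicit false
set_option maxRecDepth 100000

namespace Cfsg.Agent.H27.TM11

open Cfsg H27.Tl

abbrev R : ↥(H16.K11) → ℕ → Prop := fun g x => H16.Rep H16.gpt 24 (g : M24) (H16.get 5 x)

theorem act : IsAct (Mc.perm 5 24 (List.range 24)) R (fun ω y => y < 24 ∧ H16.gpt y = ω) :=
  isAct_perm H16.five_le H16.gpt_inj _ (fun _ => List.mem_range.1)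
    fun g hg h => H16.faith_M24 _ g hg fun i hi => h i (List.mem_range.2 hi)

theorem S0_in : InR R ⊤ H16.m11S := inR_perm H16.m11S_inK

def sgN0 : List ℕ := [
  0x3da77512a18d109795a258dcc940c0,
  0x2be2b38e66b5da9a3888ac94283020,
  0xbadf4a91427164689da9b0e6883020,
  0xb2dd57c2262d124ba90d3ca6360820,
  0x2ccea5b1c9b448d7d506a42f218820,
  0xb5dd4799509d4895c5833c8ad40820,
  0x51e6f742c4a14728dd265b6ac40820,
  0x89caf71ac9acdb252c90b8e8860820,
  0xab9778c8a93d983a4ccd7915040820,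
  0x545f3a0ec67160c3ada4ba6b240820,
  0x75576518ac3dd28a3e449b63018820,
  0xbae957b6289ba44b1cd0524ac18820,
  0x8aa6fa22f2a96093ac8db31c618820,
  0x2bd47b11c65c5929d209aa2ed18820]
def sg0 : List ℕ := H16.m11S ++ sgN0
theorem sg0_in : InR R ⊤ sg0 := InR.append S0_in ((act).slpB S0_in (prog := [[0, 1], [2, 5], [0, 6], [5, 6], [7, 8], [7, 7], [8, 2], [3, 10], [1, 3], [0, 4], [13, 5], [0, 0], [0, 15], [8, 1]]) (idx := [13, 12, 11, 10, 9, 8, 7, 6, 5, 4, 3, 2, 1, 0]) (by decide +kernel))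

def C2 : Cert := ⟨⟨2, 3, 1, 0x110013101360, 4, 20⟩, 1, 4,
  0x8124,
  0x1153,
  0x5000400040004, 1⟩

def L2_0 : List ℕ := [
  0x51dee9a62cad0705de48b18a269020,
  0x72e973b1f22d60db44289a54430860,
  0x51df15a5c1b94669d5a8b428490980,
  0xadaee9b4ac552505bc6838624488c0,
  0x2da349caa9539a33be02586e4620c0,
  0xb2cef891437544d2d1889cae181920]
theorem L2_0_in : InR R ⊤ L2_0 := (act).slpB sg0_in (prog := [[18, 11, 6], [5, 13, 1], [4, 9, 7], [3, 17], [6, 5, 4, 18], [21, 15, 6, 13, 5, 8]]) (idx := [5, 4, 3, 2, 1, 0]) (by decide +kernel)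
def L2 : List ℕ := L2_0
theorem L2_in : InR R ⊤ L2 := L2_0_in

theorem rel2_0 : rangeB 0 4 ((Mc.perm 5 24 (List.range 24)).relRow C2 L2) = true := by decide +kernel
theorem rel2 : ∀ i < C2.n1 + 1, (Mc.perm 5 24 (List.range 24)).relRow C2 L2 i = true := by
  have := range_add (range_zero _) rel2_0
  exact this

theorem fus2_0 : rangeB 0 4 ((Mc.perm 5 24 (List.range 24)).fusB C2 L2) = true := by decide +kernel
theorem fus2 : ∀ i < C2.M, (Mc.perm 5 24 (List.range 24)).fusB C2 L2 i = true := by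
  have := range_add (range_zero _) fus2_0
  exact this

theorem crd2 : (Mc.perm 5 24 (List.range 24)).cardB 2 3 L2 [(2, [[0]]), (7, [[2], [1]]), (1, [[3]])] = true := by decide +kernel

def rw2_0 : List ℕ := [
  0x10000000,
  0x100000000000,
  0x1000000000001000,
  0x1000010000000100,
  0x1000100010000000,
  0x1000110001001000]
theorem rw2_0_ok : RowsOK C2 rw2_0 := RowsOK.ofA (A := [(4, 1, 1), (2, 2, 2), (2, 0, 0), (4, 0, 0), (2, 1, 2), (4, 0, 1)]) (by decide +kernel)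
def rw2_1 : List ℕ := [
  0x1001000110000100000,
  0x1001000100010000000,
  0x1000000000000001]
theorem rw2_1_ok : RowsOK C2 rw2_1 := RowsOK.ofB (A := [(4, [0, 0], [2]), (4, [1, 0], [0, 1, 2]), (5, [3, 3], [])]) (by decide +kernel)
def rw2 : List ℕ := rw2_0 ++ (rw2_1)
theorem rw2_ok : RowsOK C2 rw2 := rw2_0_ok.append (rw2_1_ok)

def Cs2 : List ℕ := [
  0x10000000000000000100,
  0x10000000000000110,
  16,
  256]
def Ws2 : List ℕ := []
def Lam2 : List (List ℕ) := [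
  [275, 0, 0, 23],
  [218, 61, 1],
  [27, 2],
  [19]]
theorem tgt2_0 : rangeB 0 4 (C2.tgtRow Cs2 (Ws2 ++ rw2) Lam2) = true := by decide +kernel
theorem tgt2 : ∀ i < C2.n1 + 1, C2.tgtRow Cs2 (Ws2 ++ rw2) Lam2 i = true := by
  have := range_add (range_zero _) tgt2_0
  exact this

theorem bnd2 : Bnd 2 [] ↥(H16.K11) :=
  (act).bnd (C := C2) (a := 1) H16.card_K11 L2_in (by norm_num : Nat.Prime 2) (by decide +kernel) rel2 fus2 crd2 rw2_ok
    (Lo := []) (by decide +kernel) tgt2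

def C3 : Cert := ⟨⟨3, 1, 2, 16, 5, 7⟩, 2, 3,
  0x414,
  281,
  0x300020002, 2⟩

def L3_0 : List ℕ := [
  0xaba9779a698ae04b29b23a0a118980,
  0xa3af59a6217ac92b1d902b54618900,
  0xbaab49c9e689c2c2d9247416810da0,
  0x752cb3a4a455cd0acdac7ca2818820]
theorem L3_0_in : InR R ⊤ L3_0 := (act).slpB sg0_in (prog := [[18, 11, 0, 3], [16, 9, 8, 6], [19, 15, 9, 2, 10], [7]]) (idx := [3, 2, 1, 0]) (by decide +kernel)
def L3 : List ℕ := L3_0
theorem L3_in : InR R ⊤ L3 := L3_0_in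

theorem rel3_0 : rangeB 0 2 ((Mc.perm 5 24 (List.range 24)).relRow C3 L3) = true := by decide +kernel
theorem rel3 : ∀ i < C3.n1 + 1, (Mc.perm 5 24 (List.range 24)).relRow C3 L3 i = true := by
  have := range_add (range_zero _) rel3_0
  exact this

theorem fus3_0 : rangeB 0 3 ((Mc.perm 5 24 (List.range 24)).fusB C3 L3) = true := by decide +kernel
theorem fus3 : ∀ i < C3.M, (Mc.perm 5 24 (List.range 24)).fusB C3 L3 i = true := by
  have := range_add (range_zero _) fus3_0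
  exact this

theorem crd3 : (Mc.perm 5 24 (List.range 24)).cardB 3 1 L3 [(15, [[0]]), (20, [[1]])] = true := by decide +kernel

def rw3_0 : List ℕ := [
  32,
  0x8001,
  0x8002]
theorem rw3_0_ok : RowsOK C3 rw3_0 := RowsOK.ofB (A := [(2, [1, 0], [0, 1]), (2, [0, 0, 0], []), (3, [2, 2, 2], [])]) (by decide +kernel)
def rw3 : List ℕ := rw3_0
theorem rw3_ok : RowsOK C3 rw3 := rw3_0_ok

def Cs3 : List ℕ := [
  0x40200000,
  0x80200000]
def Ws3 : List ℕ := []
def Lam3 : List (List ℕ) := [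
  [36, 2],
  [20]]
theorem tgt3_0 : rangeB 0 2 (C3.tgtRow Cs3 (Ws3 ++ rw3) Lam3) = true := by decide +kernel
theorem tgt3 : ∀ i < C3.n1 + 1, C3.tgtRow Cs3 (Ws3 ++ rw3) Lam3 i = true := by
  have := range_add (range_zero _) tgt3_0
  exact this

theorem bnd3 : Bnd 3 [] ↥(H16.K11) :=
  (act).bnd (C := C3) (a := 1) H16.card_K11 L3_in (by norm_num : Nat.Prime 3) (by decide +kernel) rel3 fus3 crd3 rw3_ok
    (Lo := []) (by decide +kernel) tgt3

end Cfsg.Agent.H27.TM11
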